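import Cfsg.Agent.Lib.Fgs9.HallNumbers
import Mathlib.GroupTheory.PGroup
import Mathlib.GroupTheory.Sylow
import Mathlib.NumberTheory.ArithmeticFunction.Defs

/-!
# S3250: chains of subgroups, and the maximality of a Sylow 2-subgroup of order `2 ^ 7`

Owner: helper21; proof in `notes/s3250_helper21.md`.
-/

set_option autoImplicit false
set_option linter.style.haveILetI false
set_option linter.unusedSectionVars false

open Subgroup

namespace Cfsg.Agent.Lib.LengthEight21

universe u

variable {G : Type u} [Group G]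

/-- A strictly increasing chain of length `n` from `⊥` to `B`. -/
inductive Chain : ℕ → Subgroup G → Prop where
  | zero : Chain 0 ⊥
  | succ {n : ℕ} {A B : Subgroup G} : Chain n A → A < B → Chain (n + 1) B

theorem Chain.mono {n : ℕ} {A B : Subgroup G} (h : Chain n A) (hAB : A ≤ B) :
    ∃ m, n ≤ m ∧ Chain m B := by
  rcases hAB.eq_or_lt with rfl | hlt
  · exact ⟨n, le_rfl, h⟩
  · exact ⟨n + 1, by omega, h.succ hlt⟩

theorem Chain.map {H : Type*} [Group H] (f : H →* G) (hf : Function.Injective f) {n : ℕ}
    {B : Subgroup H} (h : Chain n B) : Chain n (B.map f) := by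
  induction h with
  | zero => rw [Subgroup.map_bot]; exact .zero
  | succ _ hs ih => exact ih.succ ((Subgroup.map_lt_map_iff_of_injective hf).2 hs)

theorem Chain.comap {Q : Type*} [Group Q] (f : G →* Q) (hf : Function.Surjective f) {m : ℕ}
    (h0 : Chain m f.ker) {n : ℕ} {B : Subgroup Q} (h : Chain n B) :
    Chain (m + n) (B.comap f) := by
  induction h with
  | zero => exact h0
  | succ _ hs ih => exact ih.succ ((Subgroup.comap_lt_comap_of_surjective hf).2 hs)

theorem Chain.exists_strictMono {n : ℕ} {B : Subgroup G} (h : Chain n B) :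
    ∃ c : Fin (n + 1) → Subgroup G, StrictMono c ∧ c (Fin.last n) = B := by
  induction h with
  | zero => exact ⟨fun _ => ⊥, fun i j hij => absurd hij (by simp [Fin.fin_one_eq_zero i,
      Fin.fin_one_eq_zero j]), rfl⟩
  | @succ n A B _ hs ih =>
    obtain ⟨c, hc, hcA⟩ := ih
    refine ⟨Fin.snoc c B, ?_, Fin.snoc_last _ _⟩
    intro i j hij
    induction j using Fin.lastCases with
    | last =>
      induction i using Fin.lastCases with
      | last => exact absurd hij (lt_irrefl _)
      | cast i =>
        rw [Fin.snoc_last, Fin.snoc_castSucc]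
        exact lt_of_le_of_lt (hcA ▸ hc.monotone (Fin.le_last i)) hs
    | cast j =>
      induction i using Fin.lastCases with
      | last => exact absurd hij (not_lt.2 (Fin.le_last _))
      | cast i =>
        rw [Fin.snoc_castSucc, Fin.snoc_castSucc]
        exact hc (Fin.castSucc_lt_castSucc_iff.1 hij)

/-- A `2`-group of order `2 ^ k` has a chain of length `k`. -/
theorem Chain.of_pGroup [Finite G] : ∀ (k : ℕ) (P : Subgroup G), Nat.card P = 2 ^ k → Chain k P := by
  intro k
  induction k with
  | zero =>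
    intro P hP
    rw [Subgroup.eq_bot_of_card_eq P (by simpa using hP)]
    exact .zero
  | succ k ih =>
    intro P hP
    haveI : Fact (Nat.Prime 2) := ⟨Nat.prime_two⟩
    obtain ⟨A, hA⟩ := Sylow.exists_subgroup_card_pow_prime 2 (G := P) (n := k)
      (by rw [hP]; exact pow_dvd_pow 2 (Nat.le_succ k))
    have hAc : Nat.card (A.map P.subtype) = 2 ^ k := by
      rw [Subgroup.card_map_of_injective P.subtype_injective, hA]
    refine (ih _ hAc).succ (lt_of_le_of_ne (Subgroup.map_subtype_le A) fun h => ?_)
    rw [h, hP, pow_succ] at hAc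
    have := Nat.two_pow_pos k
    omega

/-- A solvable group has a chain as long as its number of prime factors. -/
theorem Chain.of_solvable : ∀ (N : ℕ) (X : Type u) [Group X] [Finite X] [Group.IsSolvable X],
    Nat.card X = N → Chain (ArithmeticFunction.cardFactors N) (⊤ : Subgroup X) := by
  intro N
  induction N using Nat.strong_induction_on with
  | _ N ih =>
    intro X _ _ _ hN
    by_cases h1 : Nontrivial X
    · obtain ⟨M, hMn, hMp⟩ := Fgs9.HallNumbers.exists_normal_prime_index X
      have hcard : Nat.card M * M.index = N := hN ▸ M.card_mul_index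
      have hlt : Nat.card M < N := by
        have := Nat.card_pos (α := M)
        have := hMp.two_le
        nlinarith
      have hc := (ih _ hlt M rfl).map M.subtype M.subtype_injective
      rw [← MonoidHom.range_eq_map, Subgroup.range_subtype] at hc
      have hMtop : M ≠ ⊤ := fun h => by
        rw [h, Subgroup.index_top] at hMp
        exact Nat.not_prime_one hMp
      rw [← hcard, ArithmeticFunction.cardFactors_mul Nat.card_pos.ne' hMp.pos.ne',
        ArithmeticFunction.cardFactors_apply_prime hMp]
      exact hc.succ (lt_top_iff_ne_top.2 hMtop)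
    · rw [not_nontrivial_iff_subsingleton] at h1
      obtain rfl : N = 1 := by rw [← hN]; exact Nat.card_of_subsingleton (1 : X)
      rw [ArithmeticFunction.cardFactors_one, Subsingleton.elim (⊤ : Subgroup X) ⊥]
      exact .zero

/-- The setting: a simple group of length at most eight with a Sylow 2-subgroup of order `2 ^ 7`. -/
structure Ctx (G : Type u) [Group G] [Finite G] where
  simple : IsSimpleGroup G
  nc : ¬ IsMulCommutative G
  len : ∀ c : Fin 10 → Subgroup G, ¬ StrictAnti c
  S : Sylow 2 G
  card_S : Nat.card ↥(S : Subgroup G) = 2 ^ 7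

namespace Ctx

variable [Finite G] (X : Ctx G)
include X

/-- The Sylow 2-subgroup as a subgroup. -/
abbrev SS : Subgroup G := (X.S : Subgroup G)

theorem chain_le_nine {n : ℕ} {B : Subgroup G} (h : Chain n B) : n ≤ 8 := by
  by_contra hn
  push Not at hn
  obtain ⟨c, hc, -⟩ := h.exists_strictMono
  refine X.len (fun i => c ⟨9 - i.val, by omega⟩) fun i j hij => ?_
  exact hc (show (9 - j.val : ℕ) < 9 - i.val by have := Fin.lt_def.1 hij; omega)

/-- A proper subgroup has length at most seven. -/
theorem chain_le {n : ℕ} {B : Subgroup G} (h : Chain n B) (hB : B ≠ ⊤) : n ≤ 7 := by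
  have := X.chain_le_nine (h.succ (lt_top_iff_ne_top.2 hB))
  omega

theorem center_eq_bot : Subgroup.center G = ⊥ := by
  haveI := X.simple
  refine ((inferInstance : (Subgroup.center G).Normal).eq_bot_or_eq_top).resolve_right fun h => X.nc ?_
  exact IsMulCommutative.of_comm fun a b =>
    (Subgroup.mem_center_iff.1 (h ▸ Subgroup.mem_top a : a ∈ Subgroup.center G) b).symm

theorem SS_ne_top : X.SS ≠ ⊤ := by
  intro h
  haveI : Fact (Nat.Prime 2) := ⟨Nat.prime_two⟩
  have hp : IsPGroup 2 G := fun g => by
    obtain ⟨k, hk⟩ := X.S.2 ⟨g, show g ∈ X.SS from h ▸ Subgroup.mem_top g⟩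
    exact ⟨k, by simpa [Subtype.ext_iff] using hk⟩
  haveI := X.simple
  haveI : Nontrivial G := IsSimpleGroup.toNontrivial
  exact (Subgroup.nontrivial_iff_ne_bot _).1 hp.center_nontrivial X.center_eq_bot

theorem eq_of_SS_le {K : Subgroup G} (h : X.SS ≤ K) : K = X.SS ∨ K = ⊤ := by
  rcases h.eq_or_lt with h1 | h1
  · exact Or.inl h1.symm
  · refine Or.inr (by_contra fun h2 => ?_)
    have := X.chain_le ((Chain.of_pGroup 7 _ X.card_S).succ h1) h2
    omega

theorem normalizer_ne_top {T : Subgroup G} (h1 : T ≠ ⊥) (h2 : T ≤ X.SS) :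
    Subgroup.normalizer (T : Set G) ≠ ⊤ := by
  intro h
  haveI := X.simple
  haveI : T.Normal := Subgroup.normalizer_eq_top_iff.1 h
  rcases Subgroup.Normal.eq_bot_or_eq_top (inferInstance : T.Normal) with h3 | h3
  · exact h1 h3
  · exact X.SS_ne_top (top_le_iff.1 (h3 ▸ h2))

/-- A non-trivial subgroup of `S` normalised by `S` has normaliser `S`. -/
theorem normalizer_eq {T : Subgroup G} (h1 : T ≠ ⊥) (h2 : T ≤ X.SS)
    (h3 : X.SS ≤ Subgroup.normalizer (T : Set G)) : Subgroup.normalizer (T : Set G) = X.SS :=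
  (X.eq_of_SS_le h3).resolve_right (X.normalizer_ne_top h1 h2)

/-- An involution of the centre of `S`. -/
def IsZ (z : G) : Prop := z ∈ X.SS ∧ orderOf z = 2 ∧ ∀ s ∈ X.SS, s * z = z * s

theorem centralizer_eq {z : G} (hz : z ∈ X.SS) (hz1 : z ≠ 1) (hc : ∀ s ∈ X.SS, s * z = z * s) :
    Subgroup.centralizer ({z} : Set G) = X.SS := by
  refine (X.eq_of_SS_le fun s hs => Subgroup.mem_centralizer_singleton_iff.2 (hc s hs)).resolve_right
    fun h => hz1 ?_
  have : z ∈ Subgroup.center G := Subgroup.mem_center_iff.2 fun g =>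
    Subgroup.mem_centralizer_singleton_iff.1 (h ▸ Subgroup.mem_top g)
  rwa [X.center_eq_bot, Subgroup.mem_bot] at this

theorem exists_isZ : ∃ z, X.IsZ z := by
  haveI : Fact (Nat.Prime 2) := ⟨Nat.prime_two⟩
  haveI : Nontrivial ↥X.SS := Finite.one_lt_card_iff_nontrivial.1 (by rw [X.card_S]; norm_num)
  haveI := X.S.2.center_nontrivial
  obtain ⟨k, hk⟩ := IsPGroup.iff_card.1 (X.S.2.to_subgroup (Subgroup.center ↥X.SS))
  have hk0 : k ≠ 0 := by
    rintro rfl
    have := Finite.one_lt_card (α := ↥(Subgroup.center ↥X.SS))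
    simp [hk] at this
  obtain ⟨z, hz⟩ := exists_prime_orderOf_dvd_card' (G := ↥(Subgroup.center ↥X.SS)) 2
    (hk ▸ dvd_pow_self 2 hk0)
  refine ⟨((z : ↥X.SS) : G), (z : ↥X.SS).2, by rw [Subgroup.orderOf_coe, Subgroup.orderOf_coe, hz],
    fun s hs => congrArg Subtype.val (Subgroup.mem_center_iff.1 z.2 ⟨s, hs⟩)⟩

/-- A subgroup containing a central involution of `S` has a 2-group as centraliser. -/
theorem isPGroup_centralizer {C : Subgroup G} {z : G} (hz : X.IsZ z) (hzC : z ∈ C) :
    IsPGroup 2 (Subgroup.centralizer (C : Set G)) := by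
  refine X.S.2.to_le ?_
  show Subgroup.centralizer (C : Set G) ≤ X.SS
  rw [← X.centralizer_eq hz.1 (fun h => by
    have := hz.2.1; rw [h, orderOf_one] at this; omega) hz.2.2]
  exact Subgroup.centralizer_le (Set.singleton_subset_iff.2 hzC)

end Ctx

end Cfsg.Agent.Lib.LengthEight21
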