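import Cfsg.Agent.Lib.LengthEight21.Half

/-!
# S3250: the three cases of a non-trivial fixed subgroup

Owner: helper21; proof in `notes/s3250_helper21.md`.
-/

set_option autoImplicit false
set_option linter.style.haveILetI false
set_option linter.unusedSectionVars false

open Subgroup

namespace Cfsg.Agent.Lib.LengthEight21

open Fusion.Alperin

universe u

variable {G : Type u} [Group G]

theorem Ctx.card_le_64 [Finite G] (X : Ctx G) {K : Subgroup G} (hK : K ≤ X.SS) (hne : K ≠ X.SS) :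
    Nat.card K ≤ 64 := by
  haveI : Fact (Nat.Prime 2) := ⟨Nat.prime_two⟩
  obtain ⟨r, hr⟩ := IsPGroup.iff_card.1 (X.S.2.to_le hK)
  have h := lt_of_le_of_ne (Subgroup.card_le_of_le hK) fun he =>
    hne (Subgroup.eq_of_le_of_card_ge hK he.ge)
  rw [hr, X.card_S, Nat.pow_lt_pow_iff_right (by norm_num)] at h
  rw [hr]
  exact Nat.pow_le_pow_right two_pos (by omega : r ≤ 6)

theorem invol_eq_inv {i : G} (hi : i * i = 1) : i⁻¹ = i := inv_eq_of_mul_eq_one_right hi

namespace Frame

variable [Finite G] {X : Ctx G} {M T : Subgroup G} {x d y : G} (F : Frame X M T x d y)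
include F

theorem exists_not_R1 (h : Nat.card (Tz T y) ≤ 4) : ∃ s ∈ X.SS, s ∉ X.R1 T := by
  by_contra hno
  push Not at hno
  have h1 := Subgroup.card_le_of_le (show X.SS ≤ X.R1 T from hno)
  rw [X.card_S, F.card_R1] at h1
  omega

theorem isEA_T (h : ∀ t ∈ Tz T y, t * t = 1) : IsEA T := fun t ht => by
  obtain ⟨s, hs, e⟩ := F.sq_of_T ht
  rw [e]; exact h s hs

/-- `x` cannot move `T ⊓ T'` if `T` is elementary. -/
theorem false_of_moved (hEA : IsEA T) {p : G} (hp : p ∈ T ⊓ conjS x T) (hxp : x * p ≠ p * x) :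
    False := by
  haveI : Fact (Nat.Prime 2) := ⟨Nat.prime_two⟩
  have hne : X.R1 T ≠ X.SS := fun h => by
    obtain ⟨s, hs, hs'⟩ := F.exists_not_R1 F.card_Tz_le
    exact hs' (h ▸ hs)
  obtain ⟨s, ⟨hsS, hsN⟩, hsR1⟩ := SetLike.exists_of_lt
    (lt_inf_normalizer X.S.2 (lt_of_le_of_ne inf_le_left hne))
  set E := conjS s T with hE
  have hER1 : E ≤ X.R1 T :=
    (conjS_mono (F.worst.T_le.trans F.res_le_R1)).trans (conjS_eq_of_mem_normalizer hsN).le
  have hER : ¬ E ≤ X.Res T := fun h => hsR1 (F.mem_R1_of_conj_le hsS h)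
  obtain ⟨e, he, heR⟩ := SetLike.not_le_iff_exists.1 hER
  have hEea : IsEA E := hEA.conj s
  have hcE : Nat.card E ≤ 2 * Nat.card (E ⊓ X.Res T : Subgroup G) :=
    card_le_two_of_mul_mem inf_le_left fun a ha b hb haD hbD => ⟨mul_mem ha hb,
      F.R1_index (hER1 ha) (hER1 hb) (fun h => haD ⟨ha, h⟩) fun h => hbD ⟨hb, h⟩⟩
  have hle : E ⊓ X.Res T ≤ T ⊓ conjS x T := fun q hq =>
    F.mem_inf_of_fixed (hER1 he) heR (hEea.comm he hq.1) (F.invol_res hq.2 (hEea q hq.1))
  have heq : E ⊓ X.Res T = T ⊓ conjS x T := by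
    refine Subgroup.eq_of_le_of_card_ge hle ?_
    rw [(card_conjS s T : Nat.card E = Nat.card T), F.two_mul_card_inf] at hcE
    omega
  exact hxp (F.x_fix_inf (hER1 he) heR hp (hEea.comm he (heq.ge hp).1))

theorem not_fixed_by_SS {c : G} (hc : c ∈ Tz T y) (hc1 : c ≠ 1) :
    X.SS ⊓ Subgroup.centralizer {c} ≠ X.SS := by
  intro h
  refine hc1 ?_
  have h2 := F.no_normal (Subgroup.zpowers c) (Subgroup.zpowers_le.2 hc) fun s hs => ?_
  · rwa [Subgroup.zpowers_eq_bot] at h2
  · exact Subgroup.centralizer_le_normalizer _ (Subgroup.mem_centralizer_iff.2 fun q hq => by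
      obtain ⟨j, rfl⟩ := Subgroup.mem_zpowers_iff.1 hq
      exact (Commute.zpow_left (show Commute c s from
        (Subgroup.mem_centralizer_singleton_iff.1 (h.ge hs).2).symm) j).eq)

theorem R1_le_centralizer {c : G} (hc : c ∈ T ⊓ conjS x T) (hxc : x * c = c * x) :
    X.R1 T ≤ X.SS ⊓ Subgroup.centralizer {c} := fun g hg =>
  ⟨hg.1, Subgroup.mem_centralizer_singleton_iff.2 (F.central hc hxc hg)⟩

theorem false_of_elementary_four (hEA : IsEA T) (h4 : Nat.card (Tz T y) = 4) : False := by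
  haveI : Fact (Nat.Prime 2) := ⟨Nat.prime_two⟩
  by_cases hfix : ∀ p ∈ T ⊓ conjS x T, x * p = p * x
  swap
  · push Not at hfix
    obtain ⟨p, hp, hxp⟩ := hfix
    exact F.false_of_moved hEA hp hxp
  obtain ⟨s, hs, hsR1⟩ := F.exists_not_R1 F.card_Tz_le
  have hhalf : X.IsHalf (X.R1 T) := X.isHalf_of_card inf_le_left (by rw [F.card_R1, h4])
  have hcen : ∀ p ∈ T ⊓ conjS x T, ∀ g ∈ X.R1 T, g * p = p * g := fun p hp g hg =>
    F.central hp (hfix p hp) hg
  have hTzI : Tz T y ≤ T ⊓ conjS x T := le_inf inf_le_left F.Tz_le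
  have hsI : conjS s (Tz T y) ≤ T ⊓ conjS x T := by
    rintro _ ⟨t, ht, rfl⟩
    refine F.mem_inf_of_central fun g hg => ?_
    show g * (s * t * s⁻¹) = s * t * s⁻¹ * g
    have hg' : s⁻¹ * g * s ∈ X.R1 T :=
      (Subgroup.mem_normalizer_iff''.1 (X.normalizer_of_half hhalf hs) g).1 hg
    calc g * (s * t * s⁻¹) = s * (s⁻¹ * g * s * t) * s⁻¹ := by group
      _ = s * (t * (s⁻¹ * g * s)) * s⁻¹ := by rw [hcen t (hTzI ht) _ hg']
      _ = s * t * s⁻¹ * g := by group
  set D := Tz T y ⊓ conjS s (Tz T y) with hD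
  have hDc : Nat.card (Tz T y) ≤ 2 * Nat.card D := card_le_two_of_mul_mem inf_le_left
    fun p hp q hq hpD hqD => ⟨mul_mem hp hq, mul_mem_of_card_le_two hsI
      (by rw [card_conjS, F.card_inf]) (hTzI hp) (hTzI hq) (fun h => hpD ⟨hp, h⟩)
      fun h => hqD ⟨hq, h⟩⟩
  have hR1D : X.R1 T ≤ Subgroup.normalizer (D : Set G) := fun g hg =>
    Subgroup.centralizer_le_normalizer _ (Subgroup.mem_centralizer_iff.2 fun q hq =>
      (hcen q (hTzI hq.1) g hg).symm)
  have hsD : s ∈ Subgroup.normalizer (D : Set G) := by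
    refine mem_normalizer_of_conjS_eq ?_
    rw [hD, conjS, Subgroup.map_inf_eq _ _ _ (MulEquiv.injective _)]
    refine (congrArg₂ (· ⊓ ·) (rfl : conjS s (Tz T y) = conjS s (Tz T y)) ?_).trans (inf_comm _ _)
    show conjS s (conjS s (Tz T y)) = Tz T y
    rw [← conjS_mul]
    refine conjS_eq_of_mem_normalizer (Subgroup.centralizer_le_normalizer _
      (Subgroup.mem_centralizer_iff.2 fun q hq => (hcen q (hTzI hq) _
        (hhalf.2.2 s hs s hs hsR1 hsR1)).symm))
  have hbot := F.no_normal D inf_le_left fun g hg => by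
    by_cases hgR1 : g ∈ X.R1 T
    · exact hR1D hgR1
    · have h2 := mul_mem (hR1D (hhalf.2.2 g hg s hs hgR1 hsR1)) (inv_mem hsD)
      rwa [mul_inv_cancel_right] at h2
  rw [hbot, Subgroup.card_bot, h4] at hDc
  omega

theorem half_of_cyclic_four (h4 : Nat.card (Tz T y) = 4) {f : G} (hf : f ∈ Tz T y)
    (hf2 : f * f ≠ 1) : X.IsHalf (X.R1 T) ∧ X.NoFour (X.R1 T) := by
  classical
  have hhalf : X.IsHalf (X.R1 T) := X.isHalf_of_card inf_le_left (by rw [F.card_R1, h4])
  refine ⟨hhalf, ?_⟩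
  obtain ⟨c, hc⟩ : ∃ c, c = f * f := ⟨_, rfl⟩
  have hcTz : c ∈ Tz T y := hc ▸ mul_mem hf hf
  have hc1 : c ≠ 1 := hc ▸ hf2
  have hf4 : f ^ 4 = 1 := by
    have := congrArg Subtype.val (pow_card_eq_one' (G := ↥(Tz T y)) (x := ⟨f, hf⟩))
    rwa [Subgroup.coe_pow, h4] at this
  have hcc : c * c = 1 := by
    rw [hc, ← hf4]; simp only [pow_succ, pow_zero, one_mul, mul_assoc]
  have hfc : f ≠ c := fun h => by
    rw [hc] at h
    exact hf2 (by rw [show f = 1 from left_eq_mul.1 h, mul_one])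
  have hf1 : f ≠ 1 := fun h => hf2 (by rw [h, mul_one])
  have hlist : ∀ t ∈ Tz T y, t = 1 ∨ t = f ∨ t = c ∨ t = f * c := by
    have hsub : ({1, f, c, f * c} : Set G) ⊆ (Tz T y : Set G) := by
      rintro t (rfl | rfl | rfl | rfl)
      · exact one_mem _
      · exact hf
      · exact hcTz
      · exact mul_mem hf hcTz
    have h1fc : (1 : G) ≠ f * c := fun h => hfc (by
      rw [← invol_eq_inv hcc]; exact eq_inv_of_mul_eq_one_left h.symm)
    have hcard : ({1, f, c, f * c} : Set G).ncard = 4 := by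
      rw [Set.ncard_insert_of_notMem (by simp [Ne.symm hf1, Ne.symm hc1, h1fc]),
        Set.ncard_insert_of_notMem (by simp [hfc, hc1]),
        Set.ncard_pair (fun h => hf1 (mul_eq_right.1 h.symm))]
    have heq := Set.eq_of_subset_of_ncard_le hsub
      (by rw [hcard, ← Nat.card_coe_set_eq]; exact h4.le) (Set.toFinite _)
    intro t ht
    have h : t ∈ ({1, f, c, f * c} : Set G) := by rw [heq]; exact ht
    simpa using h
  have hff : (f * c) * (f * c) = c := by
    have : Commute f c := by rw [hc]; exact (Commute.refl f).mul_right (Commute.refl f)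
    rw [show f * c * (f * c) = f * (c * f) * c by group, ← this.eq,
      show f * (f * c) * c = f * f * (c * c) by group, hcc, mul_one, hc]
  have hTz4 : ∀ t ∈ Tz T y, t * t = 1 ∨ t * t = c := fun t ht => by
    rcases hlist t ht with rfl | rfl | rfl | rfl
    · exact Or.inl (one_mul 1)
    · exact Or.inr hc.symm
    · exact Or.inl hcc
    · exact Or.inr hff
  have hTz : ∀ t ∈ Tz T y, t * t = 1 → t = 1 ∨ t = c := fun t ht h => by
    rcases hlist t ht with rfl | rfl | rfl | rfl
    · exact Or.inl rfl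
    · exact absurd h hf2
    · exact Or.inr rfl
    · exact absurd (hff.symm.trans h) hc1
  have hcI : c ∈ T ⊓ conjS x T := ⟨hcTz.1, F.Tz_le hcTz⟩
  have hfI : f ∈ T ⊓ conjS x T := ⟨hf.1, F.Tz_le hf⟩
  have hIsq : ∀ p ∈ T ⊓ conjS x T, p * p = 1 ∨ p * p = c := fun p hp => by
    obtain ⟨t, ht, e⟩ := F.sq_of_T hp.1
    rw [e]; exact hTz4 t ht
  have hR1x : x ∈ X.R1 T := ⟨F.xS, F.xN⟩
  have hxc : x * c = c * x := by
    have h1 := hIsq _ (F.conj_inf hR1x hfI)
    rw [show x * f * x⁻¹ * (x * f * x⁻¹) = x * (f * f) * x⁻¹ by group, ← hc] at h1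
    rcases h1 with h1 | h1
    · exact absurd (conj_eq_one_iff.1 h1) hc1
    · exact mul_inv_eq_iff_eq_mul.1 h1
  have hK : X.SS ⊓ Subgroup.centralizer {c} = X.R1 T :=
    (Subgroup.eq_of_le_of_card_ge (F.R1_le_centralizer hcI hxc)
      ((X.card_le_64 inf_le_left (F.not_fixed_by_SS hcTz hc1)).trans
        (by rw [F.card_R1, h4]))).symm
  have hic : ∀ i ∈ X.SS, i ∉ X.R1 T → i * c ≠ c * i := fun i hi hiR1 h =>
    hiR1 (hK.le ⟨hi, Subgroup.mem_centralizer_singleton_iff.2 h⟩)
  have hxf : x * f ≠ f * x := by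
    intro h
    obtain ⟨s, hs, hsR1⟩ := F.exists_not_R1 F.card_Tz_le
    have h1 : s * f * s⁻¹ ∈ T ⊓ conjS x T := F.mem_inf_of_central fun g hg => by
      have hg' : s⁻¹ * g * s ∈ X.R1 T :=
        (Subgroup.mem_normalizer_iff''.1 (X.normalizer_of_half hhalf hs) g).1 hg
      calc g * (s * f * s⁻¹) = s * (s⁻¹ * g * s * f) * s⁻¹ := by group
        _ = s * (f * (s⁻¹ * g * s)) * s⁻¹ := by rw [F.central hfI h hg']
        _ = s * f * s⁻¹ * g := by group
    have h2 := hIsq _ h1
    rw [show s * f * s⁻¹ * (s * f * s⁻¹) = s * (f * f) * s⁻¹ by group, ← hc] at h2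
    rcases h2 with h2 | h2
    · exact hc1 (conj_eq_one_iff.1 h2)
    · exact hic s hs hsR1 (mul_inv_eq_iff_eq_mul.1 h2)
  have hCf : ∀ q ∈ X.R1 T, q * f = f * q → q ∈ X.Res T := fun q hq hqf => by
    by_contra h
    exact hxf (F.x_fix_inf hq h hfI hqf)
  intro i hi hiR1 hi2 E hE hEA hE4 hcomm
  have hiN := X.normalizer_of_half hhalf hi
  have hii : i⁻¹ = i := invol_eq_inv hi2
  refine F.false_of_centralized hcTz hxc hTz hTz4 hi hiN hiR1 hi2 (hic i hi hiR1) ?_ hE hEA hE4 hcomm
  -- `g = i f i` lies in `R`, so `T ⊓ T'` commutes with it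
  obtain ⟨g, hg⟩ : ∃ g, g = i * f * i⁻¹ := ⟨_, rfl⟩
  have hgR1 : g ∈ X.R1 T :=
    hg ▸ (Subgroup.mem_normalizer_iff.1 hiN f).1 (F.res_le_R1 (F.worst.T_le hfI.1))
  have hcomm' : ∀ r ∈ X.Res T, (i * r * i⁻¹) * g = g * (i * r * i⁻¹) := fun r hr => by
    rw [hg, show i * r * i⁻¹ * (i * f * i⁻¹) = i * (r * f) * i⁻¹ by group,
      ← F.inf_comm_res hfI.1 hfI.2 hr]
    group
  set R' := conjS i (X.Res T) with hR'
  have hR'le : R' ≤ X.R1 T :=
    (conjS_mono F.res_le_R1).trans (conjS_eq_of_mem_normalizer hiN).le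
  have hcomm'' : ∀ q ∈ R', q * g = g * q := by
    rintro _ ⟨r, hr, rfl⟩
    exact hcomm' r hr
  have hgR : g ∈ X.Res T := by
    by_contra hgR
    have hfR' : f ∉ R' := fun h => hgR (hCf g hgR1 (hcomm'' f h).symm)
    obtain ⟨d', hd'T, hd'I, hd'R'⟩ : ∃ d' ∈ T, d' ∉ conjS x T ∧ d' ∈ R' := by
      by_cases h : d ∈ R'
      · exact ⟨d, F.dV.1, F.dI, h⟩
      · refine ⟨d * f, mul_mem F.dV.1 hf.1,
          fun h' => F.dI ((Subgroup.mul_mem_cancel_right _ (F.Tz_le hf)).1 h'),
          mul_mem_of_card_le_two hR'le ?_ (F.res_le_R1 (F.worst.T_le F.dV.1))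
            (F.res_le_R1 (F.worst.T_le hf.1)) h hfR'⟩
        rw [hR', card_conjS, F.card_R1, F.card_R]
        omega
    exact hd'I (F.mem_inf_of_fixed hgR1 hgR (hcomm'' d' hd'R').symm (Or.inl hd'T)).2
  intro p hp
  have hpR1 : i⁻¹ * p * i ∈ X.R1 T :=
    (Subgroup.mem_normalizer_iff''.1 hiN p).1 (F.res_le_R1 (F.worst.T_le hp.1))
  refine mem_conjS.2 (hCf _ hpR1 ?_)
  have e := F.inf_comm_res hp.1 hp.2 hgR
  rw [hg] at e
  calc i⁻¹ * p * i * f = i⁻¹ * (p * (i * f * i⁻¹)) * i := by group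
    _ = i⁻¹ * (i * f * i⁻¹ * p) * i := by rw [e]
    _ = f * (i⁻¹ * p * i) := by group

theorem inf_list {u z : G} (h2 : Nat.card (Tz T y) = 2) (hu : u ∈ Tz T y) (hu1 : u ≠ 1)
    (hz : z ∈ T ⊓ conjS x T) (hz1 : z ≠ 1) (hzu : z ≠ u) (hzz : z * z = 1) :
    ∀ p ∈ T ⊓ conjS x T, p = 1 ∨ p = u ∨ p = z ∨ p = z * u := by
  classical
  have huI : u ∈ T ⊓ conjS x T := ⟨hu.1, F.Tz_le hu⟩
  have hsub : ({1, u, z, z * u} : Set G) ⊆ ((T ⊓ conjS x T : Subgroup G) : Set G) := by
    rintro t (rfl | rfl | rfl | rfl)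
    · exact one_mem _
    · exact huI
    · exact hz
    · exact mul_mem hz huI
  have hcard : ({1, u, z, z * u} : Set G).ncard = 4 := by
    rw [Set.ncard_insert_of_notMem (by
        simp only [Set.mem_insert_iff, Set.mem_singleton_iff, not_or]
        exact ⟨Ne.symm hu1, Ne.symm hz1, fun h => hzu (by
          rw [← invol_eq_inv hzz]; exact (eq_inv_of_mul_eq_one_right h.symm).symm)⟩),
      Set.ncard_insert_of_notMem (by
        simp only [Set.mem_insert_iff, Set.mem_singleton_iff, not_or]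
        exact ⟨Ne.symm hzu, fun h => hz1 (mul_eq_right.1 h.symm)⟩),
      Set.ncard_pair (fun h => hu1 (left_eq_mul.1 h))]
  have heq := Set.eq_of_subset_of_ncard_le hsub
    (by rw [hcard, ← Nat.card_coe_set_eq]; exact (F.card_inf.trans (by rw [h2])).le) (Set.toFinite _)
  intro p hp
  have h : p ∈ ({1, u, z, z * u} : Set G) := by rw [heq]; exact hp
  simpa using h

set_option maxHeartbeats 800000 in
theorem half_of_two (h2 : Nat.card (Tz T y) = 2) : ∃ K, X.IsHalf K ∧ X.NoFour K := by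
  classical
  haveI : Fact (Nat.Prime 2) := ⟨Nat.prime_two⟩
  have hne : Tz T y ≠ ⊥ := fun h => by rw [h, Subgroup.card_bot] at h2; omega
  obtain ⟨u, hu, hu1⟩ := (Subgroup.bot_or_exists_ne_one (Tz T y)).resolve_left hne
  have hlist : ∀ t ∈ Tz T y, t = 1 ∨ t = u := by
    intro t ht
    have hsub : ({1, u} : Set G) ⊆ (Tz T y : Set G) := by
      rintro q (rfl | rfl)
      · exact one_mem _
      · exact hu
    have heq := Set.eq_of_subset_of_ncard_le hsub
      (by rw [Set.ncard_pair (Ne.symm hu1), ← Nat.card_coe_set_eq]; exact h2.le) (Set.toFinite _)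
    have h : t ∈ ({1, u} : Set G) := by rw [heq]; exact ht
    simpa using h
  have huu : u * u = 1 := (hlist _ (mul_mem hu hu)).resolve_right fun h => hu1 (mul_eq_left.1 h)
  have hTz1 : ∀ t ∈ Tz T y, t * t = 1 := fun t ht => by
    rcases hlist t ht with rfl | rfl
    · exact one_mul 1
    · exact huu
  have hEA := F.isEA_T hTz1
  have hfix : ∀ p ∈ T ⊓ conjS x T, x * p = p * x := fun p hp => by
    by_contra h
    exact F.false_of_moved hEA hp h
  have hcen : ∀ p ∈ T ⊓ conjS x T, ∀ g ∈ X.R1 T, g * p = p * g := fun p hp g hg =>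
    F.central hp (hfix p hp) hg
  have huI : u ∈ T ⊓ conjS x T := ⟨hu.1, F.Tz_le hu⟩
  have hTz : ∀ t ∈ Tz T y, t * t = 1 → t = 1 ∨ t = u := fun t ht _ => hlist t ht
  have hTz4 : ∀ t ∈ Tz T y, t * t = 1 ∨ t * t = u := fun t ht => Or.inl (hTz1 t ht)
  obtain ⟨K, hKdef⟩ : ∃ K, K = X.SS ⊓ Subgroup.centralizer {u} := ⟨_, rfl⟩
  have hKS : K ≤ X.SS := hKdef ▸ inf_le_left
  have hR1K : X.R1 T ≤ K := hKdef ▸ F.R1_le_centralizer huI (hfix u huI)
  have hKne : K ≠ X.SS := hKdef ▸ F.not_fixed_by_SS hu hu1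
  have hKu : ∀ i ∈ X.SS, i * u = u * i → i ∈ K := fun i hi h =>
    hKdef ▸ ⟨hi, Subgroup.mem_centralizer_singleton_iff.2 h⟩
  -- `T ⊓ T' = {1, u, z, z u}`
  obtain ⟨z, hz⟩ := X.exists_isZ
  have hzI : z ∈ T ⊓ conjS x T :=
    F.mem_inf_of_comm (fun t ht => hz.2.2 t (F.worst.loc.1 ht)) (hz.2.2 _ F.tau_res.1).symm
  have hz1 : z ≠ 1 := fun h => by have := hz.2.1; rw [h, orderOf_one] at this; omega
  have hzu : z ≠ u := fun h => hKne (le_antisymm hKS fun s hs => hKu s hs (h ▸ hz.2.2 s hs))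
  have hzz : z * z = 1 := by rw [← pow_two, ← hz.2.1, pow_orderOf_eq_one]
  have hI := F.inf_list h2 hu hu1 hzI hz1 hzu hzz
  obtain ⟨j, hj⟩ := IsPGroup.iff_card.1 (X.S.2.to_le hKS)
  have hlo : 32 ≤ Nat.card K := by
    have := Subgroup.card_le_of_le hR1K
    rw [F.card_R1, h2] at this
    exact this
  have hhi := X.card_le_64 hKS hKne
  have hj56 : j = 5 ∨ j = 6 := by
    rw [hj] at hlo hhi
    have h5 : 5 ≤ j := (Nat.pow_le_pow_iff_right (by norm_num : 1 < 2)).1 hlo
    have h6 : j ≤ 6 := (Nat.pow_le_pow_iff_right (by norm_num : 1 < 2)).1 hhi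
    omega
  rcases hj56 with rfl | rfl
  · -- `C_S(u) = R₁` of order `32` is impossible
    exfalso
    have hKR1 : K = X.R1 T := (Subgroup.eq_of_le_of_card_ge hR1K (by
      rw [hj, F.card_R1, h2]; norm_num)).symm
    set N2 := X.SS ⊓ Subgroup.normalizer (X.R1 T : Set G) with hN2
    have hN2ne : N2 ≠ X.SS := by
      intro hN
      have himg : ∀ q ∈ X.SS, q ∉ K → q * u * q⁻¹ = z * u := by
        intro q hq hqK
        have hqI : q * u * q⁻¹ ∈ T ⊓ conjS x T := F.mem_inf_of_central fun g hg => by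
          have hg' : q⁻¹ * g * q ∈ X.R1 T :=
            (Subgroup.mem_normalizer_iff''.1 (hN.ge hq).2 g).1 hg
          calc g * (q * u * q⁻¹) = q * (q⁻¹ * g * q * u) * q⁻¹ := by group
            _ = q * (u * (q⁻¹ * g * q)) * q⁻¹ := by rw [hcen u huI _ hg']
            _ = q * u * q⁻¹ * g := by group
        rcases hI _ hqI with h | h | h | h
        · exact absurd (conj_eq_one_iff.1 h) hu1
        · exact absurd (hKu q hq (mul_inv_eq_iff_eq_mul.1 h)) hqK
        · refine absurd ?_ hzu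
          calc z = q⁻¹ * (q * z) := by group
            _ = q⁻¹ * (z * q) := by rw [hz.2.2 q hq]
            _ = q⁻¹ * (q * u * q⁻¹ * q) := by rw [h]
            _ = u := by group
        · exact h
      have hcard : Nat.card X.SS ≤ 2 * Nat.card K := card_le_two_of_mul_mem hKS
        fun p hp q hq hpK hqK => hKu _ (mul_mem hp hq) (mul_inv_eq_iff_eq_mul.1 (by
          rw [show p * q * u * (p * q)⁻¹ = p * (q * u * q⁻¹) * p⁻¹ by group, himg q hq hqK,
            show p * (z * u) * p⁻¹ = (p * z) * p⁻¹ * (p * u * p⁻¹) by group, hz.2.2 p hp,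
            mul_inv_cancel_right, himg p hp hpK, ← mul_assoc, hzz, one_mul]))
      rw [X.card_S, hj] at hcard
      norm_num at hcard
    obtain ⟨g, ⟨hgS, hgN⟩, hgN2⟩ := SetLike.exists_of_lt
      (lt_inf_normalizer X.S.2 (lt_of_le_of_ne inf_le_left hN2ne))
    have hR1N2 : X.R1 T ≤ N2 := fun r hr => ⟨hr.1, Subgroup.le_normalizer hr⟩
    have hN2idx : ∀ E : Subgroup G, E ≤ N2 → IsEA E → Nat.card E = 8 → E ≤ X.R1 T := by
      intro E hEN hEea hE8
      by_contra hle
      obtain ⟨i, hiE, hiR1⟩ := SetLike.not_le_iff_exists.1 hle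
      have hiS : i ∈ X.SS := (hEN hiE).1
      have hiN : i ∈ Subgroup.normalizer (X.R1 T : Set G) := (hEN hiE).2
      have hi2 : i * i = 1 := hEea i hiE
      have hI' : T ⊓ conjS x T ≤ conjS i (X.Res T) := fun p hp => by
        refine mem_conjS.2 (F.worst.T_le (F.mem_inf_of_central fun g hg => ?_).1)
        have hg' : i * g * i⁻¹ ∈ X.R1 T := (Subgroup.mem_normalizer_iff.1 hiN g).1 hg
        calc g * (i⁻¹ * p * i) = i⁻¹ * (i * g * i⁻¹ * p) * i := by group
          _ = i⁻¹ * (p * (i * g * i⁻¹)) * i := by rw [hcen p hp _ hg']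
          _ = i⁻¹ * p * i * g := by group
      have hic : i * u ≠ u * i := fun h => hiR1 (hKR1 ▸ hKu i hiS h)
      -- a four subgroup of `E ⊓ R₁`
      have hcE : 4 ≤ Nat.card (E ⊓ X.R1 T : Subgroup G) := by
        have hN2c : Nat.card N2 ≤ 64 := X.card_le_64 inf_le_left hN2ne
        have hc' := card_le_two_of_mul_mem (D := E ⊓ X.R1 T) (A := E) inf_le_left
          fun a ha b hb haD hbD => ⟨mul_mem ha hb, mul_mem_of_card_le_two hR1N2
            (hN2c.trans (by rw [F.card_R1, h2])) (hEN ha) (hEN hb) (fun h => haD ⟨ha, h⟩)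
            fun h => hbD ⟨hb, h⟩⟩
        omega
      obtain ⟨E4, hE4⟩ := Sylow.exists_subgroup_card_pow_prime 2
        (G := (E ⊓ X.R1 T : Subgroup G)) (n := 2) (by
          obtain ⟨k, hk⟩ := IsPGroup.iff_card.1
            (X.S.2.to_le ((inf_le_left : E ⊓ X.R1 T ≤ E).trans (hEN.trans inf_le_left)))
          rw [hk] at hcE ⊢
          exact pow_dvd_pow 2 ((Nat.pow_le_pow_iff_right (by norm_num : 1 < 2)).1 hcE))
      have hE4le : E4.map (E ⊓ X.R1 T).subtype ≤ E ⊓ X.R1 T := Subgroup.map_subtype_le _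
      exact F.false_of_centralized hu (hfix u huI) hTz hTz4 hiS hiN hiR1 hi2 hic hI'
        (hE4le.trans inf_le_right) (fun a ha => hEea a (hE4le ha).1)
        (by rw [Subgroup.card_map_of_injective (Subgroup.subtype_injective _), hE4]; norm_num)
        fun a ha => hEea.comm hiE (hE4le ha).1
    -- `R₁` is generated by elementary subgroups of order eight of its normaliser
    have hR1ne : X.R1 T < X.SS := lt_of_le_of_ne inf_le_left fun h => by
      obtain ⟨s, hs, hs'⟩ := F.exists_not_R1 F.card_Tz_le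
      exact hs' (h ▸ hs)
    obtain ⟨s, hsN2, hsR1⟩ := SetLike.exists_of_lt (lt_inf_normalizer X.S.2 hR1ne)
    have hsR : ¬ conjS s T ≤ X.Res T := fun h => hsR1 (F.mem_R1_of_conj_le hsN2.1 h)
    obtain ⟨h0, hh0, hh0R⟩ := SetLike.not_le_iff_exists.1 hsR
    have hTN : T ≤ N2 := (F.worst.T_le.trans F.res_le_R1).trans hR1N2
    have hT'N : conjS x T ≤ N2 := (F.conj_T_le.trans F.res_le_R1).trans hR1N2
    have hsTR1 : conjS s T ≤ X.R1 T :=
      (conjS_mono (F.worst.T_le.trans F.res_le_R1)).trans (conjS_eq_of_mem_normalizer hsN2.2).le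
    have hT8 : Nat.card T = 8 := by rw [F.card_T, h2]
    have hgen : ∀ E : Subgroup G, E ≤ N2 → IsEA E → Nat.card E = 8 →
        E ≤ (X.R1 T).comap (MulAut.conj g).toMonoidHom := fun E hE hEea hE8 =>
      Subgroup.map_le_iff_le_comap.1 (hN2idx (conjS g E)
        ((conjS_mono hE).trans (conjS_eq_of_mem_normalizer hgN).le) (hEea.conj g)
        ((card_conjS g E).trans hE8))
    have hTL := hgen T hTN hEA hT8
    have hT'L := hgen (conjS x T) hT'N (hEA.conj x) ((card_conjS _ _).trans hT8)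
    have hsL := hgen (conjS s T) (hsTR1.trans hR1N2) (hEA.conj s) ((card_conjS _ _).trans hT8)
    have hRL : X.Res T ≤ (X.R1 T).comap (MulAut.conj g).toMonoidHom := fun r hr => by
      rcases F.res_split hr with h | h
      · exact hTL h
      · have := mul_mem (hTL h) (inv_mem (hT'L (conj_mem_conjS (g := x) F.dV.1)))
        rwa [mul_inv_cancel_right] at this
    refine hgN2 ⟨hgS, mem_normalizer_of_conjS_eq (Subgroup.eq_of_le_of_card_ge
      (Subgroup.map_le_iff_le_comap.2 fun r hr => ?_) (card_conjS _ _).ge)⟩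
    by_cases hrR : r ∈ X.Res T
    · exact hRL hrR
    · have := mul_mem (hsL hh0) (hRL (F.inv_mul_R1 (hsTR1 hh0) hr hh0R hrR))
      rwa [mul_inv_cancel_left] at this
  · -- `C_S(u)` has order `64`
    have hK64 : Nat.card K = 64 := by rw [hj]; norm_num
    have hhalf := X.isHalf_of_card hKS hK64
    refine ⟨K, hhalf, fun i hi hiK hi2 E hE hEA' hE4 hcomm => ?_⟩
    have hKR1 : Nat.card K ≤ 2 * Nat.card (X.R1 T) := by rw [hK64, F.card_R1, h2]
    have hKcen : ∀ p ∈ T ⊓ conjS x T, ∀ k ∈ K, k * p = p * k := by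
      intro p hp k hk
      have c1 : Commute k u := Subgroup.mem_centralizer_singleton_iff.1 (hKdef ▸ hk).2
      have c2 : Commute k z := hz.2.2 k (hKS hk)
      rcases hI p hp with rfl | rfl | rfl | rfl
      · rw [mul_one, one_mul]
      · exact c1.eq
      · exact c2.eq
      · exact (c2.mul_right c1).eq
    have hconjI : ∀ {s : G}, s ∈ X.SS → ∀ p ∈ T ⊓ conjS x T, s * p * s⁻¹ ∈ T ⊓ conjS x T := by
      intro s hs p hp
      refine F.mem_inf_of_central fun g hg => ?_
      have hg' : s⁻¹ * g * s ∈ K :=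
        (Subgroup.mem_normalizer_iff''.1 (X.normalizer_of_half hhalf hs) g).1 (hR1K hg)
      calc g * (s * p * s⁻¹) = s * (s⁻¹ * g * s * p) * s⁻¹ := by group
        _ = s * (p * (s⁻¹ * g * s)) * s⁻¹ := by rw [hKcen p hp _ hg']
        _ = s * p * s⁻¹ * g := by group
    have hleI : ∀ {s : G}, s ∈ X.SS → T ⊓ conjS x T ≤ conjS s (X.Res T) := fun hs p hp =>
      mem_conjS.2 (F.worst.T_le (by simpa using (hconjI (inv_mem hs) p hp).1))
    have hsq : ∀ {s : G}, s ∈ X.SS → ∀ h ∈ conjS s (X.Res T), h * h ∈ T ⊓ conjS x T := by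
      rintro s hs _ ⟨r, hr, rfl⟩
      rw [← map_mul]
      refine hconjI hs _ ?_
      rcases F.sq_of_R hTz4 hr with e | e | e | e <;> rw [e]
      · exact one_mem _
      · exact huI
      · exact F.v_mem_inf
      · exact mul_mem F.v_mem_inf huI
    have hT_gen : ∀ t ∈ T, ∀ e ∈ T, e ∉ conjS x T →
        t ∈ T ⊓ conjS x T ∨ t * e ∈ T ⊓ conjS x T := fun t ht e he he' => by
      by_cases h : t ∈ conjS x T
      · exact Or.inl ⟨ht, h⟩
      · exact Or.inr ⟨mul_mem ht he, F.inf_index ht he h he'⟩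
    -- an involution outside `K` fixes no element of `T ∖ T'`
    have hnoT : ∀ j ∈ X.SS, j ∉ K → ∀ e ∈ T, e ∉ conjS x T → j * e ≠ e * j := by
      intro j hjS hjK e he he' hje
      refine hjK (hR1K (F.mem_R1_of_normalizes hjS (Or.inl
        (Subgroup.eq_of_le_of_card_ge ?_ (card_conjS _ _).ge))))
      rintro _ ⟨t, ht, rfl⟩
      show j * t * j⁻¹ ∈ T
      rcases hT_gen t ht e he he' with h | h
      · exact (hconjI hjS t h).1
      · have h' := (hconjI hjS _ h).1
        rw [show j * (t * e) * j⁻¹ = j * t * j⁻¹ * (j * e * j⁻¹) by group, hje,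
          mul_inv_cancel_right] at h'
        exact (Subgroup.mul_mem_cancel_right T he).1 h'
    have hEI : ¬ E ≤ T ⊓ conjS x T := fun hle => by
      have heq := Subgroup.eq_of_le_of_card_ge hle (by rw [F.card_inf, h2, hE4])
      exact hiK (hKu i hi (hcomm u (heq ▸ huI)))
    obtain ⟨e, he, heI⟩ := SetLike.not_le_iff_exists.1 hEI
    have hie : i * e = e * i := hcomm e he
    have hee : e * e = 1 := hEA' e he
    have hei : e⁻¹ = e := invol_eq_inv hee
    have heS : e ∈ X.SS := hKS (hE he)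
    have hxK : x ∈ K := hR1K ⟨F.xS, F.xN⟩
    have heR : e ∉ X.Res T := by
      intro heR
      rcases F.invol_res heR hee with h | h
      · exact hnoT i hi hiK e h (fun h' => heI ⟨h, h'⟩) hie
      · have hj : x⁻¹ * i * x ∉ K := fun h' => hiK (by
          have := K.mul_mem (K.mul_mem hxK h') (K.inv_mem hxK)
          rwa [show x * (x⁻¹ * i * x) * x⁻¹ = i by group] at this)
        refine hnoT (x⁻¹ * i * x) (Subgroup.mul_mem _ (Subgroup.mul_mem _
          (Subgroup.inv_mem _ F.xS) hi) F.xS) hj (x⁻¹ * e * x) (mem_conjS.1 h) (fun h' => ?_) ?_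
        · have h3 := conj_mem_conjS (g := x) h'
          rw [F.conj_conjT, show x * (x⁻¹ * e * x) * x⁻¹ = e by group] at h3
          exact heI ⟨h3, h⟩
        · calc x⁻¹ * i * x * (x⁻¹ * e * x) = x⁻¹ * (i * e) * x := by group
            _ = x⁻¹ * (e * i) * x := by rw [hie]
            _ = x⁻¹ * e * x * (x⁻¹ * i * x) := by group
    have hnorm : ∀ k ∈ K, conjS k (X.R1 T) = X.R1 T := by
      intro k hk
      refine Subgroup.eq_of_le_of_card_ge ?_ (card_conjS _ _).ge
      rintro _ ⟨p, hp, rfl⟩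
      show k * p * k⁻¹ ∈ X.R1 T
      by_cases hkR1 : k ∈ X.R1 T
      · exact (X.R1 T).mul_mem ((X.R1 T).mul_mem hkR1 hp) ((X.R1 T).inv_mem hkR1)
      · exact mul_mem_of_card_le_two hR1K hKR1 (K.mul_mem hk (hR1K hp)) (K.inv_mem hk)
          (fun h => hkR1 ((Subgroup.mul_mem_cancel_right _ hp).1 h))
          fun h => hkR1 ((Subgroup.inv_mem_iff _).1 h)
    have conjR : ∀ {s : G}, s ∈ K → conjS s (X.Res T) ≤ X.R1 T := fun hs =>
      (conjS_mono F.res_le_R1).trans (hnorm _ hs).le
    have neR : ∀ {s : G}, s ∈ X.SS → s ∉ X.R1 T → conjS s (X.Res T) ≠ X.Res T := fun hs hs' h =>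
      hs' ⟨hs, mem_normalizer_of_conjS_eq h⟩
    have hiR1 : i ∉ X.R1 T := fun h => hiK (hR1K h)
    obtain ⟨R1', hR1'⟩ : ∃ A, A = conjS i (X.R1 T) := ⟨_, rfl⟩
    by_cases hsame : R1' = X.R1 T
    · -- `i` normalises `R₁`
      have hle : conjS i (X.Res T) ≤ X.R1 T :=
        (conjS_mono F.res_le_R1).trans (hR1'.symm.trans hsame).le
      obtain ⟨O1, O2, O3⟩ := F.other hle (card_conjS _ _) (neR hi hiR1) (hleI hi) (hsq hi)
      by_cases heR1 : e ∈ X.R1 T
      · exact heR ((mem_conjS_iff_of_comm hie).1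
          (O1 e heR1 heR (by rw [hee]; exact one_mem _)))
      · obtain ⟨-, P2, -⟩ := F.other (conjR (hE he)) (card_conjS _ _) (neR heS heR1) (hleI heS)
          (hsq heS)
        have heq : conjS e (X.Res T) = conjS i (X.Res T) := by
          refine Subgroup.eq_of_le_of_card_ge (fun p hp => ?_) (by rw [card_conjS, card_conjS])
          by_cases hpR : p ∈ X.Res T
          · rcases P2 p hp hpR with h | h
            · exact hleI hi h
            · exact O3 p hpR h.1 h.2
          · exact O1 p (conjR (hE he) hp) hpR (hsq heS p hp)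
        have h1 : i * e ∈ X.R1 T := ⟨mul_mem hi heS, mem_normalizer_of_conjS_eq (by
          rw [conjS_mul, heq, conjS_invol hi2])⟩
        exact hiK ((Subgroup.mul_mem_cancel_right K (hE he)).1 (hR1K h1))
    · -- the two halves of `C_S(u)`
      have hR1'K : R1' ≤ K := hR1'.le.trans
        ((conjS_mono hR1K).trans (conjS_eq_of_mem_normalizer (X.normalizer_of_half hhalf hi)).le)
      have hR1'c : Nat.card K ≤ 2 * Nat.card R1' := by rw [hR1', card_conjS]; exact hKR1
      set D := X.R1 T ⊓ R1' with hD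
      have hiD : conjS i D = D := by
        rw [hD, conjS, Subgroup.map_inf_eq _ _ _ (MulEquiv.injective _)]
        refine (congrArg₂ (· ⊓ ·) (hR1'.symm : conjS i (X.R1 T) = R1') ?_).trans (inf_comm _ _)
        show conjS i R1' = X.R1 T
        rw [hR1', conjS_invol hi2]
      have hnorm' : ∀ k ∈ K, conjS k R1' = R1' := by
        intro k hk
        have hk' : i⁻¹ * k * i ∈ K :=
          (Subgroup.mem_normalizer_iff''.1 (X.normalizer_of_half hhalf hi) k).1 hk
        rw [hR1', ← conjS_mul, show k * i = i * (i⁻¹ * k * i) by group, conjS_mul, hnorm _ hk']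
      have hDnorm : ∀ k ∈ K, conjS k D = D := fun k hk => by
        rw [hD, conjS, Subgroup.map_inf_eq _ _ _ (MulEquiv.injective _)]
        exact congrArg₂ (· ⊓ ·) (hnorm k hk) (hnorm' k hk)
      have hDidx : ∀ p ∈ X.R1 T, ∀ q ∈ X.R1 T, p ∉ D → q ∉ D → p * q ∈ D :=
        fun p hp q hq hpD hqD => ⟨mul_mem hp hq, mul_mem_of_card_le_two hR1'K hR1'c (hR1K hp)
          (hR1K hq) (fun h => hpD ⟨hp, h⟩) fun h => hqD ⟨hq, h⟩⟩
      have hIR1 : T ⊓ conjS x T ≤ X.R1 T :=
        (inf_le_left.trans F.worst.T_le).trans F.res_le_R1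
      have hID : T ⊓ conjS x T ≤ D :=
        le_inf hIR1 ((hleI hi).trans ((conjS_mono F.res_le_R1).trans hR1'.ge))
      have hDlt : D ≠ X.R1 T := fun h => hsame (Subgroup.eq_of_le_of_card_ge
        (inf_eq_left.1 h : X.R1 T ≤ R1') (by rw [hR1', card_conjS])).symm
      have hDcard : Nat.card D ≤ Nat.card (X.Res T) := by
        obtain ⟨m, hm⟩ := Subgroup.card_dvd_of_le (inf_le_left : D ≤ X.R1 T)
        have hm0 : m ≠ 0 := fun h => by
          rw [h, mul_zero] at hm
          have := Nat.card_pos (α := X.R1 T); omega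
        have hm1 : m ≠ 1 := fun h => hDlt (Subgroup.eq_of_le_of_card_ge inf_le_left
          (by rw [h, mul_one] at hm; exact hm.le))
        have : 2 * Nat.card D ≤ m * Nat.card D := Nat.mul_le_mul_right _ (by omega)
        rw [F.card_R1] at hm
        rw [F.card_R]
        rw [mul_comm m] at this
        linarith
      have hdD : d ∉ D := by
        intro h
        have hτD : x * d * x⁻¹ ∈ D := (hDnorm x hxK).le (conj_mem_conjS h)
        have hTD : T ≤ D := fun t ht => by
          rcases hT_gen t ht d F.dV.1 F.dI with h' | h'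
          · exact hID h'
          · exact (Subgroup.mul_mem_cancel_right D h).1 (hID h')
        have hRD : X.Res T ≤ D := fun r hr => by
          rcases F.res_split hr with h' | h'
          · exact hTD h'
          · exact (Subgroup.mul_mem_cancel_right D hτD).1 (hTD h')
        have heq := Subgroup.eq_of_le_of_card_ge hRD hDcard
        exact neR hi hiR1 (by rw [heq]; exact hiD)
      have hdR1 : d ∈ X.R1 T := F.res_le_R1 (F.worst.T_le F.dV.1)
      have hτD : x * d * x⁻¹ ∉ D := fun h => hdD (by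
        have := conj_mem_conjS (g := x⁻¹) h
        rw [hDnorm _ (K.inv_mem hxK), show x⁻¹ * (x * d * x⁻¹) * x⁻¹⁻¹ = d by group] at this
        exact this)
      have hdτD : d * (x * d * x⁻¹) ∈ D :=
        hDidx d hdR1 _ (F.res_le_R1 F.tau_res) hdD hτD
      have hthird : ∀ k ∈ X.Res T, k ∉ T → k ∉ conjS x T → k ∈ D := fun k hk h1 h2 => by
        have h := D.mul_mem (hID (F.third_coset hk (mul_mem (F.worst.T_le F.dV.1) F.tau_res) h1 h2
          F.dtau_not.1 F.dtau_not.2)) hdτD
        rwa [inv_mul_cancel_right] at h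
      -- `e` centralises `i`, so lies in both halves or in neither
      have heiff : e ∈ R1' ↔ e ∈ X.R1 T := by rw [hR1']; exact mem_conjS_iff_of_comm hie
      by_cases heR1 : e ∈ X.R1 T
      · -- then `D` is a conjugate of `R`
        have heD : e ∈ D := ⟨heR1, heiff.2 heR1⟩
        obtain ⟨g, hgK, hgR1⟩ := SetLike.not_le_iff_exists.1 fun h : K ≤ X.R1 T => by
          have := Subgroup.card_le_of_le h
          rw [hK64, F.card_R1, h2] at this
          omega
        obtain ⟨P1, P2, -⟩ := F.other (conjR hgK) (card_conjS _ _) (neR (hKS hgK) hgR1)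
          (hleI (hKS hgK)) (hsq (hKS hgK))
        have hin : ∀ k ∈ conjS g (X.Res T), k ∈ X.Res T → k ∈ D := fun k hk hkR => by
          rcases P2 k hk hkR with h | h
          · exact hID h
          · exact hthird k hkR h.1 h.2
        have he2 := P1 e heR1 heR (by rw [hee]; exact one_mem _)
        have hle : conjS g (X.Res T) ≤ D := fun p hp => by
          by_cases hpR : p ∈ X.Res T
          · exact hin p hp hpR
          · have h1 := hin (e * p) (mul_mem he2 hp) (F.R1_index heR1 (conjR hgK hp) heR hpR)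
            exact (Subgroup.mul_mem_cancel_left D heD).1 h1
        have heq := Subgroup.eq_of_le_of_card_ge hle (by rw [card_conjS]; exact hDcard)
        have hRD : X.Res T = D := Subgroup.map_injective (MulEquiv.injective _)
          (heq.trans (hDnorm g hgK).symm)
        exact heR (hRD ▸ heD)
      · -- `e d` lies in the second half and its square in `T ⊓ T'`
        obtain ⟨P1, P2, P3⟩ := F.other (conjR (hE he)) (card_conjS _ _) (neR heS heR1) (hleI heS)
          (hsq heS)
        obtain ⟨r1, hr1⟩ : ∃ r, r = e * d * e⁻¹ := ⟨_, rfl⟩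
        have hr1' : r1 ∈ conjS e (X.Res T) := hr1 ▸ conj_mem_conjS (F.worst.T_le F.dV.1)
        have hr1D : r1 ∉ D := fun h => hdD (by
          have := conj_mem_conjS (g := e) h
          rwa [hDnorm e (hE he), hr1, show e * (e * d * e⁻¹) * e⁻¹ = (e * e) * d * (e * e)⁻¹ by group,
            hee, one_mul, inv_one, mul_one] at this)
        have hr1R : r1 ∉ X.Res T := fun h => heR1 (F.mem_R1_of_conj_le heS (by
          rintro _ ⟨t, ht, rfl⟩
          show e * t * e⁻¹ ∈ X.Res T
          have hIc : ∀ p ∈ T ⊓ conjS x T, e * p * e⁻¹ ∈ X.Res T := fun p hp =>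
            F.worst.T_le (hconjI heS p hp).1
          rcases hT_gen t ht d F.dV.1 F.dI with h' | h'
          · exact hIc t h'
          · have := hIc _ h'
            rw [show e * (t * d) * e⁻¹ = e * t * e⁻¹ * (e * d * e⁻¹) by group, ← hr1] at this
            exact (Subgroup.mul_mem_cancel_right _ h).1 this))
        have hr1R1 : r1 ∈ X.R1 T := conjR (hE he) hr1'
        have hsquare : ∀ p ∈ X.R1 T, p ∉ D → p * p ∈ T ⊓ conjS x T := by
          intro p hp hpD
          by_cases hpR : p ∈ X.Res T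
          · exact (by simpa [conjS_one] using hsq (one_mem X.SS) p (by rw [conjS_one]; exact hpR))
          · refine hsq heS p ?_
            have hkR : r1⁻¹ * p ∈ X.Res T := F.inv_mul_R1 hr1R1 hp hr1R hpR
            have hkD : r1⁻¹ * p ∈ D := hDidx _ (inv_mem hr1R1) p hp
              (fun h => hr1D ((Subgroup.inv_mem_iff D).1 h)) hpD
            suffices r1⁻¹ * p ∈ conjS e (X.Res T) by
              have := mul_mem hr1' this
              rwa [mul_inv_cancel_left] at this
            by_cases hk : r1⁻¹ * p ∈ T ∨ r1⁻¹ * p ∈ conjS x T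
            · refine hleI heS ?_
              rcases hk with hk | hk
              · rcases hT_gen _ hk d F.dV.1 F.dI with h' | h'
                · exact h'
                · exact absurd ((Subgroup.mul_mem_cancel_left D hkD).1 (hID h')) hdD
              · by_contra hkI
                obtain ⟨k', hk', hk'e⟩ := hk
                change x * k' * x⁻¹ = r1⁻¹ * p at hk'e
                have hk'D : k' ∈ D := by
                  have := conj_mem_conjS (g := x⁻¹) hkD
                  rwa [hDnorm _ (K.inv_mem hxK), ← hk'e,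
                    show x⁻¹ * (x * k' * x⁻¹) * x⁻¹⁻¹ = k' by group] at this
                rcases hT_gen k' hk' d F.dV.1 F.dI with h' | h'
                · exact hkI (hk'e ▸ F.conj_inf ⟨F.xS, F.xN⟩ h')
                · exact hdD ((Subgroup.mul_mem_cancel_left D hk'D).1 (hID h'))
            · push Not at hk
              exact P3 _ hkR hk.1 hk.2
        have hed : e * d ∈ R1' := mul_mem_of_card_le_two hR1'K hR1'c (hE he) (hR1K hdR1)
          (fun h => heR1 (heiff.1 h)) fun h => hdD ⟨hdR1, h⟩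
        have h0 : i⁻¹ * (e * d) * i ∈ X.R1 T := mem_conjS.1 (hR1' ▸ hed)
        have h0D : i⁻¹ * (e * d) * i ∉ D := fun h => heR1 ((Subgroup.mul_mem_cancel_right _ hdR1).1
          (show e * d ∈ X.R1 T by
            have := hiD.le (conj_mem_conjS (g := i) h)
            rw [show i * (i⁻¹ * (e * d) * i) * i⁻¹ = e * d by group] at this
            exact this.1))
        have h1 := hconjI hi _ (hsquare _ h0 h0D)
        rw [show i * (i⁻¹ * (e * d) * i * (i⁻¹ * (e * d) * i)) * i⁻¹ = e * d * (e * d) by group,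
          show e * d * (e * d) = (e * d * e) * d by group] at h1
        refine hr1R ?_
        rw [hr1, hei]
        exact F.worst.T_le ((Subgroup.mul_mem_cancel_right T F.dV.1).1 h1.1)

/-- A non-trivial fixed subgroup gives a half without four groups centralised from outside. -/
theorem exists_half (h : Tz T y ≠ ⊥) : ∃ K, X.IsHalf K ∧ X.NoFour K := by
  haveI : Fact (Nat.Prime 2) := ⟨Nat.prime_two⟩
  obtain ⟨k, hk⟩ := IsPGroup.iff_card.1
    ((X.S.2.to_le F.worst.loc.1).to_le (inf_le_left : Tz T y ≤ T))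
  have h4 := F.card_Tz_le
  rw [hk] at h4
  have hk2 : k ≤ 2 := (Nat.pow_le_pow_iff_right (by norm_num : 1 < 2)).1 h4
  interval_cases k
  · exact absurd (Subgroup.eq_bot_of_card_eq _ (by rw [hk, pow_zero])) h
  · exact F.half_of_two (by rw [hk, pow_one])
  · by_cases hEA : ∀ t ∈ Tz T y, t * t = 1
    · exact (F.false_of_elementary_four (F.isEA_T hEA) (by rw [hk]; norm_num)).elim
    · push Not at hEA
      obtain ⟨f, hf, hf2⟩ := hEA
      exact ⟨_, F.half_of_cyclic_four (by rw [hk]; norm_num) hf hf2⟩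

end Frame

end Cfsg.Agent.Lib.LengthEight21
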