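import Cfsg.Agent.Lib.LengthEight21.Cases
import Cfsg.Agent.Lib.PGroups.MaximalClass

/-!
# S3250: a Sylow 2-subgroup of maximal class, with all involutions conjugate

Owner: helper21; proof in `notes/s3250_helper21.md`.
-/

set_option autoImplicit false
set_option linter.style.haveILetI false
set_option linter.unusedSectionVars false

open Subgroup

namespace Cfsg.Agent.Lib.LengthEight21

open Fusion.Alperin

universe u

variable {G : Type u} [Group G]

theorem invol_unique_of_cyclic [Finite G] {C : Subgroup G} [IsCyclic C] {a b : G} (ha : a ∈ C)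
    (hb : b ∈ C) (ha2 : a * a = 1) (hb2 : b * b = 1) (ha1 : a ≠ 1) (hb1 : b ≠ 1) : a = b :=
  congrArg Subtype.val (eq_of_sq_eq_one (x := (⟨a, ha⟩ : C)) (y := (⟨b, hb⟩ : C))
    (Subtype.ext (by rw [pow_two]; exact ha2)) (Subtype.ext (by rw [pow_two]; exact hb2))
    (fun h => ha1 (congrArg Subtype.val h)) fun h => hb1 (congrArg Subtype.val h))

namespace Frame

variable [Finite G] {X : Ctx G} {M T : Subgroup G} {x d y : G} (F : Frame X M T x d y)
include F

/-- A non-trivial fixed subgroup gives an elementary subgroup of order at least eight in `T`. -/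
theorem exists_large (h : Tz T y ≠ ⊥) : ∃ U ≤ T, IsEA U ∧ Mv T y ≤ U ∧ 8 ≤ Nat.card U := by
  haveI : Fact (Nat.Prime 2) := ⟨Nat.prime_two⟩
  obtain ⟨k, hk⟩ := IsPGroup.iff_card.1
    ((X.S.2.to_le F.worst.loc.1).to_le (inf_le_left : Tz T y ≤ T))
  have hk0 : k ≠ 0 := fun e => h (Subgroup.eq_bot_of_card_eq _ (by rw [hk, e, pow_zero]))
  obtain ⟨u, hu⟩ := exists_prime_orderOf_dvd_card' (G := ↥(Tz T y)) 2 (hk ▸ dvd_pow_self 2 hk0)
  have huu : (u : G) * u = 1 := by
    rw [← pow_two, ← Subgroup.coe_pow, ← hu, pow_orderOf_eq_one, Subgroup.coe_one]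
  have hu1 : (u : G) ≠ 1 := fun e => by
    rw [← Subgroup.orderOf_coe, e, orderOf_one] at hu
    omega
  refine ⟨Mv T y ⊔ Subgroup.zpowers (u : G), sup_le ((Mv_le T y).trans (Vc_le T))
    (Subgroup.zpowers_le.2 u.2.1), ?_, le_sup_left, ?_⟩
  · refine IsEA.sup (fun m hm => (Mv_le T y hm).2.1) (fun a ha => ?_) fun a ha b hb => ?_
    · obtain ⟨i, rfl⟩ := Subgroup.mem_zpowers_iff.1 ha
      rw [← (Commute.refl (u : G)).mul_zpow, huu, one_zpow]
    · exact (F.Mv_comm ha ((Subgroup.zpowers_le.2 u.2.1) hb)).symm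
  · have hS : Mv T y ⊔ Subgroup.zpowers (u : G) ≤ X.SS :=
      (sup_le ((Mv_le T y).trans (Vc_le T)) (Subgroup.zpowers_le.2 u.2.1)).trans F.worst.loc.1
    obtain ⟨j, hj⟩ := IsPGroup.iff_card.1 (X.S.2.to_le hS)
    have hlt : Nat.card (Mv T y) < Nat.card (Mv T y ⊔ Subgroup.zpowers (u : G) : Subgroup G) :=
      lt_of_le_of_ne (Subgroup.card_le_of_le le_sup_left) fun e => hu1 (F.Mv_inf_Tz
        ((Subgroup.eq_of_le_of_card_ge le_sup_left e.ge).ge
          (Subgroup.mem_sup_right (Subgroup.mem_zpowers _))) u.2)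
    rw [F.cardMv, hj, show (4 : ℕ) = 2 ^ 2 by norm_num,
      Nat.pow_lt_pow_iff_right (by norm_num : 1 < 2)] at hlt
    rw [hj]
    exact (show (8 : ℕ) = 2 ^ 3 by norm_num) ▸ Nat.pow_le_pow_right two_pos (by omega : 3 ≤ j)

/-- Such a member cannot change a half without four groups centralised from outside. -/
theorem Tz_eq_bot_of_noFour (hN : X.NoFour M) : Tz T y = ⊥ := by
  haveI : Fact (Nat.Prime 2) := ⟨Nat.prime_two⟩
  by_contra h
  obtain ⟨U, hUT, hU, hMvU, hU8⟩ := F.exists_large h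
  obtain ⟨i, hi, hiM⟩ := SetLike.not_le_iff_exists.1 F.Mv_not_le
  have hUS : U ≤ X.SS := hUT.trans F.worst.loc.1
  have hc := card_le_two_of_mul_mem (D := U ⊓ M) (A := U) inf_le_left
    fun a ha b hb haD hbD => ⟨mul_mem ha hb, F.worst.half.2.2 a (hUS ha) b (hUS hb)
      (fun e => haD ⟨ha, e⟩) fun e => hbD ⟨hb, e⟩⟩
  obtain ⟨k, hk⟩ := IsPGroup.iff_card.1 (X.S.2.to_le ((inf_le_left : U ⊓ M ≤ U).trans hUS))
  obtain ⟨E, hE⟩ := Sylow.exists_subgroup_card_pow_prime 2 (G := (U ⊓ M : Subgroup G)) (n := 2) (by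
    rw [hk] at hc ⊢
    refine pow_dvd_pow 2 ?_
    by_contra hk2
    interval_cases k <;> omega)
  have hEle : E.map (U ⊓ M).subtype ≤ U ⊓ M := Subgroup.map_subtype_le _
  refine hN i (F.worst.loc.1 (Mv_le T y hi).1) hiM (Mv_le T y hi).2.1 (E.map (U ⊓ M).subtype)
    (hEle.trans inf_le_right) (fun a ha => hU a (hEle ha).1)
    (by rw [Subgroup.card_map_of_injective (Subgroup.subtype_injective _), hE]; norm_num)
    fun a ha => hU.comm (hMvU hi) (hEle ha).1

theorem conj_Mv_of_bot (h : Tz T y = ⊥) {z m : G} (hz : z ∈ T) (hz1 : z ≠ 1) (hm : m ∈ Mv T y)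
    (hm1 : m ≠ 1) : IsConj z m := by
  classical
  obtain ⟨a, ha, t, ht, rfl⟩ := F.decomp hz
  rw [h, Subgroup.mem_bot] at ht
  subst ht
  rw [mul_one] at hz1 ⊢
  have h1 := conj_mem_Mv F.yN F.y3 ha
  have h2 := conj_mem_Mv F.yN F.y3 h1
  have ne1 : y * a * y⁻¹ ≠ a := fun e => hz1 (eq_one_of_fixed F.yN F.y3 ha e)
  have ne2 : y * (y * a * y⁻¹) * y⁻¹ ≠ y * a * y⁻¹ := fun e => ne1 (by
    have := congrArg (fun w => y⁻¹ * w * y) e
    simpa [mul_assoc] using this)
  have ne3 : y * (y * a * y⁻¹) * y⁻¹ ≠ a := fun e => ne1 (by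
    have h3 := conj3 F.yN F.y3 a
    rwa [e] at h3)
  have hsub : ({1, a, y * a * y⁻¹, y * (y * a * y⁻¹) * y⁻¹} : Set G) ⊆ (Mv T y : Set G) := by
    rintro q (rfl | rfl | rfl | rfl)
    · exact one_mem _
    · exact ha
    · exact h1
    · exact h2
  have e1 : y * a * y⁻¹ ≠ 1 := fun e => hz1 (conj_eq_one_iff.1 e)
  have e2 : y * (y * a * y⁻¹) * y⁻¹ ≠ 1 := fun e => e1 (conj_eq_one_iff.1 e)
  have heq := Set.eq_of_subset_of_ncard_le hsub (by
    rw [Set.ncard_insert_of_notMem (by simp [Ne.symm hz1, Ne.symm e1, Ne.symm e2]),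
      Set.ncard_insert_of_notMem (by simp [Ne.symm ne1, Ne.symm ne3]),
      Set.ncard_pair (Ne.symm ne2), ← Nat.card_coe_set_eq]
    exact F.cardMv.le) (Set.toFinite _)
  have hm' : m ∈ ({1, a, y * a * y⁻¹, y * (y * a * y⁻¹) * y⁻¹} : Set G) := by rw [heq]; exact hm
  rcases hm' with e | e | e | e
  · exact absurd e hm1
  · exact e ▸ IsConj.refl a
  · exact e ▸ isConj_iff.2 ⟨y, rfl⟩
  · rw [Set.mem_singleton_iff] at e
    exact e ▸ isConj_iff.2 ⟨y * y, by group⟩

end Frame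

namespace Ctx

variable [Finite G] (X : Ctx G)
include X

theorem exists_half_any : ∃ K, X.IsHalf K := by
  haveI : Fact (Nat.Prime 2) := ⟨Nat.prime_two⟩
  obtain ⟨A, hA⟩ := Sylow.exists_subgroup_card_pow_prime 2 (G := ↥X.SS) (n := 6)
    (by rw [X.card_S]; norm_num)
  refine ⟨A.map X.SS.subtype, X.isHalf_of_card (Subgroup.map_subtype_le _) ?_⟩
  rw [Subgroup.card_map_of_injective (Subgroup.subtype_injective _), hA]
  norm_num

/-- A self-centralising four group of `S`. -/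
theorem exists_four : ∃ T ≤ X.SS, IsEA T ∧ Nat.card T = 4 ∧
    ∀ q ∈ X.SS, (∀ t ∈ T, t * q = q * t) → q ∈ T := by
  obtain ⟨M₀, hM₀⟩ := X.exists_half_any
  obtain ⟨T₀, W₀⟩ := X.exists_worst hM₀
  obtain ⟨x₀, d₀, y₀, F₀⟩ := W₀.exists_frame
  obtain ⟨M, T, x, d, y, F, hbot⟩ : ∃ M T x d y, Frame X M T x d y ∧ Tz T y = ⊥ := by
    by_cases h0 : Tz T₀ y₀ = ⊥
    · exact ⟨_, _, _, _, _, F₀, h0⟩
    · obtain ⟨K, hK, hKN⟩ := F₀.exists_half h0
      obtain ⟨T, W⟩ := X.exists_worst hK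
      obtain ⟨x, d, y, F⟩ := W.exists_frame
      exact ⟨_, _, _, _, _, F, F.Tz_eq_bot_of_noFour hKN⟩
  refine ⟨T, F.worst.loc.1, fun t ht => ?_, by rw [F.card_T, hbot, Subgroup.card_bot],
    fun q _ hq => F.worst.centralizer_le (Subgroup.mem_centralizer_iff.2 hq)⟩
  obtain ⟨m, hm, s, hs, rfl⟩ := F.decomp ht
  rw [hbot, Subgroup.mem_bot] at hs
  rw [hs, mul_one]
  exact (Mv_le T y hm).2.1

set_option maxHeartbeats 400000 in
/-- `S` has a cyclic subgroup of index two and all involutions of `S` are conjugate in `G`. -/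
theorem cyclic_and_conj : ∃ z, X.IsZ z ∧ (∀ s ∈ X.SS, s * s = 1 → s ≠ 1 → IsConj z s) ∧
    ∃ g ∈ X.SS, orderOf g = 2 ^ 6 := by
  classical
  haveI : Fact (Nat.Prime 2) := ⟨Nat.prime_two⟩
  obtain ⟨T, hTS, hTea, hT4, hself⟩ := X.exists_four
  obtain ⟨z, hz⟩ := X.exists_isZ
  have hz1 : z ≠ 1 := fun h => by have := hz.2.1; rw [h, orderOf_one] at this; omega
  have hzz : z * z = 1 := by rw [← pow_two, ← hz.2.1, pow_orderOf_eq_one]
  have hzT : z ∈ T := hself z hz.1 fun t ht => hz.2.2 t (hTS ht)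
  -- the cyclic subgroup
  haveI : Group.IsNilpotent ↥X.SS := IsPGroup.isNilpotent X.S.2
  set A := T.subgroupOf X.SS with hA
  have hAc : Nat.card A = 2 ^ 2 := by
    rw [hA, Nat.card_congr (Subgroup.subgroupOfEquivOfLe hTS).toEquiv, hT4]; norm_num
  have hcent : Subgroup.centralizer (A : Set ↥X.SS) = A := by
    refine le_antisymm (fun q hq => ?_) fun q hq => ?_
    · exact hself q q.2 fun t ht =>
        congrArg Subtype.val (Subgroup.mem_centralizer_iff.1 hq ⟨t, hTS ht⟩ ht)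
    · exact Subgroup.mem_centralizer_iff.2 fun t ht => Subtype.ext (hTea.comm ht hq)
  have hcl := PGroups.class_of_self_centralizing_sq 7 A X.card_S hAc hcent
  have hidx := PGroups.index_commutator_of_class 7 (by norm_num) X.card_S hcl
  obtain ⟨C0, hC0, hC0i⟩ := PGroups.exists_cyclic_index_two 7 (by norm_num) X.card_S
    (hidx.trans (by norm_num))
  haveI := hC0
  set C := C0.map X.SS.subtype with hC
  haveI : IsCyclic C := isCyclic_of_surjective (C0.equivMapOfInjective _ (Subgroup.subtype_injective _))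
    (MulEquiv.surjective _)
  have hCS : C ≤ X.SS := Subgroup.map_subtype_le _
  have hCc : Nat.card C = 64 := by
    have h := C0.card_mul_index
    rw [hC0i, show Nat.card ↥X.SS = 2 ^ 7 from X.card_S] at h
    rw [hC, Subgroup.card_map_of_injective (Subgroup.subtype_injective _)]
    nlinarith [h, (by norm_num : (2 : ℕ) ^ 7 = 128)]
  have hCh := X.isHalf_of_card hCS hCc
  have hCcomm : ∀ a ∈ C, ∀ b ∈ C, a * b = b * a := fun a ha b hb =>
    congrArg Subtype.val (mul_comm' (⟨a, ha⟩ : C) ⟨b, hb⟩)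
  have noEA : ∀ U : Subgroup G, U ≤ X.SS → IsEA U → Nat.card U ≤ 4 := by
    intro U hU hUea
    have h1 := card_le_two_of_mul_mem (D := U ⊓ C) (A := U) inf_le_left
      fun a ha b hb haD hbD => ⟨mul_mem ha hb, hCh.2.2 a (hU ha) b (hU hb)
        (fun h => haD ⟨ha, h⟩) fun h => hbD ⟨hb, h⟩⟩
    have h2 : Nat.card (U ⊓ C : Subgroup G) ≤ 2 := by
      by_contra hlt
      push Not at hlt
      obtain ⟨p, q, hp, hq, hne, hp1, hq1⟩ : ∃ p q, p ∈ U ⊓ C ∧ q ∈ U ⊓ C ∧ p ≠ q ∧ p ≠ 1 ∧ q ≠ 1 := by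
        have : 1 < ((U ⊓ C : Subgroup G) : Set G).ncard := by
          rw [← Nat.card_coe_set_eq]; exact lt_trans (by norm_num) hlt
        by_contra hno
        push Not at hno
        have hnb : (U ⊓ C : Subgroup G) ≠ ⊥ := fun h => by
          rw [h, Subgroup.card_bot] at hlt; omega
        obtain ⟨p, hp, hp1⟩ := (Subgroup.bot_or_exists_ne_one _).resolve_left hnb
        have hsub : ((U ⊓ C : Subgroup G) : Set G) ⊆ {1, p} := fun q hq => by
          by_contra hq'
          simp only [Set.mem_insert_iff, Set.mem_singleton_iff, not_or] at hq'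
          exact hq'.1 (hno p q hp hq (Ne.symm hq'.2) hp1)
        have := Set.ncard_le_ncard hsub (Set.toFinite _)
        rw [← Nat.card_coe_set_eq, Set.ncard_pair (Ne.symm hp1)] at this
        exact absurd (lt_of_lt_of_le hlt this) (lt_irrefl 2)
      exact hne (invol_unique_of_cyclic hp.2 hq.2 (hUea p hp.1) (hUea q hq.1) hp1 hq1)
    omega
  -- `z` is the involution of `C`
  have hCne : ∀ {w : G}, w ∈ X.SS → w ∉ C → ∀ {c : G}, c ∈ C → (∀ k ∈ C, k * c = c * k) →
      c * w = w * c → ∀ q ∈ X.SS, q * c = c * q := by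
    intro w hw hwC c hc _ hcw q hq
    by_cases hqC : q ∈ C
    · exact hCcomm q hqC c hc
    · have c1 : Commute (q * w) c := hCcomm _ (hCh.2.2 q hq w hw hqC hwC) c hc
      have c2 : Commute w c := hcw.symm
      have := c1.mul_left c2.inv_left
      rwa [mul_inv_cancel_right] at this
  have hTC : ¬ T ≤ C := fun h => by
    have hne : T ≠ ⊥ := fun e => by rw [e, Subgroup.card_bot] at hT4; omega
    have hall : ∀ p ∈ T, p = 1 ∨ p = z := fun p hp => by
      by_cases hp1 : p = 1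
      · exact Or.inl hp1
      · exact Or.inr (invol_unique_of_cyclic (h hp) (h hzT) (hTea p hp) hzz hp1 hz1)
    have hsub : (T : Set G) ⊆ {1, z} := fun p hp => hall p hp
    have := Set.ncard_le_ncard hsub (Set.toFinite _)
    rw [← Nat.card_coe_set_eq, Set.ncard_pair (Ne.symm hz1)] at this
    change Nat.card T ≤ 2 at this
    omega
  obtain ⟨w, hwT, hwC⟩ := SetLike.not_le_iff_exists.1 hTC
  have hTlist : ∀ {c : G}, c ∈ T → c ∈ C → c ≠ 1 → ∀ p ∈ T, p ∈ C ∨ p * w ∈ C := fun {c} _ _ _ p hp => by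
    by_cases hpC : p ∈ C
    · exact Or.inl hpC
    · exact Or.inr (hCh.2.2 p (hTS hp) w (hTS hwT) hpC hwC)
  have hzC : z ∈ C := by
    by_contra hzC
    -- then `S` would be abelian
    have hab : ∀ q ∈ X.SS, ∀ r ∈ X.SS, q * r = r * q := by
      intro q hq r hr
      have split : ∀ s ∈ X.SS, ∃ c ∈ C, s = c ∨ s = c * z := fun s hs => by
        by_cases h : s ∈ C
        · exact ⟨s, h, Or.inl rfl⟩
        · exact ⟨s * z, hCh.2.2 s hs z hz.1 h hzC, Or.inr (by rw [mul_assoc, hzz, mul_one])⟩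
      obtain ⟨c, hc, hqc⟩ := split q hq
      obtain ⟨c', hc', hrc⟩ := split r hr
      have c0 : Commute c c' := hCcomm c hc c' hc'
      have c1 : Commute c z := hz.2.2 c (hCS hc)
      have c2 : Commute c' z := hz.2.2 c' (hCS hc')
      rcases hqc with rfl | rfl <;> rcases hrc with rfl | rfl
      · exact c0.eq
      · exact (c0.mul_right c1).eq
      · exact (c0.mul_left c2.symm).eq
      · exact ((c0.mul_right c1).mul_left (c2.symm.mul_right (Commute.refl z))).eq
    have hle : X.SS ≤ T := fun q hq => hself q hq fun t ht => hab t (hTS ht) q hq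
    have := Subgroup.card_le_of_le hle
    rw [hT4, X.card_S] at this
    norm_num at this
  -- commutation with an element outside `C`
  have hfix : ∀ {s : G}, s ∈ X.SS → s ∉ C → ∀ c ∈ C, s * c = c * s → c = 1 ∨ c = z := by
    intro s hs hsC c hc hsc
    have hall := hCne hs hsC hc (fun k hk => hCcomm k hk c hc) hsc.symm
    have hcT : c ∈ T := hself c (hCS hc) fun t ht => hall t (hTS ht)
    by_cases hc1 : c = 1
    · exact Or.inl hc1
    · exact Or.inr (invol_unique_of_cyclic hc hzC (hTea c hcT) hzz hc1 hz1)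
  have hnormC := X.normalizer_of_half hCh
  refine ⟨z, hz, fun s hs hss hs1 => ?_, ?_⟩
  · by_cases hsC : s ∈ C
    · rw [invol_unique_of_cyclic hsC hzC hss hzz hs1 hz1]
    -- `L`: the commutators with `s`
    have hcj : ∀ c ∈ C, s * c * s⁻¹ ∈ C := fun c hc => (Subgroup.mem_normalizer_iff.1 (hnormC hs) c).1 hc
    let Φ : C →* G :=
      { toFun := fun c => s * c * s⁻¹ * (c : G)⁻¹
        map_one' := by simp
        map_mul' := fun a b => by
          simp only [Subgroup.coe_mul]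
          calc s * ((a : G) * b) * s⁻¹ * ((a : G) * b)⁻¹ =
              s * a * s⁻¹ * ((s * b * s⁻¹ * (b : G)⁻¹) * (a : G)⁻¹) := by group
            _ = s * a * s⁻¹ * ((a : G)⁻¹ * (s * b * s⁻¹ * (b : G)⁻¹)) := by
              rw [hCcomm _ (mul_mem (hcj b b.2) (inv_mem b.2)) _ (inv_mem a.2)]
            _ = _ := by group }
    set L := Φ.range with hL
    have hLC : L ≤ C := by
      rintro _ ⟨c, rfl⟩
      exact mul_mem (hcj c c.2) (inv_mem c.2)
    have hker : Nat.card Φ.ker ≤ 2 := by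
      have h1 : Nat.card Φ.ker = Nat.card (Φ.ker.map C.subtype) :=
        (Subgroup.card_map_of_injective (Subgroup.subtype_injective _)).symm
      have hsub : ((Φ.ker.map C.subtype : Subgroup G) : Set G) ⊆ {1, z} := by
        rintro _ ⟨c, hc, rfl⟩
        exact hfix hs hsC c c.2 (mul_inv_eq_iff_eq_mul.1 (mul_inv_eq_one.1 hc))
      have h2 := Set.ncard_le_ncard hsub (Set.toFinite _)
      rw [← Nat.card_coe_set_eq, Set.ncard_pair (Ne.symm hz1)] at h2
      exact h1.le.trans h2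
    have hLc : 32 ≤ Nat.card L := by
      have h := Φ.ker.card_mul_index
      rw [Subgroup.index_ker, hCc, ← hL] at h
      have := Nat.mul_le_mul_right (Nat.card L) hker
      omega
    have hLne : ¬ C ≤ L := fun h => by
      have h' := Φ.ker.card_mul_index
      rw [Subgroup.index_ker, ← hL, le_antisymm hLC h, hCc] at h'
      have hk1 : Φ.ker = ⊥ := Subgroup.eq_bot_of_card_eq _ (by omega)
      have hzk : (⟨z, hzC⟩ : C) ∈ Φ.ker := by
        rw [MonoidHom.mem_ker]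
        show s * z * s⁻¹ * z⁻¹ = 1
        rw [hz.2.2 s hs, mul_inv_cancel_right, mul_inv_cancel]
      rw [hk1, Subgroup.mem_bot] at hzk
      exact hz1 (congrArg Subtype.val hzk)
    obtain ⟨g, hgC, hgL⟩ := SetLike.not_le_iff_exists.1 hLne
    have hidx2 : ∀ a ∈ C, ∀ b ∈ C, a ∉ L → b ∉ L → a * b ∈ L := fun a ha b hb =>
      mul_mem_of_card_le_two hLC (by rw [hCc]; omega) ha hb
    have hLnorm : ∀ q ∈ X.SS, ∀ l ∈ L, q * l * q⁻¹ ∈ L := by
      intro q hq l hl
      by_cases hqC : q ∈ C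
      · rw [hCcomm q hqC l (hLC hl), mul_inv_cancel_right]; exact hl
      · have hk : s⁻¹ * q ∈ C := hCh.2.2 _ (inv_mem hs) q hq
          (fun h => hsC ((Subgroup.inv_mem_iff C).1 h)) hqC
        obtain ⟨c, rfl⟩ := hl
        have e : q * Φ c * q⁻¹ = s * ((s⁻¹ * q) * Φ c * (s⁻¹ * q)⁻¹) * s⁻¹ := by group
        rw [e, hCcomm _ hk _ (hLC ⟨c, rfl⟩), mul_inv_cancel_right]
        refine ⟨⟨s * c * s⁻¹, hcj c c.2⟩, ?_⟩
        show s * (s * (c : G) * s⁻¹) * s⁻¹ * (s * (c : G) * s⁻¹)⁻¹ = s * (s * c * s⁻¹ * (c : G)⁻¹) * s⁻¹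
        group
    -- the half `L ∪ s g L`
    have hsg : s * g ∈ X.SS := mul_mem hs (hCS hgC)
    have hsg2 : s * g * (s * g) ∈ L := by
      have e : s * g * (s * g) = (s * g * s⁻¹ * g⁻¹) * (g * g) * (g⁻¹ * ((s * s) * g)) := by group
      rw [e, hss, one_mul, inv_mul_cancel, mul_one]
      exact L.mul_mem ⟨⟨g, hgC⟩, rfl⟩ (hidx2 g hgC g hgC hgL hgL)
    let K : Subgroup G :=
      { carrier := {p | p ∈ L ∨ ∃ l ∈ L, p = l * (s * g)}
        one_mem' := Or.inl (one_mem _)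
        mul_mem' := by
          rintro a b (ha | ⟨l, hl, rfl⟩) (hb | ⟨m, hm, rfl⟩)
          · exact Or.inl (mul_mem ha hb)
          · exact Or.inr ⟨a * m, mul_mem ha hm, (mul_assoc _ _ _).symm⟩
          · exact Or.inr ⟨l * (s * g * b * (s * g)⁻¹), mul_mem hl (hLnorm _ hsg b hb), by group⟩
          · left
            rw [show l * (s * g) * (m * (s * g)) =
              l * (s * g * m * (s * g)⁻¹) * (s * g * (s * g)) by group]
            exact mul_mem (mul_mem hl (hLnorm _ hsg m hm)) hsg2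
        inv_mem' := by
          rintro a (ha | ⟨l, hl, rfl⟩)
          · exact Or.inl (inv_mem ha)
          · refine Or.inr ⟨(s * g)⁻¹ * l⁻¹ * (s * g)⁻¹, ?_, by group⟩
            rw [show (s * g)⁻¹ * l⁻¹ * (s * g)⁻¹ =
              ((s * g)⁻¹ * l⁻¹ * ((s * g)⁻¹)⁻¹) * (s * g * (s * g))⁻¹ by group]
            exact mul_mem (hLnorm _ (inv_mem hsg) _ (inv_mem hl)) (inv_mem hsg2) }
    have hKS : K ≤ X.SS := by
      rintro p (hp | ⟨l, hl, rfl⟩)
      · exact hCS (hLC hp)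
      · exact mul_mem (hCS (hLC hl)) hsg
    have hsK : s ∉ K := by
      rintro (hp | ⟨l, hl, e⟩)
      · exact hsC (hLC hp)
      · refine hgL ?_
        have hg : g = s⁻¹ * l⁻¹ * s := by
          calc g = (l * s)⁻¹ * (l * (s * g)) := by group
            _ = (l * s)⁻¹ * s := by rw [← e]
            _ = _ := by group
        have := hLnorm s⁻¹ (inv_mem hs) l⁻¹ (inv_mem hl)
        rwa [inv_inv, ← hg] at this
    have hKhalf : X.IsHalf K := by
      refine ⟨hKS, fun e => hsK (e ▸ hs), ?_⟩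
      have key : ∀ p ∈ X.SS, p ∉ K → (p ∈ C → ∃ l ∈ L, p = l * g) ∧ (p ∉ C → ∃ l ∈ L, p = s * l) := by
        intro p hp hpK
        refine ⟨fun hpC => ⟨p * g⁻¹, hidx2 p hpC g⁻¹ (inv_mem hgC) (fun h => hpK (Or.inl h))
          (fun h => hgL ((Subgroup.inv_mem_iff L).1 h)), by group⟩, fun hpC => ?_⟩
        have hk : s⁻¹ * p ∈ C := hCh.2.2 _ (inv_mem hs) p hp
          (fun h => hsC ((Subgroup.inv_mem_iff C).1 h)) hpC
        refine ⟨s⁻¹ * p, by_contra fun hkL => hpK (Or.inr ?_), by group⟩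
        refine ⟨s * ((s⁻¹ * p) * g⁻¹) * s⁻¹, hLnorm s hs _ (hidx2 _ hk g⁻¹ (inv_mem hgC) hkL
          (fun h => hgL ((Subgroup.inv_mem_iff L).1 h))), by group⟩
      intro a ha b hb haK hbK
      by_cases haC : a ∈ C <;> by_cases hbC : b ∈ C
      · exact Or.inl (hidx2 a haC b hbC (fun h => haK (Or.inl h)) fun h => hbK (Or.inl h))
      · obtain ⟨l, hl, rfl⟩ := (key a ha haK).1 haC
        obtain ⟨m, hm, rfl⟩ := (key b hb hbK).2 hbC
        refine Or.inr ⟨l * (g * (s * m * s⁻¹) * g⁻¹) * (g * s * g⁻¹ * s⁻¹), mul_mem (mul_mem hl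
          (hLnorm g (hCS hgC) _ (hLnorm s hs m hm))) ?_, by group⟩
        have h1 : (s * g * s⁻¹ * g⁻¹)⁻¹ ∈ L := inv_mem ⟨⟨g, hgC⟩, rfl⟩
        rwa [show (s * g * s⁻¹ * g⁻¹)⁻¹ = g * s * g⁻¹ * s⁻¹ by group] at h1
      · obtain ⟨l, hl, rfl⟩ := (key a ha haK).2 haC
        obtain ⟨m, hm, rfl⟩ := (key b hb hbK).1 hbC
        exact Or.inr ⟨s * (l * m) * s⁻¹, hLnorm s hs _ (mul_mem hl hm), by group⟩
      · obtain ⟨l, hl, rfl⟩ := (key a ha haK).2 haC
        obtain ⟨m, hm, rfl⟩ := (key b hb hbK).2 hbC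
        left
        rw [show s * l * (s * m) = (s * l * s⁻¹) * (s * s) * m by group, hss, mul_one]
        exact mul_mem (hLnorm s hs l hl) hm
    obtain ⟨T', W⟩ := X.exists_worst hKhalf
    obtain ⟨x', d', y', F⟩ := W.exists_frame
    have hbot : Tz T' y' = ⊥ := by
      by_contra h
      obtain ⟨U, hUT, hU, -, hU8⟩ := F.exists_large h
      have := noEA U (hUT.trans W.loc.1) hU
      omega
    obtain ⟨m, hm, hmK⟩ := SetLike.not_le_iff_exists.1 F.Mv_not_le
    have hm1 : m ≠ 1 := fun e => hmK (e ▸ one_mem _)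
    have hmm : m * m = 1 := (Mv_le T' y' hm).2.1
    have hmS : m ∈ X.SS := W.loc.1 (Mv_le T' y' hm).1
    have hzm := F.conj_Mv_of_bot hbot (W.mem_of_isZ hz) hz1 hm hm1
    by_cases hmC : m ∈ C
    · -- then `m = z` would lie in the half
      refine absurd (Or.inl ?_) hmK
      rw [invol_unique_of_cyclic hmC hzC hmm hzz hm1 hz1]
      by_contra hzL
      have hzg : z * g⁻¹ ∈ L := hidx2 z hzC g⁻¹ (inv_mem hgC) hzL
        fun h => hgL ((Subgroup.inv_mem_iff L).1 h)
      -- `L` is cyclic of order at least 32, so it contains the involution of `C`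
      have hLne1 : L ≠ ⊥ := fun e => by rw [e, Subgroup.card_bot] at hLc; omega
      obtain ⟨k, hk⟩ := IsPGroup.iff_card.1 (X.S.2.to_le (hLC.trans hCS))
      have hk0 : k ≠ 0 := fun e => by rw [hk, e] at hLc; norm_num at hLc
      obtain ⟨i, hi⟩ := exists_prime_orderOf_dvd_card' (G := ↥L) 2 (hk ▸ dvd_pow_self 2 hk0)
      refine hzL ?_
      have hii : (i : G) * i = 1 := by
        rw [← pow_two, ← Subgroup.coe_pow, ← hi, pow_orderOf_eq_one, Subgroup.coe_one]
      have hi1 : (i : G) ≠ 1 := fun e => by rw [← Subgroup.orderOf_coe, e, orderOf_one] at hi; omega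
      rw [← invol_unique_of_cyclic (hLC i.2) hzC hii hzz hi1 hz1]
      exact i.2
    · have hk : s⁻¹ * m ∈ C := hCh.2.2 _ (inv_mem hs) m hmS
        (fun h => hsC ((Subgroup.inv_mem_iff C).1 h)) hmC
      have hl : s⁻¹ * m ∈ L := by
        by_contra hkL
        refine hmK (Or.inr ⟨s * ((s⁻¹ * m) * g⁻¹) * s⁻¹, hLnorm s hs _ (hidx2 _ hk g⁻¹
          (inv_mem hgC) hkL fun h => hgL ((Subgroup.inv_mem_iff L).1 h)), by group⟩)
      obtain ⟨c, hc⟩ := hl
      change s * (c : G) * s⁻¹ * (c : G)⁻¹ = s⁻¹ * m at hc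
      refine hzm.trans (IsConj.symm (show IsConj s m from isConj_iff.2 ⟨c, ?_⟩))
      calc (c : G) * s * (c : G)⁻¹ = s * s * c * s⁻¹ * (c : G)⁻¹ := by
            rw [hss, one_mul, invol_eq_inv hss]
        _ = s * (s * c * s⁻¹ * (c : G)⁻¹) := by group
        _ = s * (s⁻¹ * m) := by rw [hc]
        _ = m := mul_inv_cancel_left s m
  · obtain ⟨g, hg⟩ := IsCyclic.exists_ofOrder_eq_natCard (α := C)
    exact ⟨g, hCS g.2, by rw [Subgroup.orderOf_coe, hg, hCc]; norm_num⟩

end Ctx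

end Cfsg.Agent.Lib.LengthEight21
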