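import Cfsg.Agent.Lib.LengthEight21.Index

/-!
# S3250: an inverted element of order three changing the kernel of the worst member

Owner: helper21; proof in `notes/s3250_helper21.md`.
-/

set_option autoImplicit false
set_option linter.style.haveILetI false
set_option linter.unusedSectionVars false

open Subgroup

namespace Cfsg.Agent.Lib.LengthEight21

open Fusion.Alperin

universe u

variable {G : Type u} [Group G]

theorem invol_conj {a : G} (ha : a * a = 1) (n : G) : n * a * n⁻¹ * (n * a * n⁻¹) = 1 := by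
  rw [show n * a * n⁻¹ * (n * a * n⁻¹) = n * (a * a) * n⁻¹ by group, ha, mul_one, mul_inv_cancel]

/-- An involution inverts its products with involutions. -/
theorem invol_inverts {a b : G} (ha : a * a = 1) (hb : b * b = 1) {y : G}
    (hy : y ∈ Subgroup.zpowers (a * b)) : a * y * a⁻¹ = y⁻¹ := by
  obtain ⟨i, rfl⟩ := Subgroup.mem_zpowers_iff.1 hy
  rw [← conj_zpow, ← inv_zpow, mul_inv_rev, inv_eq_of_mul_eq_one_right ha,
    inv_eq_of_mul_eq_one_right hb, ← mul_assoc, ha, one_mul]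

theorem odd_orderOf_mul {K : Type*} [Group K] [Finite K]
    (hK : ∀ P : Subgroup K, IsPGroup 2 P → Nat.card P ≤ 2) {s t : K} (hs : s * s = 1)
    (ht : t * t = 1) (hs1 : s ≠ 1) (ht1 : t ≠ 1) : Odd (orderOf (s * t)) := by
  classical
  haveI : Fact (Nat.Prime 2) := ⟨Nat.prime_two⟩
  rw [← Nat.not_even_iff_odd]
  intro he
  obtain ⟨m, hm⟩ := he
  set d := s * t with hd
  set j := d ^ m with hj
  have hj2 : j * j = 1 := by rw [hj, ← pow_add, ← hm, pow_orderOf_eq_one]
  have hj1 : j ≠ 1 := by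
    intro h
    have h1 := Nat.le_of_dvd
      (Nat.pos_of_ne_zero fun h0 => by
        have := orderOf_pos d
        omega) (orderOf_dvd_of_pow_eq_one (hj ▸ h))
    have := orderOf_pos d
    omega
  have hsj : s * j * s⁻¹ = j := by
    rw [invol_inverts hs ht (y := j) (hj ▸ pow_mem (Subgroup.mem_zpowers d) m),
      inv_eq_of_mul_eq_one_right hj2]
  have hcomm : s * j = j * s := mul_inv_eq_iff_eq_mul.1 hsj
  have hne : s ≠ j := by
    intro h
    have hc : s * d = d * s := by rw [h, hj]; exact (Commute.self_pow d m).symm.eq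
    apply ht1
    have e : s * d * s⁻¹ = d⁻¹ := invol_inverts hs ht (Subgroup.mem_zpowers d)
    rw [hc, mul_inv_cancel_right] at e
    have hd2 : d * d = 1 := by nth_rw 2 [e]; exact mul_inv_cancel d
    -- then `d` is the involution `j`
    have hod : orderOf d ∣ 2 := orderOf_dvd_of_pow_eq_one (by rw [pow_two, hd2])
    have hm1 : m = 1 := by
      have h2 := Nat.le_of_dvd two_pos hod
      have := orderOf_pos d
      omega
    rw [hj, hm1, pow_one, hd] at h
    exact (left_eq_mul.1 h)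
  have hz : ∀ {w : K}, w * w = 1 → IsEA (Subgroup.zpowers w) := fun {w} hw a ha => by
    obtain ⟨i, rfl⟩ := Subgroup.mem_zpowers_iff.1 ha
    rw [← (Commute.refl w).mul_zpow, hw, one_zpow]
  have hE : IsEA (Subgroup.zpowers s ⊔ Subgroup.zpowers j) := by
    refine (hz hs).sup (hz hj2) fun a ha b hb => ?_
    obtain ⟨i, rfl⟩ := Subgroup.mem_zpowers_iff.1 ha
    obtain ⟨k, rfl⟩ := Subgroup.mem_zpowers_iff.1 hb
    exact (Commute.zpow_zpow (show Commute s j from hcomm) i k).eq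
  have hcard := hK (Subgroup.zpowers s ⊔ Subgroup.zpowers j)
    (fun g => ⟨1, Subtype.ext (by rw [pow_one, Subgroup.coe_pow, pow_two]; exact hE g g.2)⟩)
  have hsub : (({1, s, j} : Finset K) : Set K) ⊆
      ((Subgroup.zpowers s ⊔ Subgroup.zpowers j : Subgroup K) : Set K) := by
    intro x hx
    simp only [Finset.coe_insert, Finset.coe_singleton, Set.mem_insert_iff,
      Set.mem_singleton_iff] at hx
    rcases hx with rfl | rfl | rfl
    · exact one_mem _
    · exact Subgroup.mem_sup_left (Subgroup.mem_zpowers _)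
    · exact Subgroup.mem_sup_right (Subgroup.mem_zpowers _)
  have h3 := (Set.ncard_le_ncard hsub (Set.toFinite _))
  rw [Set.ncard_coe_finset, ← Nat.card_coe_set_eq,
    Finset.card_insert_of_notMem (by simp [Ne.symm hs1, Ne.symm hj1]),
    Finset.card_insert_of_notMem (by simp [hne]), Finset.card_singleton] at h3
  change 3 ≤ Nat.card (Subgroup.zpowers s ⊔ Subgroup.zpowers j : Subgroup K) at h3
  omega

namespace Ctx.Worst

variable [Finite G] {X : Ctx G} {M T : Subgroup G} (W : X.Worst M T)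
include W

theorem mul_mem_T {a b : G} (ha : a ∈ X.Res T) (hb : b ∈ X.Res T) (haT : a ∉ T) (hbT : b ∉ T) :
    a * b ∈ T := mul_mem_of_card_le_two W.T_le W.index_two.1.le ha hb haT hbT

theorem inv_mul_mem_T {a b : G} (ha : a ∈ X.Res T) (hb : b ∈ X.Res T) (haT : a ∉ T) (hbT : b ∉ T) :
    a⁻¹ * b ∈ T := W.mul_mem_T (inv_mem ha) hb (fun h => haT ((Subgroup.inv_mem_iff T).1 h)) hbT

/-- An element of `N(T)` sending an element of `R` outside `T` into `R` normalises `R`. -/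
theorem normalizes_res {c a : G} (hc : c ∈ Subgroup.normalizer (T : Set G)) (ha : a ∈ X.Res T)
    (haT : a ∉ T) (h : c * a * c⁻¹ ∈ X.Res T) : c ∈ Subgroup.normalizer (X.Res T : Set G) := by
  refine mem_normalizer_of_conjS_eq (Subgroup.eq_of_le_of_card_ge ?_ (card_conjS _ _).ge)
  rintro _ ⟨r, hr, rfl⟩
  show c * r * c⁻¹ ∈ X.Res T
  by_cases hrT : r ∈ T
  · exact W.T_le ((Subgroup.mem_normalizer_iff.1 hc r).1 hrT)
  · rw [show c * r * c⁻¹ = c * a * c⁻¹ * (c * (a⁻¹ * r) * c⁻¹) by group]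
    exact mul_mem h (W.T_le ((Subgroup.mem_normalizer_iff.1 hc _).1 (W.inv_mul_mem_T ha hr haT hrT)))

theorem preserves_of_normalizes {c : G} (hc : c ∈ Subgroup.normalizer (X.Res T : Set G)) :
    Pres M (X.Res T) c :=
  W.preserves _ c inf_le_left ((conjS_eq_of_mem_normalizer hc).le.trans inf_le_left) le_rfl

/-- The elements of `N(T)` keeping membership in `M` on `T`. -/
def pr (_W : X.Worst M T) : Subgroup G where
  carrier := {n | n ∈ Subgroup.normalizer (T : Set G) ∧ Pres M T n}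
  one_mem' := ⟨one_mem _, fun a _ => by rw [one_mul, inv_one, mul_one]⟩
  mul_mem' := by
    rintro n m ⟨hn, hn'⟩ ⟨hm, hm'⟩
    refine ⟨mul_mem hn hm, fun a ha => ?_⟩
    rw [show n * m * a * (n * m)⁻¹ = n * (m * a * m⁻¹) * n⁻¹ by group,
      hn' _ ((Subgroup.mem_normalizer_iff.1 hm a).1 ha), hm' a ha]
  inv_mem' := by
    rintro n ⟨hn, hn'⟩
    refine ⟨inv_mem hn, fun a ha => ?_⟩
    have h := hn' _ ((Subgroup.mem_normalizer_iff.1 (inv_mem hn) a).1 ha)
    rw [show n * (n⁻¹ * a * n⁻¹⁻¹) * n⁻¹ = a by group] at h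
    exact h.symm

theorem res_le_pr : X.Res T ≤ W.pr := fun r hr => by
  refine ⟨hr.2, fun a ha => ?_⟩
  rw [W.half.mul_mem_iff (mul_mem hr.1 (W.loc.1 ha)) (inv_mem hr.1),
    W.half.mul_mem_iff hr.1 (W.loc.1 ha), inv_mem_iff]
  tauto

theorem exists_not_pr : ∃ n ∈ Subgroup.normalizer (T : Set G), n ∉ W.pr := by
  obtain ⟨n, hn, a, ha, hna, hch⟩ := W.bad
  refine ⟨n, hn, fun hp => ?_⟩
  by_cases haT : a ∈ T
  · exact hch (hp.2 a haT)
  · exact hch (W.preserves_of_normalizes (W.normalizes_res hn ha haT hna) a ha)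

theorem act_eq {a b : G} (ha : a ∈ X.Res T) (hb : b ∈ X.Res T) (haT : a ∉ T) (hbT : b ∉ T) :
    W.act ⟨a, ha.2⟩ = W.act ⟨b, hb.2⟩ :=
  inv_mul_eq_one.1 (by
    rw [← map_inv, ← map_mul]
    exact W.act_ker.2 (W.inv_mul_mem_T ha hb haT hbT))

theorem isTv_res {a : G} (ha : a ∈ X.Res T) (haT : a ∉ T) : IsTv (W.act ⟨a, ha.2⟩) := by
  obtain ⟨b, hb, hbR, hbT, -, htv⟩ := W.index_two.2
  rw [W.act_eq ha hbR haT hbT]
  exact htv

/-- A conjugate of an element of `R` outside `T` fixes half of `Ω₁ Z(T)`. -/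
theorem fix_index {n a : G} (hn : n ∈ Subgroup.normalizer (T : Set G)) (ha : a ∈ X.Res T)
    (haT : a ∉ T) : Nat.card (Vc T) ≤
      2 * Nat.card (Vc T ⊓ Subgroup.centralizer {n * a * n⁻¹} : Subgroup G) := by
  have hb : n * a * n⁻¹ ∈ Subgroup.normalizer (T : Set G) := mul_mem (mul_mem hn ha.2) (inv_mem hn)
  have htv : IsTv (W.act ⟨n * a * n⁻¹, hb⟩) := by
    have h := (W.isTv_res ha haT).conj (W.act ⟨n, hn⟩)
    rwa [← map_inv, ← map_mul, ← map_mul] at h
  obtain ⟨b, hb'⟩ := htv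
  refine card_le_two_of_mul_mem inf_le_left fun p hp q hq hpD hqD => ⟨(Vc T).mul_mem hp hq, ?_⟩
  have hm : ∀ (p : G) (hp : p ∈ Vc T), p ∉ Vc T ⊓ Subgroup.centralizer {n * a * n⁻¹} →
      n * a * n⁻¹ * p * (n * a * n⁻¹)⁻¹ = (b : G) * p := fun p hp hpD => by
    rcases hb' ⟨p, hp⟩ with h | h
    · refine absurd ⟨hp, Subgroup.mem_centralizer_singleton_iff.2 ?_⟩ hpD
      have h1 := (W.act_apply _ _).symm.trans (congrArg Subtype.val h)
      exact (mul_inv_eq_iff_eq_mul.1 h1).symm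
    · exact (W.act_apply _ _).symm.trans (congrArg Subtype.val h)
  refine Subgroup.mem_centralizer_singleton_iff.2 (mul_inv_eq_iff_eq_mul.1 ?_).symm
  rw [show n * a * n⁻¹ * (p * q) * (n * a * n⁻¹)⁻¹ =
      (n * a * n⁻¹ * p * (n * a * n⁻¹)⁻¹) * (n * a * n⁻¹ * q * (n * a * n⁻¹)⁻¹) by group,
    hm p hp hpD, hm q hq hqD, show (b : G) * p * (b * q) = b * (p * b) * q by group,
    (Vc_ea T).comm hp b.2, show (b : G) * (b * p) * q = (b * b) * (p * q) by group,
    Vc_ea T b b.2, one_mul]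

set_option maxHeartbeats 400000 in
/-- An element of order three, inverted by a given involution of `R` outside `T`, changing `T`. -/
theorem exists_inverted {a : G} (haR : a ∈ X.Res T) (haT : a ∉ T) (ha2 : a * a = 1) :
    ∃ n ∈ Subgroup.normalizer (T : Set G), ∃ y ∈ Subgroup.zpowers (a * (n * a * n⁻¹)),
      y ^ 3 = 1 ∧ y ∈ Subgroup.normalizer (T : Set G) ∧ a * y * a⁻¹ = y⁻¹ ∧ y ∉ W.pr := by
  classical
  haveI : Fact (Nat.Prime 2) := ⟨Nat.prime_two⟩
  obtain ⟨n, hn, hnp⟩ := W.exists_not_pr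
  set b := n * a * n⁻¹ with hb
  have hbN : b ∈ Subgroup.normalizer (T : Set G) := mul_mem (mul_mem hn haR.2) (inv_mem hn)
  have hb2 : b * b = 1 := invol_conj ha2 n
  have hbT : b ∉ T := fun h => haT ((Subgroup.mem_normalizer_iff.1 hn a).2 h)
  have hsyl : ∀ P : Subgroup ↥W.act.range, IsPGroup 2 P → Nat.card P ≤ 2 := by
    intro P hP
    obtain ⟨Q, hQ⟩ := hP.exists_le_sylow
    refine (Subgroup.card_le_of_le hQ).trans ?_
    rw [Nat.card_congr (Sylow.equiv Q W.sylX).toEquiv]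
    have := W.card_sylX
    rw [W.index_two.1] at this
    have := Nat.card_pos (α := T)
    nlinarith
  set φ := W.act.rangeRestrict with hφ
  have hφk : ∀ {m : G} (hm : m ∈ Subgroup.normalizer (T : Set G)),
      φ ⟨m, hm⟩ = 1 ↔ m ∈ T := fun {m} hm =>
    ⟨fun h => W.act_ker.1 (congrArg Subtype.val h), fun h => Subtype.ext (W.act_ker.2 h)⟩
  let A : ↥(Subgroup.normalizer (T : Set G)) := ⟨a, haR.2⟩
  let B : ↥(Subgroup.normalizer (T : Set G)) := ⟨b, hbN⟩
  have hAA : φ A * φ A = 1 := by rw [← map_mul]; exact (hφk (mul_mem haR.2 haR.2)).2 (ha2 ▸ T.one_mem)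
  have hBB : φ B * φ B = 1 := by rw [← map_mul]; exact (hφk (mul_mem hbN hbN)).2 (hb2 ▸ T.one_mem)
  have hodd := odd_orderOf_mul hsyl hAA hBB (fun h => haT ((hφk haR.2).1 h))
    (fun h => hbT ((hφk hbN).1 h))
  have h3 : (φ A * φ B) ^ 3 = 1 := by
    refine Subtype.ext ?_
    rw [Subgroup.coe_pow, Subgroup.coe_one]
    refine IsTv.pow_three_mul (fun w => Subtype.ext (Vc_ea T w w.2)) (W.isTv_res haR haT) ?_ ?_
    · have h := (W.isTv_res haR haT).conj (W.act ⟨n, hn⟩)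
      rwa [← map_inv, ← map_mul, ← map_mul] at h
    · show Odd (orderOf (((φ A * φ B : ↥W.act.range)) : MulAut ↥(Vc T)))
      rwa [Subgroup.orderOf_coe]
  obtain ⟨k, hk⟩ := hodd
  -- `g` carries the image of `a` to the image of `b`
  set g : G := ((a * b)⁻¹) ^ (k + 1) with hg
  have hgN : g ∈ Subgroup.normalizer (T : Set G) :=
    Subgroup.pow_mem _ (Subgroup.inv_mem _ (Subgroup.mul_mem _ haR.2 hbN)) _
  have hgz : g ∈ Subgroup.zpowers (a * b) := pow_mem (inv_mem (Subgroup.mem_zpowers _)) _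
  have hga : a * g * a⁻¹ = g⁻¹ := invol_inverts ha2 hb2 hgz
  have hgg : g * g * ((a * b) ^ (2 * k + 1 + 1)) = 1 := by
    rw [hg, ← pow_add, show k + 1 + (k + 1) = 2 * k + 1 + 1 by ring, inv_pow, inv_mul_cancel]
  have hd : (a * b) ^ (2 * k + 1) ∈ T := by
    refine (hφk (pow_mem (mul_mem haR.2 hbN) _)).1 ?_
    show φ ((A * B) ^ (2 * k + 1)) = 1
    rw [map_pow, map_mul, ← hk, pow_orderOf_eq_one]
  have hc : g⁻¹ * n ∈ W.pr := by
    have hcN : g⁻¹ * n ∈ Subgroup.normalizer (T : Set G) := mul_mem (inv_mem hgN) hn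
    refine ⟨hcN, ?_⟩
    have h1 : g⁻¹ * n * a * (g⁻¹ * n)⁻¹ ∈ X.Res T := by
      rw [show g⁻¹ * n * a * (g⁻¹ * n)⁻¹ = g⁻¹ * b * g by rw [hb]; group]
      -- it lies in the coset of `a`
      have e : g⁻¹ * b * g = (g⁻¹ * a) * ((a * b) ^ (2 * k + 1 + 1) * ((a * b) ^ (2 * k + 1))⁻¹) * g := by
        rw [pow_succ' (a * b) (2 * k + 1), mul_inv_cancel_right]
        nth_rw 1 [show b = a * (a * b) by rw [← mul_assoc, ha2, one_mul]]
        group
      have e2 : (a * b) ^ (2 * k + 1 + 1) = (g * g)⁻¹ :=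
        (inv_eq_of_mul_eq_one_right hgg).symm
      have e3 : g⁻¹ * a = a * g := by rw [← hga, inv_mul_cancel_right]
      rw [e, e2, e3, show a * g * ((g * g)⁻¹ * ((a * b) ^ (2 * k + 1))⁻¹) * g =
        a * (g⁻¹ * ((a * b) ^ (2 * k + 1))⁻¹ * g) by group]
      refine mul_mem haR (W.T_le ?_)
      have := (Subgroup.mem_normalizer_iff.1 (inv_mem hgN) _).1 (inv_mem hd)
      rwa [inv_inv] at this
    exact fun t ht => W.preserves_of_normalizes (W.normalizes_res hcN haR haT h1) t (W.T_le ht)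
  have hgp : g ∉ W.pr := fun h => hnp (by simpa using mul_mem h hc)
  have hg3 : g ^ 3 ∈ T := by
    refine (hφk (pow_mem hgN 3)).1 ?_
    show φ ((((A * B)⁻¹) ^ (k + 1)) ^ 3) = 1
    rw [← pow_mul, mul_comm, pow_mul, inv_pow, map_pow, map_inv, map_pow, map_mul, h3, inv_one,
      one_pow]
  obtain ⟨j, hj⟩ := (X.S.2.to_le W.loc.1) ⟨_, hg3⟩
  have hj' : (g ^ 3) ^ 2 ^ j = 1 := congrArg Subtype.val hj
  refine ⟨n, hn, g ^ 2 ^ j, pow_mem hgz _, ?_, pow_mem hgN _,
    invol_inverts ha2 hb2 (pow_mem hgz _), fun hy => hgp ?_⟩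
  · rw [← pow_mul, mul_comm, pow_mul, hj']
  · have hg3' : g ^ 3 ∈ W.pr := W.res_le_pr (W.T_le hg3)
    have hlt : 2 ^ j % 3 = 1 ∨ 2 ^ j % 3 = 2 := by
      have h0 : 2 ^ j % 3 ≠ 0 := fun h => by
        have := (Nat.Prime.dvd_of_dvd_pow Nat.prime_three (Nat.dvd_of_mod_eq_zero h))
        norm_num at this
      omega
    have e := Nat.div_add_mod (2 ^ j) 3
    rw [← e, pow_add, pow_mul] at hy
    have hr : g ^ (2 ^ j % 3) ∈ W.pr := (Subgroup.mul_mem_cancel_left _ (pow_mem hg3' _)).1 hy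
    rcases hlt with h | h <;> rw [h] at hr
    · rwa [pow_one] at hr
    · have := mul_mem hg3' (inv_mem hr)
      rwa [show g ^ 3 * (g ^ 2)⁻¹ = g by rw [pow_succ', mul_inv_cancel_right]] at this

end Ctx.Worst

end Cfsg.Agent.Lib.LengthEight21
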