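import Cfsg.Agent.Lib.LengthEight21.Basic
import Cfsg.Agent.Lib.Fusion.Alperin
import Cfsg.Agent.Lib.Transfer.Fusion

/-!
# S3250: the worst local subgroup changing a character of order two of `S`

For `M` of index two in `S` some normaliser of a centric subgroup changes membership in `M`; one with
the largest Sylow subgroup, and then the largest centric subgroup, is studied.

Owner: helper21; proof in `notes/s3250_helper21.md`.
-/

set_option autoImplicit false
set_option linter.style.haveILetI false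
set_option linter.unusedSectionVars false

open Subgroup

namespace Cfsg.Agent.Lib.LengthEight21

open scoped commutatorElement

open Fusion.Alperin

universe u

variable {G : Type u} [Group G]

/-- Conjugation by `g` keeps membership in `M` on `A`. -/
def Pres (M A : Subgroup G) (g : G) : Prop := ∀ a ∈ A, (g * a * g⁻¹ ∈ M ↔ a ∈ M)

theorem conjS_eq_sup {n : G} {A B : Subgroup G} (hA : conjS n A = A) (hB : conjS n B = B) :
    conjS n (A ⊔ B) = A ⊔ B := by
  rw [conjS, Subgroup.map_sup]
  exact congrArg₂ (· ⊔ ·) hA hB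

theorem mem_centralizer_conj {n c : G} {A : Subgroup G}
    (hn : n ∈ Subgroup.normalizer (A : Set G)) (hc : c ∈ Subgroup.centralizer (A : Set G)) :
    n * c * n⁻¹ ∈ Subgroup.centralizer (A : Set G) := by
  rw [Subgroup.mem_centralizer_iff] at hc ⊢
  intro a ha
  have h1 : n⁻¹ * a * n ∈ A := (Subgroup.mem_normalizer_iff''.1 hn a).1 ha
  have h2 := hc _ h1
  calc a * (n * c * n⁻¹) = n * (n⁻¹ * a * n * c) * n⁻¹ := by group
    _ = n * (c * (n⁻¹ * a * n)) * n⁻¹ := by rw [h2]
    _ = n * c * n⁻¹ * a := by group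

namespace Ctx

variable [Finite G] (X : Ctx G)
include X

/-- The trace of `S` on the normaliser of `Q`. -/
abbrev Res (Q : Subgroup G) : Subgroup G := X.SS ⊓ Subgroup.normalizer (Q : Set G)

/-- A fully normalised subgroup of `S` with a 2-group as centraliser. -/
def Loc (Q : Subgroup G) : Prop :=
  Q ≤ X.SS ∧ IsFullyNormalized 2 X.SS Q ∧ IsPGroup 2 (Subgroup.centralizer (Q : Set G))

/-- `N(Q)` changes membership in `M` on `S ∩ N(Q)`. -/
def Bad (M Q : Subgroup G) : Prop :=
  ∃ n ∈ Subgroup.normalizer (Q : Set G), ∃ a ∈ X.Res Q,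
    n * a * n⁻¹ ∈ X.Res Q ∧ ¬ (n * a * n⁻¹ ∈ M ↔ a ∈ M)

/-- A subgroup of index two in `S`. -/
def IsHalf (M : Subgroup G) : Prop :=
  M ≤ X.SS ∧ M ≠ X.SS ∧ ∀ a ∈ X.SS, ∀ b ∈ X.SS, a ∉ M → b ∉ M → a * b ∈ M

variable {X}

omit X in
theorem IsHalf.mul_mem_iff {X : Ctx G} {M : Subgroup G} (hM : X.IsHalf M) {a b : G}
    (ha : a ∈ X.SS) (hb : b ∈ X.SS) : a * b ∈ M ↔ (a ∈ M ↔ b ∈ M) := by
  constructor
  · intro h
    exact ⟨fun h1 => (Subgroup.mul_mem_cancel_left M h1).1 h,
      fun h1 => (Subgroup.mul_mem_cancel_right M h1).1 h⟩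
  · intro h
    by_cases h1 : a ∈ M
    · exact M.mul_mem h1 (h.1 h1)
    · exact hM.2.2 a ha b hb h1 fun h2 => h1 (h.2 h2)

variable (X)

/-- If no member of order at least `m` is bad, conjugations defined on `2`-subgroups of order at
least `m` keep membership in `M`. -/
theorem preserved (M : Subgroup G) (m : ℕ)
    (H : ∀ Q, X.Loc Q → m ≤ Nat.card Q → ¬ X.Bad M Q) :
    ∀ (A : Subgroup G) (g : G), A ≤ X.SS → conjS g A ≤ X.SS → m ≤ Nat.card A → Pres M A g := by
  classical
  haveI : Fact (Nat.Prime 2) := ⟨Nat.prime_two⟩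
  intro A
  induction hd : Nat.card X.SS - Nat.card A using Nat.strong_induction_on generalizing A with
  | _ d ih =>
  intro g hA hgA hm
  subst hd
  have IH : ∀ (B : Subgroup G) (h : G), B ≤ X.SS → conjS h B ≤ X.SS →
      Nat.card A < Nat.card B → Pres M B h := by
    intro B h hB hhB hlt
    have := Subgroup.card_le_of_le hB
    exact ih _ (by omega) B rfl h hB hhB (by omega)
  have key : ∀ (B : Subgroup G) (h : G), FusionChain 2 X.SS B h →
      Nat.card B = Nat.card A → Pres M B h := by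
    intro B h hc
    induction hc with
    | @base B Q n hQ hBQ hn =>
      intro hcard
      have hQn : conjS n Q = Q := conjS_eq_of_mem_normalizer hn
      rcases (Nat.card B).lt_or_ge (Nat.card Q) with hlt | hge
      · exact fun a ha => IH Q n hQ.1 (hQn.le.trans hQ.1) (hcard ▸ hlt) a (hBQ ha)
      · obtain rfl : B = Q := Subgroup.eq_of_le_of_card_ge hBQ hge
        set P := X.SS ⊓ Subgroup.centralizer (B : Set G) with hPdef
        have hPN : P ≤ X.Res B := inf_le_inf_left _ (Subgroup.centralizer_le_normalizer _)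
        by_cases hPB : P ≤ B
        · obtain ⟨z, hz⟩ := X.exists_isZ
          have hzB : z ∈ B := hPB ⟨hz.1, Subgroup.mem_centralizer_iff.2 fun b hb =>
            hz.2.2 b (hQ.1 hb)⟩
          have hloc : X.Loc B := ⟨hQ.1, hQ.2.1, X.isPGroup_centralizer hz hzB⟩
          intro a ha
          have haR : a ∈ X.Res B := ⟨hQ.1 ha, Subgroup.le_normalizer ha⟩
          have hna : n * a * n⁻¹ ∈ B := (Subgroup.mem_normalizer_iff.1 hn a).1 ha
          by_contra hch
          exact H B hloc (hcard ▸ hm)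
            ⟨n, hn, a, haR, ⟨hQ.1 hna, Subgroup.le_normalizer hna⟩, hch⟩
        · -- Frattini: split off the centraliser and enlarge the domain
          have hPp : IsPGroup 2 P := X.S.2.to_le inf_le_left
          have hPmax : ∀ U : Subgroup G, IsPGroup 2 U →
              U ≤ Subgroup.centralizer (B : Set G) → P ≤ U → U = P := by
            intro U hU hUC hPU
            obtain ⟨m₀, hm₀, hle⟩ := exists_conj_le_of_maximal (X.S.2.to_le inf_le_left)
              (inf_le_right (a := X.SS)) hQ.2.1 hU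
              (hUC.trans (Subgroup.centralizer_le_normalizer _))
            have h1 : conjS m₀ U ≤ P := by
              refine le_inf (hle.trans inf_le_left) ?_
              rintro _ ⟨u, hu, rfl⟩
              exact mem_centralizer_conj hm₀ (hUC hu)
            exact (Subgroup.eq_of_le_of_card_ge hPU
              ((card_conjS m₀ U).symm.le.trans (Subgroup.card_le_of_le h1))).symm
          have hnP : conjS n P ≤ Subgroup.centralizer (B : Set G) := by
            rintro _ ⟨u, hu, rfl⟩
            exact mem_centralizer_conj hn hu.2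
          obtain ⟨c, hc, hcP'⟩ := exists_conj_le_of_maximal hPp (inf_le_right (a := X.SS))
            hPmax (T := conjS n P) (hPp.map _) hnP
          have hcP : conjS (c * n) P ≤ P := (conjS_mul c n P).le.trans hcP'
          have hcnP : conjS (c * n) P = P :=
            Subgroup.eq_of_le_of_card_ge hcP (card_conjS _ _).ge
          have hcnB : conjS (c * n) B = B := conjS_eq_of_mem_normalizer
            (mul_mem (Subgroup.centralizer_le_normalizer _ hc) hn)
          have hB' : B ⊔ P ≤ X.SS := sup_le hQ.1 inf_le_left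
          have hlt : Nat.card A < Nat.card (B ⊔ P : Subgroup G) := by
            rw [← hcard]
            refine lt_of_le_of_ne (Subgroup.card_le_of_le le_sup_left) fun he => hPB ?_
            exact le_sup_right.trans
              (Subgroup.eq_of_le_of_card_ge (le_sup_left : B ≤ B ⊔ P) he.ge).ge
          intro a ha
          have h1 := IH (B ⊔ P) (c * n) hB' ((conjS_eq_sup hcnB hcnP).le.trans hB') hlt a
            (Subgroup.mem_sup_left ha)
          have hna : n * a * n⁻¹ ∈ B := (Subgroup.mem_normalizer_iff.1 hn a).1 ha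
          have h2 : c * n * a * (c * n)⁻¹ = n * a * n⁻¹ := by
            have := Subgroup.mem_centralizer_iff.1 hc _ hna
            calc c * n * a * (c * n)⁻¹ = c * (n * a * n⁻¹) * c⁻¹ := by group
              _ = (n * a * n⁻¹) * c * c⁻¹ := by rw [this]
              _ = n * a * n⁻¹ := by rw [mul_inv_cancel_right]
          rwa [h2] at h1
    | @comp B g₁ g₂ _ _ ih₁ ih₂ =>
      intro hcard a ha
      have h1 := ih₁ hcard a ha
      have h2 := ih₂ ((card_conjS _ _).trans hcard) _ (conj_mem_conjS ha)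
      rw [show g₂ * g₁ * a * (g₂ * g₁)⁻¹ = g₂ * (g₁ * a * g₁⁻¹) * g₂⁻¹ by group]
      exact h2.trans h1
  exact key A g (alperin X.S A g hA hgA) rfl

/-- Some member is bad. -/
theorem exists_bad {M : Subgroup G} (hM : X.IsHalf M) : ∃ Q, X.Loc Q ∧ X.Bad M Q := by
  haveI : Fact (Nat.Prime 2) := ⟨Nat.prime_two⟩
  by_contra hno
  push Not at hno
  refine hM.2.1 (le_antisymm hM.1 ?_)
  haveI := X.simple
  have hcomm : ⁅(⊤ : Subgroup G), (⊤ : Subgroup G)⁆ = ⊤ := by
    rcases Subgroup.Normal.eq_bot_or_eq_top (inferInstance : (⁅(⊤ : Subgroup G), (⊤ : Subgroup G)⁆).Normal) with h | h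
    · refine absurd (IsMulCommutative.of_comm fun a b => ?_) X.nc
      exact commutatorElement_eq_one_iff_mul_comm.1 (Subgroup.mem_bot.1
        (h ▸ Subgroup.commutator_mem_commutator (Subgroup.mem_top a) (Subgroup.mem_top b)))
    · exact h
  have h := Transfer.Fusion.inf_commutator_le_of_forall (⊤ : Subgroup G) X.S M ?_
  · rw [hcomm, top_inf_eq] at h
    exact h
  rintro x ⟨-, hx⟩ g _ hgx
  have hp := X.preserved M 1 (fun Q hQ _ => hno Q hQ) (Subgroup.zpowers x) g
    (Subgroup.zpowers_le.2 hx) (by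
      rw [conjS, MonoidHom.map_zpowers]
      exact Subgroup.zpowers_le.2 hgx) Nat.card_pos x (Subgroup.mem_zpowers x)
  rw [show ⁅x, g⁆ = x * (g * x * g⁻¹)⁻¹ by rw [commutatorElement_def]; group,
    hM.mul_mem_iff hx (inv_mem hgx), inv_mem_iff]
  exact hp.symm

/-- A bad member with the largest Sylow subgroup, and then of largest order. -/
structure Worst (M T : Subgroup G) : Prop where
  half : X.IsHalf M
  loc : X.Loc T
  bad : X.Bad M T
  maxR : ∀ Q, X.Loc Q → X.Bad M Q → Nat.card (X.Res Q) ≤ Nat.card (X.Res T)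
  maxT : ∀ Q, X.Loc Q → X.Bad M Q → Nat.card (X.Res Q) = Nat.card (X.Res T) →
    Nat.card Q ≤ Nat.card T

theorem exists_worst {M : Subgroup G} (hM : X.IsHalf M) : ∃ T, X.Worst M T := by
  classical
  obtain ⟨T, ⟨hT, hTb⟩, hmax⟩ := Set.exists_max_image {Q | X.Loc Q ∧ X.Bad M Q}
    (fun Q => Nat.card (X.Res Q) * 256 + Nat.card Q) (Set.toFinite _) (X.exists_bad hM)
  have hb : ∀ {Q : Subgroup G}, Q ≤ X.SS → Nat.card Q < 256 := fun hQ =>
    lt_of_le_of_lt (Subgroup.card_le_of_le hQ) (by rw [X.card_S]; norm_num)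
  refine ⟨T, hM, hT, hTb, fun Q h1 h2 => ?_, fun Q h1 h2 h3 => ?_⟩
  · have := hmax Q ⟨h1, h2⟩
    have := hb hT.1
    by_contra hc
    push Not at hc
    nlinarith
  · have := hmax Q ⟨h1, h2⟩
    simp only [h3] at this
    omega

end Ctx

namespace Ctx.Worst

variable [Finite G] {X : Ctx G} {M T : Subgroup G} (W : X.Worst M T)
include W

theorem T_le : T ≤ X.Res T := le_inf W.loc.1 Subgroup.le_normalizer

theorem T_ne_SS : T ≠ X.SS := by
  intro h
  obtain ⟨n, hn, a, ha, -, hch⟩ := W.bad
  haveI : Fact (Nat.Prime 2) := ⟨Nat.prime_two⟩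
  have hne : X.SS ≠ ⊥ := fun e => by
    have := X.card_S
    rw [show (X.S : Subgroup G) = ⊥ from e, Subgroup.card_bot] at this
    norm_num at this
  rw [h, X.normalizer_eq hne le_rfl Subgroup.le_normalizer] at hn
  refine hch ?_
  rw [W.half.mul_mem_iff (mul_mem hn ha.1) (inv_mem hn), W.half.mul_mem_iff hn ha.1, inv_mem_iff]
  tauto

theorem T_lt : T < X.Res T := by
  haveI : Fact (Nat.Prime 2) := ⟨Nat.prime_two⟩
  exact lt_inf_normalizer X.S.2 (lt_of_le_of_ne W.loc.1 W.T_ne_SS)

theorem card_T_lt : Nat.card T < Nat.card (X.Res T) :=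
  lt_of_le_of_ne (Subgroup.card_le_of_le W.T_le) fun h =>
    W.T_lt.ne (Subgroup.eq_of_le_of_card_ge W.T_le h.ge)

theorem preserves (A : Subgroup G) (g : G) (hA : A ≤ X.SS) (hgA : conjS g A ≤ X.SS)
    (hc : Nat.card (X.Res T) ≤ Nat.card A) : Pres M A g := by
  refine X.preserved M (Nat.card (X.Res T)) (fun Q hQ hQc hb => ?_) A g hA hgA hc
  have h1 := W.maxR Q hQ hb
  have h2 : Nat.card Q ≤ Nat.card (X.Res Q) :=
    Subgroup.card_le_of_le (le_inf hQ.1 Subgroup.le_normalizer)
  have h3 := W.maxT Q hQ hb (le_antisymm h1 (hQc.trans h2))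
  have := W.card_T_lt
  omega

/-- A member with a larger Sylow subgroup, or a larger one, changes nothing. -/
theorem no_bigger (C : Subgroup G) (hC : C ≤ X.SS)
    (hC2 : IsPGroup 2 (Subgroup.centralizer (C : Set G))) {n a : G}
    (hn : n ∈ Subgroup.normalizer (C : Set G)) (ha : a ∈ X.Res C) (hna : n * a * n⁻¹ ∈ X.Res C)
    (hch : ¬ (n * a * n⁻¹ ∈ M ↔ a ∈ M))
    (hbig : Nat.card (X.Res T) < Nat.card (X.Res C) ∨
      (Nat.card (X.Res T) ≤ Nat.card (X.Res C) ∧ Nat.card T < Nat.card C)) : False := by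
  haveI : Fact (Nat.Prime 2) := ⟨Nat.prime_two⟩
  obtain ⟨k, hkC, hkN, hkfn⟩ := exists_fullyNormalized X.S C hC
  have hle : Nat.card (X.Res T) ≤ Nat.card (X.Res C) := hbig.elim le_of_lt And.left
  have hk := W.preserves (X.Res C) k inf_le_left hkN hle
  have hconj : conjS k (X.Res C) ≤ X.Res (conjS k C) :=
    le_inf hkN (by rw [← conjS_normalizer]; exact conjS_mono inf_le_right)
  have hloc : X.Loc (conjS k C) := by
    refine ⟨hkC, hkfn, ?_⟩
    refine (hC2.map (MulAut.conj k).toMonoidHom).to_le fun x hx => ⟨k⁻¹ * x * k, ?_, by simp [mul_assoc]⟩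
    show k⁻¹ * x * k ∈ Subgroup.centralizer (C : Set G)
    refine Subgroup.mem_centralizer_iff.2 fun c hc => ?_
    have h := Subgroup.mem_centralizer_iff.1 hx _ (conj_mem_conjS (g := k) hc)
    calc c * (k⁻¹ * x * k) = k⁻¹ * ((k * c * k⁻¹) * x) * k := by group
      _ = k⁻¹ * (x * (k * c * k⁻¹)) * k := by rw [h]
      _ = k⁻¹ * x * k * c := by group
  have hbad : X.Bad M (conjS k C) := by
    refine ⟨k * n * k⁻¹, mem_normalizer_conjS hn, k * a * k⁻¹, hconj (conj_mem_conjS ha), ?_, ?_⟩
    · rw [show k * n * k⁻¹ * (k * a * k⁻¹) * (k * n * k⁻¹)⁻¹ = k * (n * a * n⁻¹) * k⁻¹ by group]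
      exact hconj (conj_mem_conjS hna)
    · rw [show k * n * k⁻¹ * (k * a * k⁻¹) * (k * n * k⁻¹)⁻¹ = k * (n * a * n⁻¹) * k⁻¹ by group,
        hk _ ha, hk _ hna]
      exact hch
  have h1 := W.maxR _ hloc hbad
  have h2 : Nat.card (X.Res C) ≤ Nat.card (X.Res (conjS k C)) :=
    (card_conjS k (X.Res C)).symm.le.trans (Subgroup.card_le_of_le hconj)
  rcases hbig with hlt | ⟨-, hlt⟩
  · omega
  · have h3 := W.maxT _ hloc hbad (le_antisymm h1 (hle.trans h2))
    rw [card_conjS] at h3
    omega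

/-- `T` is the largest normal 2-subgroup of its normaliser. -/
theorem radical (U : Subgroup G) (hU : IsPGroup 2 U)
    (hUN : U ≤ Subgroup.normalizer (T : Set G))
    (hNU : Subgroup.normalizer (T : Set G) ≤ Subgroup.normalizer (U : Set G)) : U ≤ T := by
  haveI : Fact (Nat.Prime 2) := ⟨Nat.prime_two⟩
  have hUR : U ≤ X.Res T := by
    have h2 := W.loc.2.1 (X.Res T ⊔ U)
      ((X.S.2.to_le inf_le_left).to_sup_of_normal_right' hU (inf_le_right.trans hNU))
      (sup_le inf_le_right hUN) le_sup_left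
    exact le_sup_right.trans h2.le
  by_contra hUT
  obtain ⟨n, hn, a, ha, hna, hch⟩ := W.bad
  have hN : Subgroup.normalizer (T : Set G) ≤
      Subgroup.normalizer ((T ⊔ U : Subgroup G) : Set G) := fun x hx =>
    mem_normalizer_of_conjS_eq (conjS_eq_sup (conjS_eq_of_mem_normalizer hx)
      (conjS_eq_of_mem_normalizer (hNU hx)))
  have hR : X.Res T ≤ X.Res (T ⊔ U) := inf_le_inf_left _ hN
  refine W.no_bigger (T ⊔ U) (sup_le W.loc.1 (hUR.trans inf_le_left))
    (W.loc.2.2.to_le (Subgroup.centralizer_le (le_sup_left : T ≤ T ⊔ U))) (hN hn) (hR ha) (hR hna)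
    hch (Or.inr ⟨Subgroup.card_le_of_le hR, ?_⟩)
  refine lt_of_le_of_ne (Subgroup.card_le_of_le le_sup_left) fun he => hUT ?_
  exact le_sup_right.trans (Subgroup.eq_of_le_of_card_ge (le_sup_left : T ≤ T ⊔ U) he.ge).ge

/-- `T` contains its centraliser. -/
theorem centralizer_le : Subgroup.centralizer (T : Set G) ≤ T :=
  W.radical _ W.loc.2.2 (Subgroup.centralizer_le_normalizer _) fun n hn =>
    mem_normalizer_of_conjS_eq (Subgroup.eq_of_le_of_card_ge
      (by rintro _ ⟨c, hc, rfl⟩; exact mem_centralizer_conj hn hc) (card_conjS _ _).ge)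

theorem mem_of_isZ {z : G} (hz : X.IsZ z) : z ∈ T :=
  W.centralizer_le (Subgroup.mem_centralizer_iff.2 fun t ht => hz.2.2 t (W.loc.1 ht))

end Ctx.Worst

end Cfsg.Agent.Lib.LengthEight21
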