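import Cfsg.Agent.Lib.LengthEight21.Swap
import Cfsg.Agent.Lib.PGroups.Omega

/-!
# S3250: the structure `R = D₈ × T₀` of the worst member

Owner: helper21; proof in `notes/s3250_helper21.md`.
-/

set_option autoImplicit false
set_option linter.style.haveILetI false
set_option linter.unusedSectionVars false

open Subgroup

namespace Cfsg.Agent.Lib.LengthEight21

open Fusion.Alperin

universe u

variable {G : Type u} [Group G]

/-- The worst member with an element `x` swapping, `τ = x d x⁻¹` and an element `y` of order three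
inverted by `τ`. -/
structure Frame [Finite G] (X : Ctx G) (M T : Subgroup G) (x d y : G) : Prop where
  worst : X.Worst M T
  xS : x ∈ X.SS
  xR : x ∉ X.Res T
  xN : x ∈ Subgroup.normalizer (X.Res T : Set G)
  xx : x * x ∈ X.Res T
  dV : d ∈ Vc T
  dI : d ∉ conjS x T
  y3 : y ^ 3 = 1
  yN : y ∈ Subgroup.normalizer (T : Set G)
  yinv : x * d * x⁻¹ * y * (x * d * x⁻¹)⁻¹ = y⁻¹
  ychange : ∃ a ∈ T, ¬ (y * a * y⁻¹ ∈ M ↔ a ∈ M)
  cardMv : Nat.card (Mv T y) = 4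
  ytriv : ∀ t ∈ T, y * t * y⁻¹ * t⁻¹ ∈ Vc T

/-- The fixed points of `y` on `T`. -/
abbrev Tz (T : Subgroup G) (y : G) : Subgroup G := T ⊓ Subgroup.centralizer {y}

/-- The elements of `N(T)` acting trivially modulo `Ω₁ Z(T)`. -/
def triv [Finite G] (T : Subgroup G) : Subgroup G where
  carrier := {n | n ∈ Subgroup.normalizer (T : Set G) ∧ ∀ t ∈ T, n * t * n⁻¹ * t⁻¹ ∈ Vc T}
  one_mem' := ⟨one_mem _, fun t _ => by
    rw [one_mul, inv_one, mul_one, mul_inv_cancel]; exact one_mem _⟩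
  mul_mem' := by
    rintro n m ⟨hn, hn'⟩ ⟨hm, hm'⟩
    refine ⟨mul_mem hn hm, fun t ht => ?_⟩
    rw [show n * m * t * (n * m)⁻¹ * t⁻¹ =
      n * (m * t * m⁻¹ * t⁻¹) * n⁻¹ * (n * t * n⁻¹ * t⁻¹) by group]
    exact mul_mem ((Subgroup.mem_normalizer_iff.1 (normalizer_le_Vc T hn) _).1 (hm' t ht)) (hn' t ht)
  inv_mem' := by
    rintro n ⟨hn, hn'⟩
    refine ⟨inv_mem hn, fun t ht => ?_⟩
    have h := inv_mem (hn' _ ((Subgroup.mem_normalizer_iff.1 (inv_mem hn) t).1 ht))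
    rwa [show (n * (n⁻¹ * t * n⁻¹⁻¹) * n⁻¹ * (n⁻¹ * t * n⁻¹⁻¹)⁻¹)⁻¹ =
      n⁻¹ * t * n⁻¹⁻¹ * t⁻¹ by group] at h

theorem Ctx.Worst.exists_frame [Finite G] {X : Ctx G} {M T : Subgroup G} (W : X.Worst M T) :
    ∃ x d y, Frame X M T x d y := by
  obtain ⟨x, xS, xR, xN, xx⟩ := W.exists_swap
  obtain ⟨v', hv', hvT⟩ := SetLike.not_le_iff_exists.1 (W.conj_Vc_not_le xS xR xN xx)
  obtain ⟨d, hd, rfl⟩ := hv'
  change x * d * x⁻¹ ∉ T at hvT
  have hdI : d ∉ conjS x T := fun h => hvT (by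
    have h2 := conj_mem_conjS (g := x) h
    rwa [W.conj_swap xx le_rfl] at h2)
  set τ := x * d * x⁻¹ with hτ
  have hτR : τ ∈ X.Res T := (Subgroup.mem_normalizer_iff.1 xN d).1 (W.T_le (Vc_le T hd))
  have hτ2 : τ * τ = 1 := invol_conj hd.2.1 x
  obtain ⟨n, hn, y, hyz, hy3, hy, hyinv, hyp⟩ := W.exists_inverted hτR hvT hτ2
  refine ⟨x, d, y, W, xS, xR, xN, xx, hd, hdI, hy3, hy, hyinv, ?_,
    W.card_Mv hτR hvT hn hyz hy hy3 hyp, ?_⟩
  · by_contra h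
    push Not at h
    exact hyp ⟨hy, h⟩
  -- `τ` acts trivially modulo `Ω₁ Z(T)`
  have hT'R : conjS x T ≤ X.Res T :=
    (conjS_mono W.T_le).trans (conjS_eq_of_mem_normalizer xN).le
  have hfix : ∀ t ∈ T, t ∈ conjS x T → τ * t * τ⁻¹ = t := fun t _ ht => by
    have := (Vc_conj (g := x) hd).2.2 t ht
    rw [← hτ] at this
    rw [← this, mul_inv_cancel_right]
  have hτN := hτR.2
  have htr : τ ∈ triv T := by
    refine ⟨hτN, fun t ht => ?_⟩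
    by_cases htI : t ∈ conjS x T
    · rw [hfix t ht htI, mul_inv_cancel]; exact one_mem _
    · have htd : t * d ∈ conjS x T := mul_mem_of_card_le_two hT'R
        (W.index_two.1.le.trans (Nat.mul_le_mul_left 2 (card_conjS x T).ge)) (W.T_le ht)
        (W.T_le hd.1) htI hdI
      have e : τ * t * τ⁻¹ = t * d * (τ * d * τ⁻¹) := by
        calc τ * t * τ⁻¹ = τ * (t * (d * d)) * τ⁻¹ := by rw [hd.2.1, mul_one]
          _ = τ * (t * d) * τ⁻¹ * (τ * d * τ⁻¹) := by group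
          _ = t * d * (τ * d * τ⁻¹) := by rw [hfix _ (mul_mem ht hd.1) htd]
      rw [e]
      have hdc : t * (d * (τ * d * τ⁻¹)) = d * (τ * d * τ⁻¹) * t := Vc_comm
        (mul_mem hd ((Subgroup.mem_normalizer_iff.1 (normalizer_le_Vc T hτN) d).1 hd)) ht
      rw [mul_assoc t, hdc, mul_inv_cancel_right]
      exact mul_mem hd ((Subgroup.mem_normalizer_iff.1 (normalizer_le_Vc T hτN) d).1 hd)
  have hbtr : n * τ * n⁻¹ ∈ triv T := by
    refine ⟨mul_mem (mul_mem hn hτN) (inv_mem hn), fun t ht => ?_⟩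
    have h1 := htr.2 (n⁻¹ * t * n) ((Subgroup.mem_normalizer_iff''.1 hn t).1 ht)
    have h2 := (Subgroup.mem_normalizer_iff.1 (normalizer_le_Vc T hn) _).1 h1
    rwa [show n * (τ * (n⁻¹ * t * n) * τ⁻¹ * (n⁻¹ * t * n)⁻¹) * n⁻¹ =
      n * τ * n⁻¹ * t * (n * τ * n⁻¹)⁻¹ * t⁻¹ by group] at h2
  exact ((Subgroup.zpowers_le.2 ((triv T).mul_mem htr hbtr)) hyz).2

namespace Frame

variable [Finite G] {X : Ctx G} {M T : Subgroup G} {x d y : G} (F : Frame X M T x d y)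
include F

theorem tau_res : x * d * x⁻¹ ∈ X.Res T :=
  (Subgroup.mem_normalizer_iff.1 F.xN d).1 (F.worst.T_le (Vc_le T F.dV))

theorem tau_notMem : x * d * x⁻¹ ∉ T := fun h => F.dI (by
  have h2 : x * (x * d * x⁻¹) * x⁻¹ ∈ conjS x T := conj_mem_conjS h
  have h3 : (x * x) * d * (x * x)⁻¹ ∈ conjS x T := by
    rwa [show x * x * d * (x * x)⁻¹ = x * (x * d * x⁻¹) * x⁻¹ by group]
  have h4 : x * x ∈ Subgroup.normalizer (conjS x T : Set G) :=
    F.worst.res_normalizes_conj F.xN le_rfl F.xx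
  exact (Subgroup.mem_normalizer_iff.1 h4 d).2 h3)

theorem tau_sq : x * d * x⁻¹ * (x * d * x⁻¹) = 1 := invol_conj F.dV.2.1 x

theorem conj_T_le : conjS x T ≤ X.Res T :=
  (conjS_mono F.worst.T_le).trans (conjS_eq_of_mem_normalizer F.xN).le

theorem inf_index {p q : G} (hp : p ∈ T) (hq : q ∈ T) (hpI : p ∉ conjS x T) (hqI : q ∉ conjS x T) :
    p * q ∈ conjS x T :=
  mul_mem_of_card_le_two F.conj_T_le
    (F.worst.index_two.1.le.trans (Nat.mul_le_mul_left 2 (card_conjS x T).ge)) (F.worst.T_le hp)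
    (F.worst.T_le hq) hpI hqI

theorem res_split {r : G} (hr : r ∈ X.Res T) : r ∈ T ∨ r * (x * d * x⁻¹) ∈ T := by
  by_cases h : r ∈ T
  · exact Or.inl h
  · exact Or.inr (F.worst.mul_mem_T hr F.tau_res h F.tau_notMem)

theorem tau_comm {i : G} (hi : i ∈ conjS x T) : i * (x * d * x⁻¹) = x * d * x⁻¹ * i :=
  (Vc_conj (g := x) F.dV).2.2 i hi

theorem mem_of_tau_comm {t : G} (ht : t ∈ T) (hc : t * (x * d * x⁻¹) = x * d * x⁻¹ * t) :
    t ∈ conjS x T := by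
  by_contra htI
  refine F.tau_notMem (F.worst.centralizer_le (Subgroup.mem_centralizer_iff.2 fun s hs => ?_))
  by_cases hsI : s ∈ conjS x T
  · exact F.tau_comm hsI
  · have h1 : Commute (s * t) (x * d * x⁻¹) := F.tau_comm (F.inf_index hs ht hsI htI)
    have h2 := h1.mul_left (Commute.inv_left (show Commute t (x * d * x⁻¹) from hc))
    rwa [mul_inv_cancel_right] at h2

theorem tau_conj_Mv {m : G} (hm : m ∈ Mv T y) :
    x * d * x⁻¹ * m * (x * d * x⁻¹)⁻¹ ∈ Mv T y := by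
  set τ := x * d * x⁻¹ with hτ
  have hN : τ ∈ Subgroup.normalizer (Vc T : Set G) := normalizer_le_Vc T F.tau_res.2
  have hyi : τ⁻¹ * y * τ = y⁻¹ := by
    rw [inv_eq_of_mul_eq_one_right F.tau_sq]
    have := F.yinv
    rwa [inv_eq_of_mul_eq_one_right F.tau_sq] at this
  obtain ⟨h0, h1, h2, h3⟩ := hm
  have c : ∀ {w : G}, w ∈ Vc T → τ * w * τ⁻¹ ∈ Vc T := fun hw =>
    (Subgroup.mem_normalizer_iff.1 hN _).1 hw
  have e1 : y * (τ * m * τ⁻¹) * y⁻¹ = τ * (y * (y * m * y⁻¹) * y⁻¹) * τ⁻¹ := by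
    have e3 : y⁻¹ = y * y := inv_eq_of_mul_eq_one_right (by rw [← F.y3, pow_succ', pow_two])
    calc y * (τ * m * τ⁻¹) * y⁻¹ = τ * ((τ⁻¹ * y * τ) * m * (τ⁻¹ * y * τ)⁻¹) * τ⁻¹ := by group
      _ = τ * ((y * y) * m * (y * y)⁻¹) * τ⁻¹ := by rw [hyi, e3]
      _ = _ := by group
  have e2 : y * (y * (τ * m * τ⁻¹) * y⁻¹) * y⁻¹ = τ * (y * m * y⁻¹) * τ⁻¹ := by
    have e3 : y⁻¹ = y * y := inv_eq_of_mul_eq_one_right (by rw [← F.y3, pow_succ', pow_two])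
    calc y * (y * (τ * m * τ⁻¹) * y⁻¹) * y⁻¹ =
        τ * ((τ⁻¹ * y * τ) * (τ⁻¹ * y * τ) * m * ((τ⁻¹ * y * τ) * (τ⁻¹ * y * τ))⁻¹) * τ⁻¹ := by
          group
      _ = τ * ((y⁻¹ * y⁻¹) * m * (y⁻¹ * y⁻¹)⁻¹) * τ⁻¹ := by rw [hyi]
      _ = τ * (y * m * y⁻¹) * τ⁻¹ := by
        rw [show y⁻¹ * y⁻¹ = y by rw [← mul_inv_rev, ← e3, inv_inv]]
  refine ⟨c h0, e1 ▸ c h2, e2 ▸ c h1, ?_⟩
  rw [e2, e1, show τ * m * τ⁻¹ * (τ * (y * (y * m * y⁻¹) * y⁻¹) * τ⁻¹) * (τ * (y * m * y⁻¹) * τ⁻¹) =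
    τ * (m * ((y * (y * m * y⁻¹) * y⁻¹) * (y * m * y⁻¹))) * τ⁻¹ by group,
    (Vc_ea T).comm h2 h1, ← mul_assoc m, h3, mul_one, mul_inv_cancel]

/-- The element `v = [d, τ]`. -/
theorem tau_move {t : G} (ht : t ∈ T) (htI : t ∉ conjS x T) :
    x * d * x⁻¹ * t * (x * d * x⁻¹)⁻¹ = d * (x * d * x⁻¹ * d * (x * d * x⁻¹)⁻¹) * t := by
  set τ := x * d * x⁻¹ with hτ
  have hd2 : d * d = 1 := F.dV.2.1
  have h1 : τ * (t * d) * τ⁻¹ = t * d := by
    rw [← F.tau_comm (F.inf_index ht F.dV.1 htI F.dI), ← hτ, mul_inv_cancel_right]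
  have hw : d * (τ * d * τ⁻¹) ∈ Vc T :=
    mul_mem F.dV ((Subgroup.mem_normalizer_iff.1 (normalizer_le_Vc T F.tau_res.2) d).1 F.dV)
  calc τ * t * τ⁻¹ = τ * (t * (d * d)) * τ⁻¹ := by rw [hd2, mul_one]
    _ = τ * (t * d) * τ⁻¹ * (τ * d * τ⁻¹) := by group
    _ = t * (d * (τ * d * τ⁻¹)) := by rw [h1, mul_assoc]
    _ = d * (τ * d * τ⁻¹) * t := Vc_comm hw ht

theorem not_conjT_le : ¬ Mv T y ≤ conjS x T := by
  intro hle
  have hne : Mv T y ≠ ⊥ := fun h => by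
    have := F.cardMv
    rw [h, Subgroup.card_bot] at this
    omega
  obtain ⟨m, hm, hm1⟩ := (Subgroup.bot_or_exists_ne_one (Mv T y)).resolve_left hne
  set τ := x * d * x⁻¹ with hτ
  have fix : ∀ k ∈ Mv T y, τ * k * τ⁻¹ = k := fun k hk => by
    rw [← F.tau_comm (hle hk), mul_inv_cancel_right]
  have hm' := conj_mem_Mv F.yN F.y3 hm
  have e : y⁻¹ * m * y = y * m * y⁻¹ := by
    calc y⁻¹ * m * y = y⁻¹ * m * y⁻¹⁻¹ := by rw [inv_inv]
      _ = (τ * y * τ⁻¹) * m * (τ * y * τ⁻¹)⁻¹ := by rw [F.yinv]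
      _ = τ * (y * (τ⁻¹ * m * τ) * y⁻¹) * τ⁻¹ := by group
      _ = τ * (y * m * y⁻¹) * τ⁻¹ := by
        rw [show τ⁻¹ * m * τ = m by
          nth_rw 1 [← fix m hm]
          group]
      _ = y * m * y⁻¹ := fix _ hm'
  refine hm1 (eq_one_of_fixed F.yN F.y3 hm ?_)
  calc y * m * y⁻¹ = y * (y * (y⁻¹ * m * y) * y⁻¹) * y⁻¹ := by group
    _ = y * (y * (y * m * y⁻¹) * y⁻¹) * y⁻¹ := by rw [e]
    _ = m := conj3 F.yN F.y3 m

theorem v_mem : d * (x * d * x⁻¹ * d * (x * d * x⁻¹)⁻¹) ∈ Mv T y := by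
  obtain ⟨m, hm, hmI⟩ := SetLike.not_le_iff_exists.1 F.not_conjT_le
  have h1 := F.tau_move (Mv_le T y hm).1 hmI
  have h2 := mul_mem (F.tau_conj_Mv hm) (inv_mem hm)
  rwa [h1, mul_inv_cancel_right] at h2

theorem v_ne_one : d * (x * d * x⁻¹ * d * (x * d * x⁻¹)⁻¹) ≠ 1 := by
  intro h
  refine F.dI (F.mem_of_tau_comm F.dV.1 ?_)
  have h2 := F.tau_move F.dV.1 F.dI
  rw [h, one_mul] at h2
  exact (mul_inv_eq_iff_eq_mul.1 h2).symm

/-- `τ` centralises the fixed points of `y`. -/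
theorem Tz_le : Tz T y ≤ conjS x T := by
  intro t ht
  by_contra htI
  set τ := x * d * x⁻¹ with hτ
  have hc := Subgroup.mem_centralizer_singleton_iff.1 ht.2
  have h1 := F.tau_move ht.1 htI
  set v := d * (τ * d * τ⁻¹) with hv
  -- both `t` and `τ t τ⁻¹` are fixed by `y`, so `v` is
  have hyt : Commute y t := hc.symm
  have hyτ : Commute y (τ * t * τ⁻¹) := by
    have e : y⁻¹ * t * y⁻¹⁻¹ = t := by rw [hyt.inv_left.eq, mul_inv_cancel_right]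
    have ey : τ * y⁻¹ * τ⁻¹ = y := by rw [← conj_inv, F.yinv, inv_inv]
    refine mul_inv_eq_iff_eq_mul.1 ?_
    calc y * (τ * t * τ⁻¹) * y⁻¹ =
        (τ * y⁻¹ * τ⁻¹) * (τ * t * τ⁻¹) * (τ * y⁻¹ * τ⁻¹)⁻¹ := by rw [ey]
      _ = τ * (y⁻¹ * t * y⁻¹⁻¹) * τ⁻¹ := by group
      _ = τ * t * τ⁻¹ := by rw [e]
  rw [h1] at hyτ
  have hyv := hyτ.mul_right hyt.inv_right
  rw [mul_inv_cancel_right] at hyv
  exact F.v_ne_one (eq_one_of_fixed F.yN F.y3 F.v_mem (by rw [hyv.eq, mul_inv_cancel_right]))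

theorem decomp {t : G} (ht : t ∈ T) : ∃ m ∈ Mv T y, ∃ t0 ∈ Tz T y, t = m * t0 := by
  obtain ⟨e, he_eq⟩ : ∃ e, e = y * t * y⁻¹ * t⁻¹ := ⟨_, rfl⟩
  have he : e ∈ Vc T := he_eq ▸ F.ytriv t ht
  obtain ⟨e1, he1d⟩ : ∃ a, a = y * e * y⁻¹ := ⟨_, rfl⟩
  obtain ⟨e2, he2d⟩ : ∃ a, a = y * e1 * y⁻¹ := ⟨_, rfl⟩
  have he1 : e1 ∈ Vc T := he1d ▸ conj_mem_Vc F.yN F.y3 he
  have he2 : e2 ∈ Vc T := he2d ▸ conj_mem_Vc F.yN F.y3 he1
  have hyt : y * t * y⁻¹ = e * t := by rw [he_eq, inv_mul_cancel_right]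
  have hnorm : e2 * e1 * e = 1 := by
    have e3 : y * (y * (y * t * y⁻¹) * y⁻¹) * y⁻¹ = t := conj3 F.yN F.y3 t
    rw [hyt, show y * (e * t) * y⁻¹ = (y * e * y⁻¹) * (y * t * y⁻¹) by group, hyt, ← he1d,
      show y * (e1 * (e * t)) * y⁻¹ = (y * e1 * y⁻¹) * ((y * e * y⁻¹) * (y * t * y⁻¹)) by group,
      hyt, ← he1d, ← he2d, ← mul_assoc, ← mul_assoc] at e3
    exact mul_eq_right.1 e3
  have hm : e1 ∈ Mv T y := by
    refine ⟨he1, he2d ▸ he2, ?_, ?_⟩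
    · rw [← he2d, show y * e2 * y⁻¹ = e by rw [he2d, he1d]; exact conj3 F.yN F.y3 e]
      exact he
    · rw [← he2d, show y * e2 * y⁻¹ = e by rw [he2d, he1d]; exact conj3 F.yN F.y3 e,
        (Vc_ea T).comm he1 he2]
      exact hnorm
  refine ⟨e1, hm, e1 * t, ⟨mul_mem he1.1 ht, Subgroup.mem_centralizer_singleton_iff.2 ?_⟩, ?_⟩
  · refine (mul_inv_eq_iff_eq_mul.1 ?_).symm
    rw [show y * (e1 * t) * y⁻¹ = (y * e1 * y⁻¹) * (y * t * y⁻¹) by group, hyt, ← he2d]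
    have h1 : e2 * e = e1 := by
      calc e2 * e = (e1 * e1) * (e2 * e) := by rw [he1.2.1, one_mul]
        _ = e1 * (e1 * e2 * e) := by group
        _ = e1 := by rw [(Vc_ea T).comm he1 he2, hnorm, mul_one]
    rw [← mul_assoc, h1]
  · rw [← mul_assoc, he1.2.1, one_mul]

theorem Mv_inf_Tz {m : G} (hm : m ∈ Mv T y) (hm' : m ∈ Tz T y) : m = 1 := by
  refine eq_one_of_fixed F.yN F.y3 hm ?_
  rw [← Subgroup.mem_centralizer_singleton_iff.1 hm'.2, mul_inv_cancel_right]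

theorem Mv_comm {m t : G} (hm : m ∈ Mv T y) (ht : t ∈ T) : t * m = m * t :=
  Vc_comm (Mv_le T y hm) ht

theorem Tz_normal {r : G} (hr : r ∈ X.Res T) : r ∈ Subgroup.normalizer (Tz T y : Set G) := by
  refine mem_normalizer_of_conjS_eq (Subgroup.eq_of_le_of_card_ge ?_ (card_conjS _ _).ge)
  rintro _ ⟨t, ht, rfl⟩
  show r * t * r⁻¹ ∈ Tz T y
  have hτ : ∀ s ∈ Tz T y, s * (x * d * x⁻¹) = x * d * x⁻¹ * s := fun s hs =>
    F.tau_comm (F.Tz_le hs)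
  have hT : ∀ s ∈ T, s * t * s⁻¹ ∈ Tz T y := fun s hs => by
    obtain ⟨m, hm, s0, hs0, rfl⟩ := F.decomp hs
    have e : m * s0 * t * (m * s0)⁻¹ = s0 * t * s0⁻¹ := by
      have h1 : Commute (s0 * t * s0⁻¹) m :=
        F.Mv_comm hm (mul_mem (mul_mem hs0.1 ht.1) (inv_mem hs0.1))
      calc m * s0 * t * (m * s0)⁻¹ = m * (s0 * t * s0⁻¹) * m⁻¹ := by group
        _ = _ := by rw [← h1.eq, mul_inv_cancel_right]
    rw [e]
    exact mul_mem (mul_mem hs0 ht) (inv_mem hs0)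
  rcases F.res_split hr with h | h
  · exact hT r h
  · have e : r * t * r⁻¹ = r * (x * d * x⁻¹) * t * (r * (x * d * x⁻¹))⁻¹ := by
      calc r * t * r⁻¹ = r * (t * (x * d * x⁻¹) * (x * d * x⁻¹)⁻¹) * r⁻¹ := by group
        _ = _ := by rw [hτ t ht]; group
    rw [e]
    exact hT _ h

/-- No non-trivial subgroup of the fixed points of `y` is normal in `S`. -/
theorem no_normal (D : Subgroup G) (hD : D ≤ Tz T y)
    (hS : X.SS ≤ Subgroup.normalizer (D : Set G)) : D = ⊥ := by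
  haveI : Fact (Nat.Prime 2) := ⟨Nat.prime_two⟩
  by_contra hne
  have hDS : D ≤ X.SS := hD.trans (inf_le_left.trans F.worst.loc.1)
  haveI : (D.subgroupOf X.SS).Normal := (Subgroup.normal_subgroupOf_iff_le_normalizer hDS).2 hS
  haveI : Nontrivial ↥(D.subgroupOf X.SS) := by
    rw [Subgroup.nontrivial_iff_ne_bot, Ne, Subgroup.subgroupOf_eq_bot, disjoint_iff,
      inf_eq_left.2 hDS]
    exact hne
  obtain ⟨c, hcD, hc1⟩ : ∃ c : ↥X.SS, c ∈ D.subgroupOf X.SS ⊓ Subgroup.center ↥X.SS ∧ c ≠ 1 := by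
    have h := PGroups.normal_inf_center_ne_bot (p := 2) X.S.2 (D.subgroupOf X.SS)
      ((Subgroup.nontrivial_iff_ne_bot _).1 inferInstance)
    exact (Subgroup.bot_or_exists_ne_one _).resolve_left h
  have hcen := X.centralizer_eq c.2 (fun h => hc1 (Subtype.ext h)) fun s hs =>
    congrArg Subtype.val (Subgroup.mem_center_iff.1 hcD.2 ⟨s, hs⟩)
  have hyS : y ∈ X.SS := hcen ▸ Subgroup.mem_centralizer_singleton_iff.2
    (Subgroup.mem_centralizer_singleton_iff.1 (hD hcD.1).2).symm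
  obtain ⟨j, hj⟩ := IsPGroup.iff_orderOf.1 X.S.2 ⟨y, hyS⟩
  rw [Subgroup.orderOf_mk] at hj
  have hd3 : orderOf y ∣ 3 := orderOf_dvd_of_pow_eq_one F.y3
  have h1 : orderOf y = 1 :=
    Nat.eq_one_of_dvd_coprimes (Nat.Coprime.pow_left j (by norm_num : Nat.Coprime 2 3))
      (dvd_of_eq hj) hd3
  obtain ⟨a, -, hch⟩ := F.ychange
  rw [orderOf_eq_one_iff.1 h1] at hch
  exact hch (by rw [one_mul, inv_one, mul_one])

theorem Mv_not_le : ¬ Mv T y ≤ M := by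
  intro hle
  obtain ⟨a, ha, hch⟩ := F.ychange
  obtain ⟨m, hm, t0, ht0, rfl⟩ := F.decomp ha
  refine hch ?_
  rw [show y * (m * t0) * y⁻¹ = (y * m * y⁻¹) * (y * t0 * y⁻¹) by group,
    ← Subgroup.mem_centralizer_singleton_iff.1 ht0.2, mul_inv_cancel_right,
    Subgroup.mul_mem_cancel_left M (hle (conj_mem_Mv F.yN F.y3 hm)),
    Subgroup.mul_mem_cancel_left M (hle hm)]

theorem card_T : Nat.card T = 4 * Nat.card (Tz T y) := by
  rw [← F.cardMv, ← Nat.card_prod]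
  refine (Nat.card_eq_of_bijective
    (fun p : ↥(Mv T y) × ↥(Tz T y) =>
      (⟨(p.1 : G) * p.2, mul_mem (Mv_le T y p.1.2).1 p.2.2.1⟩ : ↥T)) ⟨?_, fun t => ?_⟩).symm
  · rintro ⟨a, b⟩ ⟨a', b'⟩ h
    have h' : (a : G) * b = (a' : G) * b' := congrArg Subtype.val h
    have h1 : (a' : G)⁻¹ * a = (b' : G) * (b : G)⁻¹ := by
      calc (a' : G)⁻¹ * a = (a' : G)⁻¹ * ((a : G) * b) * (b : G)⁻¹ := by group
        _ = _ := by rw [h']; group
    have h2 := F.Mv_inf_Tz (h1 ▸ mul_mem (inv_mem a'.2) a.2 : (b' : G) * (b : G)⁻¹ ∈ Mv T y)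
      (mul_mem b'.2 (inv_mem b.2))
    rw [h2] at h1
    exact Prod.ext (Subtype.ext (inv_mul_eq_one.1 h1).symm)
      (Subtype.ext (mul_inv_eq_one.1 h2).symm)
  · obtain ⟨m, hm, t0, ht0, e⟩ := F.decomp t.2
    exact ⟨⟨⟨m, hm⟩, ⟨t0, ht0⟩⟩, Subtype.ext e.symm⟩

/-- An element of `T ⊓ T'` is `t₀` or `v t₀`. -/
theorem inf_split {i : G} (hi : i ∈ T) (hi' : i ∈ conjS x T) :
    i ∈ Tz T y ∨ d * (x * d * x⁻¹ * d * (x * d * x⁻¹)⁻¹) * i ∈ Tz T y := by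
  obtain ⟨m, hm, t0, ht0, rfl⟩ := F.decomp hi
  set v := d * (x * d * x⁻¹ * d * (x * d * x⁻¹)⁻¹) with hv
  have hmI : m ∈ conjS x T := (Subgroup.mul_mem_cancel_right _ (F.Tz_le ht0)).1 hi'
  by_cases hm1 : m = 1
  · exact Or.inl (by rw [hm1, one_mul]; exact ht0)
  refine Or.inr ?_
  have hvm := F.v_mem
  have hvI : v ∈ conjS x T := by
    refine F.mem_of_tau_comm (Mv_le T y hvm).1 ((mul_inv_eq_iff_eq_mul (G := G)).1 ?_).symm
    set τ := x * d * x⁻¹ with hτ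
    have hτd : τ * d * τ⁻¹ ∈ Vc T :=
      (Subgroup.mem_normalizer_iff.1 (normalizer_le_Vc T F.tau_res.2) d).1 F.dV
    calc τ * v * τ⁻¹ = τ * d * τ⁻¹ * ((τ * τ) * d * (τ * τ)⁻¹) := by rw [hv]; group
      _ = τ * d * τ⁻¹ * d := by rw [F.tau_sq, one_mul, inv_one, mul_one]
      _ = v := (Vc_ea T).comm hτd F.dV
  -- otherwise `Mv ≤ T'`
  have hmv : m = v := by
    by_contra hne
    refine F.not_conjT_le fun k hk => ?_
    by_contra hkI
    have hsub : ({1, v, m, k, k * v} : Set G) ⊆ (Mv T y : Set G) := by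
      rintro e (rfl | rfl | rfl | rfl | rfl)
      · exact one_mem _
      · exact hvm
      · exact hm
      · exact hk
      · exact mul_mem hk hvm
    have hk1 : k ≠ 1 := fun h => hkI (h ▸ one_mem _)
    have hkv : k * v ∉ conjS x T := fun h => hkI ((Subgroup.mul_mem_cancel_right _ hvI).1 h)
    have h1 := Set.ncard_le_ncard hsub (Set.toFinite _)
    have hv1 : v ≠ 1 := F.v_ne_one
    rw [Set.ncard_insert_of_notMem (by
        simp only [Set.mem_insert_iff, Set.mem_singleton_iff, not_or]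
        exact ⟨Ne.symm hv1, Ne.symm hm1, Ne.symm hk1, fun h => hkv (h ▸ one_mem _)⟩),
      Set.ncard_insert_of_notMem (by
        simp only [Set.mem_insert_iff, Set.mem_singleton_iff, not_or]
        exact ⟨Ne.symm hne, fun h => hkI (h ▸ hvI), fun h => hkv (h ▸ hvI)⟩),
      Set.ncard_insert_of_notMem (by
        simp only [Set.mem_insert_iff, Set.mem_singleton_iff, not_or]
        exact ⟨fun h => hkI (h ▸ hmI), fun h => hkv (h ▸ hmI)⟩),
      Set.ncard_pair (fun h => hv1 (mul_eq_left.1 h.symm)), ← Nat.card_coe_set_eq] at h1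
    change 5 ≤ Nat.card (Mv T y) at h1
    rw [F.cardMv] at h1
    omega
  rw [hmv, ← mul_assoc, show v * v = 1 from (Mv_le T y hvm).2.1, one_mul]
  exact ht0

theorem x_fixes_v : x * (d * (x * d * x⁻¹ * d * (x * d * x⁻¹)⁻¹)) * x⁻¹ =
    d * (x * d * x⁻¹ * d * (x * d * x⁻¹)⁻¹) := by
  set τ := x * d * x⁻¹ with hτ
  set d' := (x * x) * d * (x * x)⁻¹ with hd'
  have hd'V : d' ∈ Vc T :=
    (Subgroup.mem_normalizer_iff.1 (normalizer_le_Vc T F.xx.2) d).1 F.dV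
  have hd'I : d' ∉ conjS x T := fun h => F.dI
    ((Subgroup.mem_normalizer_iff.1 (F.worst.res_normalizes_conj F.xN le_rfl F.xx) d).2 h)
  set v := d * (τ * d * τ⁻¹) with hv
  have h1 : τ * d' * τ⁻¹ = v * d' := F.tau_move hd'V.1 hd'I
  calc x * v * x⁻¹ = τ * d' * τ⁻¹ * (τ * τ) * d'⁻¹ := by
        rw [hv, hd', hτ]; group
    _ = v := by rw [h1, F.tau_sq, mul_one, mul_inv_cancel_right]

end Frame

end Cfsg.Agent.Lib.LengthEight21
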