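import Cfsg.Agent.Lib.LengthEight21.Local

/-!
# S3250: a fixed point of `y` in `T` gives a half of `S` whose outer involutions centralise no four group

Owner: helper21; proof in `notes/s3250_helper21.md`.
-/

set_option autoImplicit false
set_option linter.style.haveILetI false
set_option linter.unusedSectionVars false

open Subgroup

namespace Cfsg.Agent.Lib.LengthEight21

open Fusion.Alperin

universe u

variable {G : Type u} [Group G]

/-- No involution of `S` outside `K` centralises a four group of `K`. -/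
def Ctx.NoFour [Finite G] (X : Ctx G) (K : Subgroup G) : Prop :=
  ∀ i ∈ X.SS, i ∉ K → i * i = 1 → ∀ F : Subgroup G, F ≤ K → IsEA F → Nat.card F = 4 →
    ¬ ∀ f ∈ F, i * f = f * i

theorem conjS_invol {i : G} (hi : i * i = 1) (A : Subgroup G) : conjS i (conjS i A) = A := by
  rw [← conjS_mul, hi, conjS_one]

theorem mem_conjS_iff_of_comm {i f : G} {A : Subgroup G} (h : i * f = f * i) :
    f ∈ conjS i A ↔ f ∈ A := by
  rw [mem_conjS, show i⁻¹ * f * i = f by rw [mul_assoc, ← h, inv_mul_cancel_left]]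

theorem Ctx.isHalf_of_card [Finite G] (X : Ctx G) {K : Subgroup G} (hK : K ≤ X.SS)
    (h : Nat.card K = 64) : X.IsHalf K := by
  refine ⟨hK, fun e => ?_, fun a ha b hb haK hbK => ?_⟩
  · rw [e, X.card_S] at h; norm_num at h
  · exact mul_mem_of_card_le_two hK (by rw [h, X.card_S]; norm_num) ha hb haK hbK

theorem Ctx.normalizer_of_half [Finite G] (X : Ctx G) {K : Subgroup G} (hK : X.IsHalf K) :
    X.SS ≤ Subgroup.normalizer (K : Set G) := by
  intro s hs
  refine mem_normalizer_of_conjS_eq (Subgroup.eq_of_le_of_card_ge ?_ (card_conjS _ _).ge)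
  rintro _ ⟨k, hk, rfl⟩
  show s * k * s⁻¹ ∈ K
  rw [hK.mul_mem_iff (mul_mem hs (hK.1 hk)) (inv_mem hs), hK.mul_mem_iff hs (hK.1 hk), inv_mem_iff]
  tauto

namespace Frame

variable [Finite G] {X : Ctx G} {M T : Subgroup G} {x d y : G} (F : Frame X M T x d y)
include F

theorem v_mem_inf : d * (x * d * x⁻¹ * d * (x * d * x⁻¹)⁻¹) ∈ T ⊓ conjS x T := by
  have hvm := F.v_mem
  refine ⟨(Mv_le T y hvm).1, F.mem_of_tau_comm (Mv_le T y hvm).1
    ((mul_inv_eq_iff_eq_mul (G := G)).1 ?_).symm⟩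
  set τ := x * d * x⁻¹ with hτ
  set v := d * (τ * d * τ⁻¹) with hv
  have hτd : τ * d * τ⁻¹ ∈ Vc T :=
    (Subgroup.mem_normalizer_iff.1 (normalizer_le_Vc T F.tau_res.2) d).1 F.dV
  calc τ * v * τ⁻¹ = τ * d * τ⁻¹ * ((τ * τ) * d * (τ * τ)⁻¹) := by rw [hv]; group
    _ = τ * d * τ⁻¹ * d := by rw [F.tau_sq, one_mul, inv_one, mul_one]
    _ = v := (Vc_ea T).comm hτd F.dV

/-- An element of `T ⊓ T'` fixed by `x` is central in `R₁`. -/
theorem central {p g : G} (hp : p ∈ T ⊓ conjS x T) (hxp : x * p = p * x) (hg : g ∈ X.R1 T) :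
    g * p = p * g := by
  rcases F.R1_split hg with h | h
  · exact (F.inf_comm_res hp.1 hp.2 h).symm
  · have c1 : Commute p (x⁻¹ * g) := F.inf_comm_res hp.1 hp.2 h
    have c2 := (show Commute p x from hxp.symm).mul_right c1
    rw [mul_inv_cancel_left] at c2
    exact c2.eq.symm

/-- An element of `S` commuting with all of `R₁` lies in `T ⊓ T'`. -/
theorem mem_inf_of_central {q : G} (h : ∀ g ∈ X.R1 T, g * q = q * g) : q ∈ T ⊓ conjS x T :=
  F.mem_inf_of_comm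
    (fun t ht => h t ⟨(F.worst.T_le ht).1, Subgroup.le_normalizer (F.worst.T_le ht)⟩)
    (h _ ⟨F.tau_res.1, Subgroup.le_normalizer F.tau_res⟩).symm

theorem x_comm_v : x * (d * (x * d * x⁻¹ * d * (x * d * x⁻¹)⁻¹)) =
    d * (x * d * x⁻¹ * d * (x * d * x⁻¹)⁻¹) * x :=
  mul_inv_eq_iff_eq_mul.1 F.x_fixes_v

theorem sq_of_T {t : G} (ht : t ∈ T) : ∃ s ∈ Tz T y, t * t = s * s := by
  obtain ⟨m, hm, s, hs, rfl⟩ := F.decomp ht
  refine ⟨s, hs, ?_⟩
  rw [show m * s * (m * s) = m * (s * m) * s by group, F.Mv_comm hm hs.1,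
    show m * (m * s) * s = (m * m) * (s * s) by group, (Mv_le T y hm).2.1, one_mul]

/-- The squares in `R`. -/
theorem sq_of_R {c r : G} (hTz4 : ∀ t ∈ Tz T y, t * t = 1 ∨ t * t = c) (hr : r ∈ X.Res T) :
    r * r = 1 ∨ r * r = c ∨ r * r = d * (x * d * x⁻¹ * d * (x * d * x⁻¹)⁻¹) ∨
      r * r = d * (x * d * x⁻¹ * d * (x * d * x⁻¹)⁻¹) * c := by
  set τ := x * d * x⁻¹ with hτ
  set v := d * (τ * d * τ⁻¹) with hv
  have hT : ∀ t ∈ T, t * t = 1 ∨ t * t = c := fun t ht => by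
    obtain ⟨s, hs, e⟩ := F.sq_of_T ht
    rw [e]; exact hTz4 s hs
  rcases F.res_split hr with h | h
  · rcases hT r h with e | e
    · exact Or.inl e
    · exact Or.inr (Or.inl e)
  · set t := r * τ with ht
    have e : r * r = t * (τ * t * τ⁻¹) := by
      have ei : τ⁻¹ = τ := inv_eq_of_mul_eq_one_right F.tau_sq
      calc r * r = r * (τ * τ) * r * (τ * τ) := by rw [F.tau_sq, mul_one, mul_one]
        _ = t * (τ * t * τ) := by rw [ht]; simp only [mul_assoc]
        _ = _ := by rw [ei]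
    by_cases htI : t ∈ conjS x T
    · rw [← F.tau_comm htI, ← hτ, mul_inv_cancel_right] at e
      rcases hT t h with e' | e'
      · exact Or.inl (e.trans e')
      · exact Or.inr (Or.inl (e.trans e'))
    · rw [F.tau_move h htI, ← mul_assoc, F.Mv_comm F.v_mem h, mul_assoc] at e
      rcases hT t h with e' | e'
      · exact Or.inr (Or.inr (Or.inl (by rw [e, e', mul_one])))
      · exact Or.inr (Or.inr (Or.inr (by rw [e, e'])))

theorem dtau_not : d * (x * d * x⁻¹) ∉ T ∧ d * (x * d * x⁻¹) ∉ conjS x T :=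
  ⟨fun h => F.tau_notMem ((Subgroup.mul_mem_cancel_left T F.dV.1).1 h),
    fun h => F.dI ((Subgroup.mul_mem_cancel_right _ (conj_mem_conjS F.dV.1)).1 h)⟩

/-- An involution of `R` lies in `T ∪ T'`. -/
theorem invol_res {p : G} (hp : p ∈ X.Res T) (hp2 : p * p = 1) : p ∈ T ∨ p ∈ conjS x T := by
  by_contra hne
  push Not at hne
  set τ := x * d * x⁻¹ with hτ
  have hk := F.third_coset hp (mul_mem (F.worst.T_le F.dV.1) F.tau_res) hne.1 hne.2 F.dtau_not.1
    F.dtau_not.2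
  rw [← hτ] at hk
  set k := p * (d * τ)⁻¹ with hk'
  have hpk : p = k * (d * τ) := by rw [hk', inv_mul_cancel_right]
  have hc : Commute k (d * τ) := F.inf_comm_res hk.1 hk.2 (mul_mem (F.worst.T_le F.dV.1) F.tau_res)
  obtain ⟨s, hs, e⟩ := F.sq_of_T hk.1
  have h1 : d * τ * (d * τ) = d * (τ * d * τ⁻¹) := by
    rw [show τ⁻¹ = τ from inv_eq_of_mul_eq_one_right F.tau_sq]
    simp only [mul_assoc]
  have h2 : k * k * (d * (τ * d * τ⁻¹)) = 1 := by
    rw [← h1, show k * k * (d * τ * (d * τ)) = k * (k * (d * τ)) * (d * τ) by group, hc.eq,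
      show k * (d * τ * k) * (d * τ) = k * (d * τ) * (k * (d * τ)) by group, ← hpk, hp2]
  rw [e] at h2
  exact F.v_ne_one (F.Mv_inf_Tz F.v_mem (by
    rw [← inv_eq_of_mul_eq_one_right h2]
    exact inv_mem (mul_mem hs hs)))

/-- Two elements of `R₁ ∖ R` with squares in `T ⊓ T'` do not differ by an element of
`(T ∪ T') ∖ (T ⊓ T')`. -/
theorem outside {g k : G} (hg : g ∈ X.R1 T) (hgR : g ∉ X.Res T) (hgg : g * g ∈ T ⊓ conjS x T)
    (hgk : g * k * (g * k) ∈ T ⊓ conjS x T) (hk : k ∈ T ∨ k ∈ conjS x T) :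
    k ∈ T ⊓ conjS x T := by
  have e : g⁻¹ * k * g * k = (g * g)⁻¹ * (g * k * (g * k)) := by group
  have h1 : g⁻¹ * k * g * k ∈ T ⊓ conjS x T := e ▸ mul_mem (inv_mem hgg) hgk
  have hg' : g⁻¹ ∈ X.R1 T := inv_mem hg
  have hgR' : g⁻¹ ∉ X.Res T := fun h => hgR ((Subgroup.inv_mem_iff _).1 h)
  rcases hk with hk | hk
  · refine ⟨hk, ?_⟩
    have h2 : g⁻¹ * k * g ∈ conjS x T := by
      have := (F.swap hg' hgR').le (conj_mem_conjS (g := g⁻¹) hk)
      rwa [inv_inv] at this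
    exact (Subgroup.mul_mem_cancel_left _ h2).1 h1.2
  · refine ⟨?_, hk⟩
    have h2 : g⁻¹ * k * g ∈ T := by
      have := (F.swap_conjT hg' hgR').le (conj_mem_conjS (g := g⁻¹) hk)
      rwa [inv_inv] at this
    exact (Subgroup.mul_mem_cancel_left _ h2).1 h1.1

theorem res_le_R1 : X.Res T ≤ X.R1 T := fun _ hr => ⟨hr.1, Subgroup.le_normalizer hr⟩

theorem R1_index {p q : G} (hp : p ∈ X.R1 T) (hq : q ∈ X.R1 T) (hpR : p ∉ X.Res T)
    (hqR : q ∉ X.Res T) : p * q ∈ X.Res T :=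
  mul_mem_of_card_le_two F.res_le_R1 (by rw [F.card_R1, F.card_R]; omega) hp hq hpR hqR

theorem inv_mul_R1 {p q : G} (hp : p ∈ X.R1 T) (hq : q ∈ X.R1 T) (hpR : p ∉ X.Res T)
    (hqR : q ∉ X.Res T) : p⁻¹ * q ∈ X.Res T :=
  F.R1_index (inv_mem hp) hq (fun h => hpR ((Subgroup.inv_mem_iff _).1 h)) hqR

/-- A subgroup of the order of `R` in `R₁` with squares in `T ⊓ T'`. -/
theorem other {K : Subgroup G} (hK : K ≤ X.R1 T) (hKc : Nat.card K = Nat.card (X.Res T))
    (hKne : K ≠ X.Res T) (hIK : T ⊓ conjS x T ≤ K) (hsq : ∀ h ∈ K, h * h ∈ T ⊓ conjS x T) :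
    (∀ p ∈ X.R1 T, p ∉ X.Res T → p * p ∈ T ⊓ conjS x T → p ∈ K) ∧
    (∀ k ∈ K, k ∈ X.Res T → k ∈ T ⊓ conjS x T ∨ (k ∉ T ∧ k ∉ conjS x T)) ∧
    ∀ k ∈ X.Res T, k ∉ T → k ∉ conjS x T → k ∈ K := by
  have hKR : ¬ K ≤ X.Res T := fun h => hKne (Subgroup.eq_of_le_of_card_ge h hKc.ge)
  obtain ⟨h, hh, hhR⟩ := SetLike.not_le_iff_exists.1 hKR
  have dich : ∀ k ∈ K, k ∈ X.Res T → k ∈ T ⊓ conjS x T ∨ (k ∉ T ∧ k ∉ conjS x T) := by
    intro k hk _
    by_cases hkT : k ∈ T ∨ k ∈ conjS x T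
    · exact Or.inl (F.outside (hK hh) hhR (hsq h hh) (hsq _ (mul_mem hh hk)) hkT)
    · exact Or.inr (by push Not at hkT; exact hkT)
  obtain ⟨g, hgK, hgR, hgT, hgT'⟩ : ∃ g ∈ K, g ∈ X.Res T ∧ g ∉ T ∧ g ∉ conjS x T := by
    by_contra hno
    push Not at hno
    have hle : K ⊓ X.Res T ≤ T ⊓ conjS x T := fun k hk =>
      (dich k hk.1 hk.2).resolve_right fun h => h.2 (hno k hk.1 hk.2 h.1)
    have h1 := card_le_two_of_mul_mem (D := K ⊓ X.Res T) (A := K) inf_le_left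
      fun p hp q hq hpD hqD => ⟨mul_mem hp hq, F.R1_index (hK hp) (hK hq)
        (fun h => hpD ⟨hp, h⟩) fun h => hqD ⟨hq, h⟩⟩
    have h2 := Subgroup.card_le_of_le hle
    rw [hKc, F.card_R] at h1
    rw [F.card_inf] at h2
    have := Nat.card_pos (α := Tz T y)
    omega
  have third : ∀ k ∈ X.Res T, k ∉ T → k ∉ conjS x T → k ∈ K := fun k hk h1 h2 => by
    have := mul_mem (hIK (F.third_coset hk hgR h1 h2 hgT hgT')) hgK
    rwa [inv_mul_cancel_right] at this
  refine ⟨fun p hp hpR hpp => ?_, dich, third⟩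
  have hk : h⁻¹ * p ∈ X.Res T := F.inv_mul_R1 (hK hh) hp hhR hpR
  suffices h⁻¹ * p ∈ K by
    have := mul_mem hh this
    rwa [mul_inv_cancel_left] at this
  by_cases hkT : h⁻¹ * p ∈ T ∨ h⁻¹ * p ∈ conjS x T
  · exact hIK (F.outside (hK hh) hhR (hsq h hh) (by rwa [mul_inv_cancel_left]) hkT)
  · push Not at hkT
    exact third _ hk hkT.1 hkT.2

/-- An element of `R₁` commuting with an element of `T ∖ T'` lies in `T`. -/
theorem mem_T_of_comm {e q : G} (he : e ∈ T) (he' : e ∉ conjS x T) (hq : q ∈ X.R1 T)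
    (hc : q * e = e * q) : q ∈ T := by
  have hqR : q ∈ X.Res T := by
    by_contra h
    exact he' (F.mem_inf_of_fixed hq h hc (Or.inl he)).2
  by_contra hqT
  have h1 : q * (x * d * x⁻¹) ∈ T := (F.res_split hqR).resolve_left hqT
  refine he' (F.mem_of_tau_comm he ?_)
  have c1 : Commute e (q * (x * d * x⁻¹)) := F.comm_T he h1
  have c2 : Commute e q := hc.symm
  have c3 := c2.inv_right.mul_right c1
  rwa [inv_mul_cancel_left] at c3

theorem mem_conjT_of_comm {e q : G} (he : e ∈ conjS x T) (he' : e ∉ T) (hq : q ∈ X.R1 T)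
    (hc : q * e = e * q) : q ∈ conjS x T := by
  refine mem_conjS.2 (F.mem_T_of_comm (e := x⁻¹ * e * x) (mem_conjS.1 he) (fun h => ?_) ?_ ?_)
  · have h2 := conj_mem_conjS (g := x) h
    rw [F.conj_conjT, show x * (x⁻¹ * e * x) * x⁻¹ = e by group] at h2
    exact he' h2
  · exact (X.R1 T).mul_mem ((X.R1 T).mul_mem ((X.R1 T).inv_mem ⟨F.xS, F.xN⟩) hq) ⟨F.xS, F.xN⟩
  · calc x⁻¹ * q * x * (x⁻¹ * e * x) = x⁻¹ * (q * e) * x := by group
      _ = x⁻¹ * (e * q) * x := by rw [hc]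
      _ = x⁻¹ * e * x * (x⁻¹ * q * x) := by group

theorem mem_R1_of_normalizes {i : G} (hi : i ∈ X.SS)
    (h : conjS i T = T ∨ conjS i (conjS x T) = conjS x T) : i ∈ X.R1 T := by
  rcases h with h | h
  · exact F.res_le_R1 ⟨hi, mem_normalizer_of_conjS_eq h⟩
  · have hr : x⁻¹ * i * x ∈ X.Res T := ⟨Subgroup.mul_mem _ (Subgroup.mul_mem _ (Subgroup.inv_mem _ F.xS) hi) F.xS,
      mem_normalizer_of_conjS_eq (by
        rw [conjS_mul, conjS_mul, h, ← conjS_mul, inv_mul_cancel, conjS_one])⟩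
    have := (X.R1 T).mul_mem ((X.R1 T).mul_mem ⟨F.xS, F.xN⟩ (F.res_le_R1 hr))
      ((X.R1 T).inv_mem ⟨F.xS, F.xN⟩)
    rwa [show x * (x⁻¹ * i * x) * x⁻¹ = i by group] at this

theorem inf_invol {c p : G} (hTz : ∀ t ∈ Tz T y, t * t = 1 → t = 1 ∨ t = c)
    (hp : p ∈ T ⊓ conjS x T) (hp2 : p * p = 1) :
    p ∈ ({1, c, d * (x * d * x⁻¹ * d * (x * d * x⁻¹)⁻¹),
      d * (x * d * x⁻¹ * d * (x * d * x⁻¹)⁻¹) * c} : Set G) := by
  set v := d * (x * d * x⁻¹ * d * (x * d * x⁻¹)⁻¹) with hv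
  rcases F.inf_split hp.1 hp.2 with h | h
  · rcases hTz p h hp2 with e | e <;> simp [e]
  · have hvv : v * v = 1 := (Mv_le T y F.v_mem).2.1
    have h2 : v * p * (v * p) = 1 := by
      rw [show v * p * (v * p) = v * (p * v) * p by group, F.Mv_comm F.v_mem hp.1,
        show v * (v * p) * p = (v * v) * (p * p) by group, hvv, hp2, one_mul]
    rcases hTz _ h h2 with e | e
    · have : p = v := by
        rw [← inv_eq_of_mul_eq_one_right e]; exact inv_eq_of_mul_eq_one_right hvv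
      simp [this]
    · have : p = v * c := by rw [← e, ← mul_assoc, hvv, one_mul]
      simp [this]

/-- No involution of `N_S(R₁)` outside `R₁` centralises a four group of `R₁`. -/
theorem false_of_centralized {c : G} (hc : c ∈ Tz T y) (hxc : x * c = c * x)
    (hTz : ∀ t ∈ Tz T y, t * t = 1 → t = 1 ∨ t = c)
    (hTz4 : ∀ t ∈ Tz T y, t * t = 1 ∨ t * t = c) {i : G} (hi : i ∈ X.SS)
    (hiN : i ∈ Subgroup.normalizer (X.R1 T : Set G)) (hiR1 : i ∉ X.R1 T) (hi2 : i * i = 1)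
    (hic : i * c ≠ c * i) (hI : T ⊓ conjS x T ≤ conjS i (X.Res T)) {E : Subgroup G}
    (hE : E ≤ X.R1 T) (hEA : IsEA E) (hE4 : Nat.card E = 4)
    (hcomm : ∀ f ∈ E, i * f = f * i) : False := by
  classical
  set v := d * (x * d * x⁻¹ * d * (x * d * x⁻¹)⁻¹) with hv
  have hcI : c ∈ T ⊓ conjS x T := ⟨hc.1, F.Tz_le hc⟩
  -- a four group of `R₁` centralised by `i` is not in `T ⊓ T'`
  have hEI : ¬ E ≤ T ⊓ conjS x T := by
    intro hle
    have hsub : (E : Set G) ⊆ ({1, v, v * c} : Set G) := fun f hf => by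
      rcases F.inf_invol hTz (hle hf) (hEA f hf) with e | e | e | e
      · exact Or.inl e
      · exact absurd (hcomm f hf) (e ▸ hic)
      · exact Or.inr (Or.inl e)
      · exact Or.inr (Or.inr e)
    have h3 := Set.ncard_le_ncard hsub (Set.toFinite _)
    rw [← Nat.card_coe_set_eq] at h3
    change Nat.card E ≤ _ at h3
    have : ({1, v, v * c} : Set G).ncard ≤ 3 :=
      (Set.ncard_insert_le _ _).trans (Nat.succ_le_succ ((Set.ncard_insert_le _ _).trans
        (by rw [Set.ncard_singleton])))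
    omega
  obtain ⟨e, he, heI⟩ := SetLike.not_le_iff_exists.1 hEI
  have hie : i * e = e * i := hcomm e he
  have hconj : ∀ q ∈ X.R1 T, q * e = e * q → i * q * i⁻¹ ∈ X.R1 T ∧
      i * q * i⁻¹ * e = e * (i * q * i⁻¹) := fun q hq hqe =>
    ⟨(Subgroup.mem_normalizer_iff.1 hiN q).1 hq, by
      have h1 : Commute i e := hie
      calc i * q * i⁻¹ * e = i * q * (i⁻¹ * e) := by group
        _ = i * q * (e * i⁻¹) := by rw [h1.inv_left.eq]
        _ = i * (q * e) * i⁻¹ := by group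
        _ = (i * e) * q * i⁻¹ := by rw [hqe]; group
        _ = e * (i * q * i⁻¹) := by rw [hie]; group⟩
  by_cases heR : e ∈ X.Res T
  · rcases F.invol_res heR (hEA e he) with h | h
    · have he' : e ∉ conjS x T := fun h' => heI ⟨h, h'⟩
      refine hiR1 (F.mem_R1_of_normalizes hi (Or.inl
        (Subgroup.eq_of_le_of_card_ge ?_ (card_conjS _ _).ge)))
      rintro _ ⟨q, hq, rfl⟩
      obtain ⟨h1, h2⟩ := hconj q (F.res_le_R1 (F.worst.T_le hq)) (F.comm_T hq h)
      exact F.mem_T_of_comm h he' h1 h2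
    · have he' : e ∉ T := fun h' => heI ⟨h', h⟩
      refine hiR1 (F.mem_R1_of_normalizes hi (Or.inr
        (Subgroup.eq_of_le_of_card_ge ?_ (card_conjS _ _).ge)))
      rintro _ ⟨q, hq, rfl⟩
      obtain ⟨h1, h2⟩ := hconj q (F.res_le_R1 (F.conj_T_le hq)) (by
        obtain ⟨q', hq', rfl⟩ := hq
        obtain ⟨e0, he0, rfl⟩ := h
        rw [← map_mul, ← map_mul, F.comm_T hq' he0])
      exact F.mem_conjT_of_comm h he' h1 h2
  · have hne : conjS i (X.Res T) ≠ X.Res T := fun h =>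
      hiR1 ⟨hi, mem_normalizer_of_conjS_eq h⟩
    have hle : conjS i (X.Res T) ≤ X.R1 T :=
      (conjS_mono F.res_le_R1).trans (conjS_eq_of_mem_normalizer hiN).le
    have hsq : ∀ h ∈ conjS i (X.Res T), h * h ∈ T ⊓ conjS x T := by
      rintro _ ⟨r, hr, rfl⟩
      refine F.mem_inf_of_central fun g hg => ?_
      rw [← map_mul]
      show g * (i * (r * r) * i⁻¹) = i * (r * r) * i⁻¹ * g
      have hg' : i⁻¹ * g * i ∈ X.R1 T := (Subgroup.mem_normalizer_iff''.1 hiN g).1 hg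
      have hz : i⁻¹ * g * i * (r * r) = r * r * (i⁻¹ * g * i) := by
        have hcz : i⁻¹ * g * i * c = c * (i⁻¹ * g * i) := F.central hcI hxc hg'
        have hvz : i⁻¹ * g * i * v = v * (i⁻¹ * g * i) := F.central F.v_mem_inf F.x_comm_v hg'
        rcases F.sq_of_R hTz4 hr with e | e | e | e <;> rw [e]
        · rw [mul_one, one_mul]
        · exact hcz
        · exact hvz
        · exact (Commute.mul_right hvz hcz).eq
      calc g * (i * (r * r) * i⁻¹) = i * (i⁻¹ * g * i * (r * r)) * i⁻¹ := by group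
        _ = i * (r * r * (i⁻¹ * g * i)) * i⁻¹ := by rw [hz]
        _ = i * (r * r) * i⁻¹ * g := by group
    have h := (F.other hle (card_conjS _ _) hne hI hsq).1 e (hE he) heR
      (by rw [hEA e he]; exact one_mem _)
    exact heR ((mem_conjS_iff_of_comm hie).1 h)

end Frame

end Cfsg.Agent.Lib.LengthEight21
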