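import Cfsg.Agent.Lib.LengthEight21.Setup

/-!
# S3250: the Sylow subgroup of the worst member is twice its kernel

Owner: helper21; proof in `notes/s3250_helper21.md`.
-/

set_option autoImplicit false
set_option linter.style.haveILetI false
set_option linter.unusedSectionVars false

open Subgroup

namespace Cfsg.Agent.Lib.LengthEight21

open Fusion.Alperin

universe u

variable {G : Type u} [Group G]

theorem mul_mem_of_card_le_two [Finite G] {D B : Subgroup G} (hDB : D ≤ B)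
    (h : Nat.card B ≤ 2 * Nat.card D) {a b : G} (ha : a ∈ B) (hb : b ∈ B) (haD : a ∉ D)
    (hbD : b ∉ D) : a * b ∈ D := by
  have h1 : (D.subgroupOf B).index = 2 := by
    have e := (D.subgroupOf B).card_mul_index
    rw [Nat.card_congr (Subgroup.subgroupOfEquivOfLe hDB).toEquiv] at e
    have hne : (D.subgroupOf B).index ≠ 1 := fun h1 => haD
      (Subgroup.subgroupOf_eq_top.1 (Subgroup.index_eq_one.1 h1) ha)
    have h0 : (D.subgroupOf B).index ≠ 0 := Subgroup.index_ne_zero_of_finite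
    have h2 : (D.subgroupOf B).index ≤ 2 :=
      Nat.le_of_mul_le_mul_left (by omega : Nat.card D * (D.subgroupOf B).index ≤ Nat.card D * 2)
        Nat.card_pos
    omega
  exact (Subgroup.mul_mem_iff_of_index_two h1 (a := (⟨a, ha⟩ : B)) (b := (⟨b, hb⟩ : B))).2
    (iff_of_false haD hbD)

theorem card_le_two_of_mul_mem [Finite G] {D A : Subgroup G} (hDA : D ≤ A)
    (h : ∀ a ∈ A, ∀ b ∈ A, a ∉ D → b ∉ D → a * b ∈ D) : Nat.card A ≤ 2 * Nat.card D := by
  by_cases hA : A ≤ D
  · have := Subgroup.card_le_of_le hA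
    omega
  obtain ⟨a, ha, haD⟩ := SetLike.not_le_iff_exists.1 hA
  have hsub : (A : Set G) ⊆ (D : Set G) ∪ (fun d => a⁻¹ * d) '' (D : Set G) := fun b hb => by
    by_cases hbD : b ∈ D
    · exact Or.inl hbD
    · exact Or.inr ⟨a * b, h a ha b hb haD hbD, by simp⟩
  have h1 := (Set.ncard_le_ncard hsub (Set.toFinite _)).trans (Set.ncard_union_le _ _)
  rw [Set.ncard_image_of_injective _ (mul_right_injective _)] at h1
  rw [← Nat.card_coe_set_eq, ← Nat.card_coe_set_eq] at h1
  change Nat.card A ≤ Nat.card D + Nat.card D at h1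
  omega

theorem eq_of_sq_eq_one {C : Type*} [Group C] [Finite C] [IsCyclic C] {x y : C}
    (hx : x ^ 2 = 1) (hy : y ^ 2 = 1) (hx1 : x ≠ 1) (hy1 : y ≠ 1) : x = y := by
  classical
  have := Fintype.ofFinite C
  by_contra hne
  have h := IsCyclic.card_pow_eq_one_le (α := C) (n := 2) two_pos
  have hsub : ({1, x, y} : Finset C) ⊆ Finset.univ.filter fun a => a ^ 2 = 1 := by
    intro a ha
    simp only [Finset.mem_insert, Finset.mem_singleton] at ha
    rcases ha with rfl | rfl | rfl <;> simp [hx, hy]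
  have := (Finset.card_le_card hsub).trans h
  rw [Finset.card_insert_of_notMem (by simp [Ne.symm hx1, Ne.symm hy1]),
    Finset.card_insert_of_notMem (by simp [hne]), Finset.card_singleton] at this
  omega

namespace Ctx.Worst

variable [Finite G] {X : Ctx G} {M T : Subgroup G} (W : X.Worst M T)
include W

/-- The trace on `S` as a Sylow subgroup of the normaliser. -/
def sylN (_W : X.Worst M T) : Sylow 2 ↥(Subgroup.normalizer (T : Set G)) where
  toSubgroup := (X.Res T).subgroupOf (Subgroup.normalizer (T : Set G))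
  isPGroup' := (X.S.2.to_le inf_le_left).comap_of_injective _ (Subgroup.subtype_injective _)
  is_maximal' := by
    intro Q hQ hle
    have h1 := _W.loc.2.1 (Q.map (Subgroup.normalizer (T : Set G)).subtype) (hQ.map _)
      (Subgroup.map_subtype_le _) fun a ha => ⟨⟨a, ha.2⟩, hle ha, rfl⟩
    refine le_antisymm (fun a ha => ?_) hle
    exact (h1.le ⟨a, ha, rfl⟩ : (a : G) ∈ X.Res T)

theorem sylN_coe : (W.sylN : Subgroup ↥(Subgroup.normalizer (T : Set G))) =
    (X.Res T).subgroupOf (Subgroup.normalizer (T : Set G)) := rfl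

theorem card_sylN : Nat.card (W.sylN : Subgroup ↥(Subgroup.normalizer (T : Set G))) =
    Nat.card (X.Res T) := by
  rw [W.sylN_coe, Nat.card_congr (Subgroup.subgroupOfEquivOfLe inf_le_right).toEquiv]

/-- Its image among the automorphisms of `Ω₁ Z(T)`. -/
noncomputable def sylX : Sylow 2 ↥W.act.range :=
  W.sylN.mapSurjective W.act.rangeRestrict_surjective

theorem card_sylX : Nat.card (W.sylX : Subgroup ↥W.act.range) * Nat.card T =
    Nat.card (X.Res T) := by
  set P := (W.sylN : Subgroup ↥(Subgroup.normalizer (T : Set G))) with hP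
  set g := W.act.rangeRestrict.comp P.subtype with hg
  have hr : g.range = (W.sylX : Subgroup ↥W.act.range) := by
    rw [hg, MonoidHom.range_comp, Subgroup.range_subtype]
    rfl
  have hk : g.ker = (T.subgroupOf (Subgroup.normalizer (T : Set G))).subgroupOf P := by
    ext p
    rw [MonoidHom.mem_ker, Subgroup.mem_subgroupOf, Subgroup.mem_subgroupOf, hg,
      MonoidHom.comp_apply, ← MonoidHom.mem_ker, MonoidHom.ker_rangeRestrict, MonoidHom.mem_ker,
      W.act_ker]
    rfl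
  have hTP : T.subgroupOf (Subgroup.normalizer (T : Set G)) ≤ P := fun a ha => W.T_le ha
  have h1 := g.ker.card_mul_index
  rw [Subgroup.index_ker, hr, hk, Nat.card_congr (Subgroup.subgroupOfEquivOfLe hTP).toEquiv,
    Nat.card_congr (Subgroup.subgroupOfEquivOfLe Subgroup.le_normalizer).toEquiv,
    show Nat.card P = Nat.card (X.Res T) from W.card_sylN] at h1
  rw [mul_comm]
  exact h1

/-- An element of the normaliser lying in `T ∪ aT`, for an elementary `A`, acts as a transvection. -/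
theorem isTv_of_offender {A : Subgroup G} (hAR : A ≤ X.Res T) (hA : IsEA A)
    (hmax : ∀ B : Subgroup G, B ≤ X.Res T → IsEA B → Nat.card B ≤ Nat.card A)
    (h2 : ∀ a ∈ A, ∀ b ∈ A, a ∉ T → b ∉ T → a * b ∈ T) {a : G} (ha : a ∈ A) (haT : a ∉ T) :
    IsTv (W.act ⟨a, (hAR ha).2⟩) := by
  set D := A ⊓ T with hD
  have hDA : D ≤ A := inf_le_left
  have hcd : Nat.card A ≤ 2 * Nat.card D := card_le_two_of_mul_mem hDA
    fun p hp q hq hpD hqD => ⟨A.mul_mem hp hq, h2 p hp q hq (fun h => hpD ⟨hp, h⟩)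
      fun h => hqD ⟨hq, h⟩⟩
  have hB : IsEA (D ⊔ Vc T) :=
    IsEA.sup (fun d hd => hA d hd.1) (Vc_ea T) fun d hd v hv => Vc_comm hv hd.2
  have hcB : Nat.card (D ⊔ Vc T : Subgroup G) ≤ 2 * Nat.card D :=
    (hmax _ (sup_le (hDA.trans hAR) ((Vc_le T).trans W.T_le)) hB).trans hcd
  have hfix : ∀ v ∈ Vc T, v ∈ D → a * v * a⁻¹ = v := fun v _ hv => by
    rw [hA.comm ha hv.1, mul_inv_cancel_right]
  by_cases hVD : Vc T ≤ D
  · refine absurd ((W.act_ker (n := ⟨a, (hAR ha).2⟩)).1 ?_) haT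
    exact MulEquiv.ext fun v => Subtype.ext ((W.act_apply _ _).trans (hfix v v.2 (hVD v.2)))
  obtain ⟨w₀, hw₀, hw₀D⟩ := SetLike.not_le_iff_exists.1 hVD
  refine ⟨W.act ⟨a, (hAR ha).2⟩ ⟨w₀, hw₀⟩ * ⟨w₀, hw₀⟩, fun w => ?_⟩
  by_cases hw : (w : G) ∈ D
  · exact Or.inl (Subtype.ext ((W.act_apply _ _).trans (hfix w w.2 hw)))
  · refine Or.inr (Subtype.ext ?_)
    have hd : (w : G) * w₀ ∈ D := mul_mem_of_card_le_two le_sup_left hcB
      (Subgroup.mem_sup_right w.2) (Subgroup.mem_sup_right hw₀) hw hw₀D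
    have e1 : a * ((w : G) * w₀) * a⁻¹ = w * w₀ := hfix _ ((Vc T).mul_mem w.2 hw₀) hd
    rw [W.act_apply, Subgroup.coe_mul, Subgroup.coe_mul, W.act_apply]
    have h00 : w₀ * w₀ = 1 := hw₀.2.1
    calc a * (w : G) * a⁻¹ = (a * ((w : G) * w₀) * a⁻¹) * (a * w₀ * a⁻¹) := by
          calc a * (w : G) * a⁻¹ = a * ((w : G) * (w₀ * w₀)) * a⁻¹ := by rw [h00, mul_one]
            _ = _ := by group
      _ = (w : G) * w₀ * (a * w₀ * a⁻¹) := by rw [e1]
      _ = a * w₀ * a⁻¹ * w₀ * w := by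
        have hav : a * w₀ * a⁻¹ ∈ Vc T :=
          (Subgroup.mem_normalizer_iff.1 (normalizer_le_Vc T (hAR ha).2) w₀).1 hw₀
        rw [(Vc_ea T).comm ((Vc T).mul_mem w.2 hw₀) hav, (Vc_ea T).comm w.2 hw₀, ← mul_assoc]

/-- `|R : T| = 2`, and an involution of `R` outside `T` acts as a transvection. -/
theorem index_two : Nat.card (X.Res T) = 2 * Nat.card T ∧
    ∃ (a : G) (ha : a ∈ Subgroup.normalizer (T : Set G)), a ∈ X.Res T ∧ a ∉ T ∧ a * a = 1 ∧
      IsTv (W.act ⟨a, ha⟩) := by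
  haveI : Fact (Nat.Prime 2) := ⟨Nat.prime_two⟩
  obtain ⟨A, hAR, hA, hmax, hAT⟩ := W.exists_offender
  obtain ⟨a, ha, haT⟩ := SetLike.not_le_iff_exists.1 hAT
  obtain ⟨t, ht⟩ := IsPGroup.iff_card.1 (X.S.2.to_le W.loc.1)
  obtain ⟨v, hv⟩ := IsPGroup.iff_card.1 ((X.S.2.to_le W.loc.1).to_le (Vc_le T))
  obtain ⟨r, hr⟩ := IsPGroup.iff_card.1 (X.S.2.to_le (inf_le_left : X.Res T ≤ X.SS))
  obtain ⟨q, hq⟩ := IsPGroup.iff_card.1 W.sylX.2
  have hr6 : r ≤ 6 := by
    have h := lt_of_le_of_ne (Subgroup.card_le_of_le W.res_lt.le) fun he => W.res_lt.ne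
      (Subgroup.eq_of_le_of_card_ge W.res_lt.le he.ge)
    rw [hr, X.card_S, Nat.pow_lt_pow_iff_right (by norm_num)] at h
    omega
  have hvt : v ≤ t := by
    have h := Subgroup.card_le_of_le (Vc_le T)
    rwa [hv, ht, Nat.pow_le_pow_iff_right (by norm_num)] at h
  have hqr : q + t = r := Nat.pow_right_injective le_rfl (show 2 ^ (q + t) = 2 ^ r by
    rw [pow_add, ← hq, ← ht, ← hr, W.card_sylX])
  -- two elements of `A` outside `T` differ by an element of `T` if the Sylow image is cyclic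
  have hcyc : IsCyclic ↥(W.sylX : Subgroup ↥W.act.range) →
      ∀ p ∈ A, ∀ p' ∈ A, p ∉ T → p' ∉ T → p * p' ∈ T := by
    intro hc p hp p' hp' hpT hp'T
    haveI := hc
    have img : ∀ (b : G) (hb : b ∈ A), W.act.rangeRestrict ⟨b, (hAR hb).2⟩ ∈
        (W.sylX : Subgroup ↥W.act.range) := fun b hb => ⟨_, hAR hb, rfl⟩
    have sq : ∀ (b : G) (hb : b ∈ A),
        (⟨_, img b hb⟩ : ↥(W.sylX : Subgroup ↥W.act.range)) ^ 2 = 1 := fun b hb => by
      refine Subtype.ext ?_
      show W.act.rangeRestrict ⟨b, (hAR hb).2⟩ ^ 2 = 1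
      rw [← map_pow]
      convert map_one W.act.rangeRestrict
      exact Subtype.ext (by rw [Subgroup.coe_pow, pow_two]; exact hA b hb)
    have ne : ∀ (b : G) (hb : b ∈ A), b ∉ T →
        (⟨_, img b hb⟩ : ↥(W.sylX : Subgroup ↥W.act.range)) ≠ 1 := fun b hb hbT h =>
      hbT (W.act_ker.1 (congrArg Subtype.val (congrArg Subtype.val h)))
    have e := congrArg Subtype.val (congrArg Subtype.val
      (eq_of_sq_eq_one (sq p hp) (sq p' hp') (ne p hp hpT) (ne p' hp' hp'T)))
    have h1 : W.act (⟨p, (hAR hp).2⟩ * ⟨p', (hAR hp').2⟩) = 1 := by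
      rw [map_mul, show W.act ⟨p, (hAR hp).2⟩ = W.act ⟨p', (hAR hp').2⟩ from e, ← map_mul]
      convert map_one W.act
      exact Subtype.ext (hA p' hp')
    exact W.act_ker.1 h1
  have hoff : ∀ Q : Sylow 2 ↥W.act.range, IsCyclic ↥(Q : Subgroup ↥W.act.range) →
      ∃ τ : ↥W.act.range, orderOf τ = 2 ∧ IsTv (τ : MulAut ↥(Vc T)) := by
    intro Q hQ
    haveI := hQ
    have hc : IsCyclic ↥(W.sylX : Subgroup ↥W.act.range) :=
      (Sylow.equiv Q W.sylX).isCyclic.1 hQ
    refine ⟨W.act.rangeRestrict ⟨a, (hAR ha).2⟩, orderOf_eq_prime ?_ ?_,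
      W.isTv_of_offender hAR hA hmax (hcyc hc) ha haT⟩
    · rw [← map_pow]
      convert map_one W.act.rangeRestrict
      exact Subtype.ext (by rw [Subgroup.coe_pow, pow_two]; exact hA a ha)
    · exact fun h => haT (W.act_ker.1 (congrArg Subtype.val h))
  have hq1 : q = 1 := by
    have hne : q ≠ 0 := fun h => W.card_T_lt.ne (by rw [ht, hr, ← hqr, h, zero_add])
    by_contra hne1
    have h := sylow_le_two (X := W.act.range)
      (fun w => Subtype.ext (Vc_ea T w w.2)) hv (by omega) W.o2_range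
      (fun n hn => by have := W.chain_range ht n hn; omega) hoff W.sylX
    rw [hq] at h
    have : 2 ^ 2 ≤ 2 ^ q := Nat.pow_le_pow_right two_pos (by omega)
    omega
  refine ⟨by rw [← W.card_sylX, hq, hq1, pow_one], a, (hAR ha).2, hAR ha, haT, hA a ha, ?_⟩
  haveI : Fact (Nat.Prime 2) := ⟨Nat.prime_two⟩
  have hc : IsCyclic ↥(W.sylX : Subgroup ↥W.act.range) :=
    isCyclic_of_prime_card (p := 2) (by rw [hq, hq1, pow_one])
  exact W.isTv_of_offender hAR hA hmax (hcyc hc) ha haT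

end Ctx.Worst

end Cfsg.Agent.Lib.LengthEight21
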