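import Cfsg.Agent.Lib.LengthEight21.Frame

/-!
# S3250: the group `R₁ = N_S(R)`

Owner: helper21; proof in `notes/s3250_helper21.md`.
-/

set_option autoImplicit false
set_option linter.style.haveILetI false
set_option linter.unusedSectionVars false

open Subgroup

namespace Cfsg.Agent.Lib.LengthEight21

open Fusion.Alperin

universe u

variable {G : Type u} [Group G]

theorem comm_of_card_le_four {A : Subgroup G} [Finite A] (h : Nat.card A ≤ 4)
    (h2 : IsPGroup 2 A) {a b : G} (ha : a ∈ A) (hb : b ∈ A) : a * b = b * a := by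
  haveI : Fact (Nat.Prime 2) := ⟨Nat.prime_two⟩
  obtain ⟨k, hk⟩ := IsPGroup.iff_card.1 h2
  have hk2 : k ≤ 2 := (Nat.pow_le_pow_iff_right (by norm_num : 1 < 2)).1 (hk ▸ h)
  haveI : IsMulCommutative A := by
    interval_cases k
    · haveI : Subsingleton A := (Nat.card_eq_one_iff_unique.1 (by simpa using hk)).1
      exact IsMulCommutative.of_comm fun p q => Subsingleton.elim _ _
    · haveI := isCyclic_of_prime_card (p := 2) (by simpa using hk : Nat.card A = 2)
      infer_instance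
    · exact IsPGroup.isMulCommutative_of_card_eq_prime_sq (p := 2) hk
  exact congrArg Subtype.val (mul_comm' (⟨a, ha⟩ : A) ⟨b, hb⟩)

theorem le_or_le_of_forall {E A B : Subgroup G} (h : ∀ e ∈ E, e ∈ A ∨ e ∈ B) : E ≤ A ∨ E ≤ B := by
  by_contra hne
  push Not at hne
  obtain ⟨⟨a, ha, haA⟩, b, hb, hbB⟩ := And.intro (SetLike.not_le_iff_exists.1 hne.1)
    (SetLike.not_le_iff_exists.1 hne.2)
  have haB : a ∈ B := (h a ha).resolve_left haA
  have hbA : b ∈ A := (h b hb).resolve_right hbB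
  rcases h _ (mul_mem ha hb) with h1 | h1
  · exact haA ((Subgroup.mul_mem_cancel_right A hbA).1 h1)
  · exact hbB ((Subgroup.mul_mem_cancel_left B haB).1 h1)

/-- `N_S(R)` for the worst member. -/
abbrev Ctx.R1 [Finite G] (X : Ctx G) (T : Subgroup G) : Subgroup G :=
  X.SS ⊓ Subgroup.normalizer (X.Res T : Set G)

namespace Frame

variable [Finite G] {X : Ctx G} {M T : Subgroup G} {x d y : G} (F : Frame X M T x d y)
include F

theorem conj_conjT : conjS x (conjS x T) = T := F.worst.conj_swap F.xx le_rfl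

theorem card_conjT : Nat.card (conjS x T) = Nat.card T := card_conjS x T

theorem not_le_conjT : ¬ T ≤ conjS x T := fun h => F.dI (h F.dV.1)

theorem two_mul_card_inf : Nat.card T = 2 * Nat.card (T ⊓ conjS x T : Subgroup G) := by
  have h1 := card_le_two_of_mul_mem (D := T ⊓ conjS x T) (A := T) inf_le_left
    fun p hp q hq hpD hqD => ⟨mul_mem hp hq,
      F.inf_index hp hq (fun h => hpD ⟨hp, h⟩) fun h => hqD ⟨hq, h⟩⟩
  obtain ⟨m, hm⟩ := Subgroup.card_dvd_of_le (inf_le_left : T ⊓ conjS x T ≤ T)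
  have h0 := Nat.card_pos (α := T)
  have hm0 : m ≠ 0 := fun h => by rw [h, mul_zero] at hm; omega
  have hm1 : m ≠ 1 := fun h => F.not_le_conjT <| by
    rw [h, mul_one] at hm
    exact inf_eq_left.1 (Subgroup.eq_of_le_of_card_ge inf_le_left hm.le)
  have h2 : m ≤ 2 := Nat.le_of_mul_le_mul_left
    (by rw [← hm]; omega) (Nat.card_pos (α := (T ⊓ conjS x T : Subgroup G)))
  rw [hm, show m = 2 by omega, mul_comm]

theorem card_R : Nat.card (X.Res T) = 8 * Nat.card (Tz T y) := by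
  rw [F.worst.index_two.1, F.card_T]; omega

theorem card_inf : Nat.card (T ⊓ conjS x T : Subgroup G) = 2 * Nat.card (Tz T y) := by
  have := F.two_mul_card_inf
  have := F.card_T
  omega

theorem res_lt_card : Nat.card (X.Res T) ≤ 64 := by
  haveI : Fact (Nat.Prime 2) := ⟨Nat.prime_two⟩
  obtain ⟨r, hr⟩ := IsPGroup.iff_card.1 (X.S.2.to_le (inf_le_left : X.Res T ≤ X.SS))
  have h := lt_of_le_of_ne (Subgroup.card_le_of_le F.worst.res_lt.le) fun he => F.worst.res_lt.ne
    (Subgroup.eq_of_le_of_card_ge F.worst.res_lt.le he.ge)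
  rw [hr, X.card_S, Nat.pow_lt_pow_iff_right (by norm_num)] at h
  rw [hr]
  exact Nat.pow_le_pow_right two_pos (by omega : r ≤ 6)

theorem R1_le_two : Nat.card (X.R1 T) ≤ 2 * Nat.card (X.Res T) ∨
    ∃ g ∈ X.R1 T, conjS g T ≠ T ∧ conjS g T ≠ conjS x T := by
  by_contra h
  push Not at h
  obtain ⟨h1, h2⟩ := h
  refine absurd (card_le_two_of_mul_mem (D := X.Res T) (A := X.R1 T)
    (fun r hr => ⟨hr.1, Subgroup.le_normalizer hr⟩) fun p hp q hq hpR hqR => ?_) (not_le.2 h1)
  have key : ∀ g ∈ X.R1 T, g ∉ X.Res T → conjS g T = conjS x T := fun g hg hgR =>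
    h2 g hg fun e => hgR ⟨hg.1, mem_normalizer_of_conjS_eq e⟩
  refine ⟨mul_mem hp.1 hq.1, mem_normalizer_of_conjS_eq ?_⟩
  have hpT : conjS p (conjS x T) = T := by
    have e := key p⁻¹ (inv_mem hp) fun e => hpR ((Subgroup.inv_mem_iff _).1 e)
    rw [← e, ← conjS_mul, mul_inv_cancel, conjS_one]
  rw [conjS_mul, key q hq hqR, hpT]

theorem card_Tz_le : Nat.card (Tz T y) ≤ 4 := by
  classical
  haveI : Fact (Nat.Prime 2) := ⟨Nat.prime_two⟩
  by_contra hc
  push Not at hc
  have h64 := F.res_lt_card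
  rw [F.card_R] at h64
  obtain ⟨k, hk⟩ := IsPGroup.iff_card.1
    ((X.S.2.to_le F.worst.loc.1).to_le (inf_le_left : Tz T y ≤ T))
  have hk3 : Nat.card (Tz T y) = 8 := by
    rw [hk] at hc h64 ⊢
    have : k ≤ 3 := (Nat.pow_le_pow_iff_right (by norm_num : 1 < 2)).1 (by omega)
    interval_cases k <;> omega
  have hR : Nat.card (X.SS) ≤ 2 * Nat.card (X.Res T) := by
    rw [X.card_S, F.card_R, hk3]; norm_num
  set D := Tz T y ⊓ conjS x (Tz T y) with hD
  have hcI : Nat.card (T ⊓ conjS x T : Subgroup G) = 16 := by rw [F.card_inf, hk3]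
  have hTzI : Tz T y ≤ T ⊓ conjS x T := le_inf inf_le_left F.Tz_le
  have hTzI' : conjS x (Tz T y) ≤ T ⊓ conjS x T :=
    le_inf ((conjS_mono F.Tz_le).trans F.conj_conjT.le) (conjS_mono inf_le_left)
  have hDc : Nat.card (Tz T y) ≤ 2 * Nat.card D := card_le_two_of_mul_mem inf_le_left
    fun p hp q hq hpD hqD => ⟨mul_mem hp hq, mul_mem_of_card_le_two hTzI'
      (by rw [hcI, card_conjS, hk3]) (hTzI hp) (hTzI hq) (fun h => hpD ⟨hp, h⟩)
      fun h => hqD ⟨hq, h⟩⟩
  have hDbot : D ≠ ⊥ := fun h => by rw [h, Subgroup.card_bot, hk3] at hDc; omega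
  have hxD : x ∈ Subgroup.normalizer (D : Set G) := by
    refine mem_normalizer_of_conjS_eq ?_
    rw [hD, conjS, Subgroup.map_inf_eq _ _ _ (MulEquiv.injective _)]
    refine (congrArg₂ (· ⊓ ·) (rfl : conjS x (Tz T y) = conjS x (Tz T y)) ?_).trans (inf_comm _ _)
    show conjS x (conjS x (Tz T y)) = Tz T y
    rw [← conjS_mul, conjS_eq_of_mem_normalizer (F.Tz_normal F.xx)]
  have hRD : X.Res T ≤ Subgroup.normalizer (D : Set G) := fun r hr => by
    refine mem_normalizer_of_conjS_eq ?_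
    rw [hD, conjS, Subgroup.map_inf_eq _ _ _ (MulEquiv.injective _)]
    refine congrArg₂ (· ⊓ ·) (conjS_eq_of_mem_normalizer (F.Tz_normal hr)) ?_
    show conjS r (conjS x (Tz T y)) = conjS x (Tz T y)
    rw [← conjS_mul, show r * x = x * (x⁻¹ * r * x) by group, conjS_mul,
      conjS_eq_of_mem_normalizer (F.Tz_normal ((Subgroup.mem_normalizer_iff''.1 F.xN r).1 hr))]
  refine hDbot (F.no_normal D inf_le_left fun s hs => ?_)
  by_cases hsR : s ∈ X.Res T
  · exact hRD hsR
  · have := mul_mem_of_card_le_two inf_le_left hR hs F.xS hsR F.xR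
    have h2 := mul_mem (hRD this) (inv_mem hxD)
    rwa [mul_inv_cancel_right] at h2

theorem comm_T {a b : G} (ha : a ∈ T) (hb : b ∈ T) : a * b = b * a := by
  haveI : Fact (Nat.Prime 2) := ⟨Nat.prime_two⟩
  obtain ⟨m, hm, t, ht, rfl⟩ := F.decomp ha
  obtain ⟨n, hn, s, hs, rfl⟩ := F.decomp hb
  have c0 : Commute t s := comm_of_card_le_four F.card_Tz_le
    ((X.S.2.to_le F.worst.loc.1).to_le inf_le_left) ht hs
  have c1 : Commute m n := (Vc_ea T).comm (Mv_le T y hm) (Mv_le T y hn)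
  have c2 : Commute m s := (F.Mv_comm hm hs.1).symm
  have c3 : Commute t n := F.Mv_comm hn ht.1
  exact ((c1.mul_right c2).mul_left (c3.mul_right c0)).eq

theorem inf_comm_res {i r : G} (hi : i ∈ T) (hi' : i ∈ conjS x T) (hr : r ∈ X.Res T) :
    i * r = r * i := by
  rcases F.res_split hr with h | h
  · exact F.comm_T hi h
  · have c1 : Commute i (r * (x * d * x⁻¹)) := F.comm_T hi h
    have c2 : Commute i (x * d * x⁻¹) := F.tau_comm hi'
    have := c1.mul_right c2.inv_right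
    rwa [mul_inv_cancel_right] at this

/-- A conjugate of `T` inside `R` is `T` or `T'`. -/
theorem eq_of_conj_le {g : G} (hgR : conjS g T ≤ X.Res T) :
    conjS g T = T ∨ conjS g T = conjS x T := by
  classical
  set E := conjS g T with hE
  have hcE : Nat.card E = Nat.card T := card_conjS g T
  have hEab : ∀ a ∈ E, ∀ b ∈ E, a * b = b * a := by
    rintro _ ⟨a, ha, rfl⟩ _ ⟨b, hb, rfl⟩
    rw [← map_mul, ← map_mul, F.comm_T ha hb]
  have hEc : ∀ q : G, (∀ e ∈ E, q * e = e * q) → q ∈ E := by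
    intro q hq
    refine mem_conjS.2 (F.worst.centralizer_le (Subgroup.mem_centralizer_iff.2 fun t ht => ?_))
    have h := hq _ (conj_mem_conjS (g := g) ht)
    calc t * (g⁻¹ * q * g) = g⁻¹ * ((g * t * g⁻¹) * q) * g := by group
      _ = g⁻¹ * (q * (g * t * g⁻¹)) * g := by rw [h]
      _ = g⁻¹ * q * g * t := by group
  have hIE : T ⊓ conjS x T ≤ E := fun i hi => hEc i fun e he =>
    F.inf_comm_res hi.1 hi.2 (hgR he)
  by_contra hne
  push Not at hne
  have hET : ¬ E ≤ T := fun h => hne.1 (Subgroup.eq_of_le_of_card_ge h hcE.ge)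
  obtain ⟨e, he, heT⟩ := SetLike.not_le_iff_exists.1 hET
  by_cases he' : e ∈ conjS x T
  · -- `E = I ∪ eI ≤ T'`
    refine hne.2 (Subgroup.eq_of_le_of_card_ge (fun q hq => ?_) (F.card_conjT.trans hcE.symm).le)
    by_cases hqI : q ∈ T ⊓ conjS x T
    · exact hqI.2
    · have h1 := mul_mem_of_card_le_two hIE (hcE.trans F.two_mul_card_inf).le he hq
        (fun h => heT h.1) hqI
      exact (Subgroup.mul_mem_cancel_left _ he').1 h1.2
  · have htR : e * (x * d * x⁻¹) ∈ T := (F.res_split (hgR he)).resolve_left heT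
    set τ := x * d * x⁻¹ with hτ
    have htI : e * τ ∉ conjS x T := fun h => he' (by
      refine (Subgroup.mul_mem_cancel_right _ ?_).1 h
      exact conj_mem_conjS F.dV.1)
    set v := d * (τ * d * τ⁻¹) with hv
    have hi : e * τ * d ∈ T ⊓ conjS x T :=
      ⟨mul_mem htR F.dV.1, F.inf_index htR F.dV.1 htI F.dI⟩
    -- `dτ ∈ E`, so `v` is a square in `E`
    have hdτ : d * τ ∈ E := by
      have h1 := mul_mem (inv_mem (hIE hi)) he
      rwa [show (e * τ * d)⁻¹ * e = d * τ by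
        rw [mul_inv_rev, mul_inv_rev, inv_eq_of_mul_eq_one_right F.tau_sq,
          inv_eq_of_mul_eq_one_right F.dV.2.1, mul_assoc, mul_assoc, inv_mul_cancel, mul_one]] at h1
    set sq : G → G := fun a => a * a with hsq
    have hEimg : (sq '' (E : Set G)).ncard = (sq '' (T : Set G)).ncard := by
      rw [show sq '' (E : Set G) = (fun a => g * a * g⁻¹) '' (sq '' (T : Set G)) by
        rw [← Set.image_comp]
        ext q
        constructor
        · rintro ⟨_, ⟨a, ha, rfl⟩, rfl⟩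
          exact ⟨a, ha, by simp [hsq, mul_assoc]⟩
        · rintro ⟨a, ha, rfl⟩
          exact ⟨_, conj_mem_conjS ha, by simp [hsq, mul_assoc]⟩]
      exact Set.ncard_image_of_injective _ fun a b h => by simpa using h
    have hTsq : sq '' (T : Set G) ⊆ sq '' (E : Set G) ∧ sq '' (T : Set G) ⊆ (Tz T y : Set G) := by
      have e2 : ∀ a ∈ T, ∃ t ∈ Tz T y, sq a = sq t := by
        intro a ha
        obtain ⟨m, hm, t, ht, rfl⟩ := F.decomp ha
        refine ⟨t, ht, ?_⟩
        show m * t * (m * t) = t * t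
        rw [show m * t * (m * t) = m * (t * m) * t by group, F.Mv_comm hm ht.1,
          show m * (m * t) * t = (m * m) * (t * t) by group, (Mv_le T y hm).2.1, one_mul]
      constructor
      · rintro _ ⟨a, ha, rfl⟩
        obtain ⟨t, ht, h⟩ := e2 a ha
        exact ⟨t, hIE ⟨ht.1, F.Tz_le ht⟩, h.symm⟩
      · rintro _ ⟨a, ha, rfl⟩
        obtain ⟨t, ht, h⟩ := e2 a ha
        rw [h]
        exact mul_mem ht ht
    have hvE : v ∈ sq '' (E : Set G) := by
      refine ⟨d * τ, hdτ, ?_⟩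
      show d * τ * (d * τ) = d * (τ * d * τ⁻¹)
      rw [show τ⁻¹ = τ from inv_eq_of_mul_eq_one_right F.tau_sq]
      simp only [mul_assoc]
    have heq := Set.eq_of_subset_of_ncard_le hTsq.1 hEimg.le (Set.toFinite _)
    exact F.v_ne_one (F.Mv_inf_Tz F.v_mem (hTsq.2 (heq ▸ hvE)))

theorem swap {g : G} (hg : g ∈ X.R1 T) (hgR : g ∉ X.Res T) : conjS g T = conjS x T := by
  by_contra hne
  rcases F.eq_of_conj_le ((conjS_mono F.worst.T_le).trans
    (conjS_eq_of_mem_normalizer hg.2).le) with h | h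
  · exact hgR ⟨hg.1, mem_normalizer_of_conjS_eq h⟩
  · exact hne h

theorem card_R1 : Nat.card (X.R1 T) = 16 * Nat.card (Tz T y) := by
  have hle : X.Res T ≤ X.R1 T := fun r hr => ⟨hr.1, Subgroup.le_normalizer hr⟩
  obtain ⟨m, hm⟩ := Subgroup.card_dvd_of_le hle
  have h0 := Nat.card_pos (α := X.R1 T)
  have hm0 : m ≠ 0 := fun h => by rw [h, mul_zero] at hm; omega
  have hm1 : m ≠ 1 := fun h => F.xR <| by
    rw [h, mul_one] at hm
    exact (Subgroup.eq_of_le_of_card_ge hle hm.le).ge ⟨F.xS, F.xN⟩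
  have h2 : Nat.card (X.R1 T) ≤ 2 * Nat.card (X.Res T) := by
    rcases F.R1_le_two with h | ⟨g, hg, h1, h2⟩
    · exact h
    · exact absurd (F.swap hg fun hr => h1 (conjS_eq_of_mem_normalizer hr.2)) h2
  have h3 : m ≤ 2 := Nat.le_of_mul_le_mul_left (by rw [← hm]; omega)
    (Nat.card_pos (α := X.Res T))
  rw [hm, show m = 2 by omega, F.card_R]
  omega

theorem mem_R1_of_conj_le {g : G} (hg : g ∈ X.SS) (hgR : conjS g T ≤ X.Res T) : g ∈ X.R1 T := by
  rcases F.eq_of_conj_le hgR with h | h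
  · exact ⟨hg, Subgroup.le_normalizer ⟨hg, mem_normalizer_of_conjS_eq h⟩⟩
  · have h1 : x⁻¹ * g ∈ X.Res T := ⟨Subgroup.mul_mem _ (Subgroup.inv_mem _ F.xS) hg, mem_normalizer_of_conjS_eq (by
      rw [conjS_mul, h, ← conjS_mul, inv_mul_cancel, conjS_one])⟩
    have h2 := (X.R1 T).mul_mem ⟨F.xS, F.xN⟩ ⟨h1.1, Subgroup.le_normalizer h1⟩
    rwa [mul_inv_cancel_left] at h2

theorem R1_split {g : G} (hg : g ∈ X.R1 T) : g ∈ X.Res T ∨ x⁻¹ * g ∈ X.Res T := by
  by_cases h : g ∈ X.Res T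
  · exact Or.inl h
  · refine Or.inr ⟨Subgroup.mul_mem _ (Subgroup.inv_mem _ F.xS) hg.1, mem_normalizer_of_conjS_eq ?_⟩
    rw [conjS_mul, F.swap hg h, ← conjS_mul, inv_mul_cancel, conjS_one]

theorem swap_conjT {g : G} (hg : g ∈ X.R1 T) (hgR : g ∉ X.Res T) : conjS g (conjS x T) = T := by
  have e := F.swap (inv_mem hg) fun h => hgR ((Subgroup.inv_mem_iff _).1 h)
  rw [← e, ← conjS_mul, mul_inv_cancel, conjS_one]

theorem conj_inf {g p : G} (hg : g ∈ X.R1 T) (hp : p ∈ T ⊓ conjS x T) :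
    g * p * g⁻¹ ∈ T ⊓ conjS x T := by
  by_cases h : g ∈ X.Res T
  · rw [← F.inf_comm_res hp.1 hp.2 h, mul_inv_cancel_right]; exact hp
  · exact ⟨(F.swap_conjT hg h).le (conj_mem_conjS hp.2), (F.swap hg h).le (conj_mem_conjS hp.1)⟩

/-- An element fixed by some element of `R₁` outside `R` and lying in `T ∪ T'` lies in both. -/
theorem mem_inf_of_fixed {g p : G} (hg : g ∈ X.R1 T) (hgR : g ∉ X.Res T)
    (hc : g * p = p * g) (hp : p ∈ T ∨ p ∈ conjS x T) : p ∈ T ⊓ conjS x T := by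
  have e : g * p * g⁻¹ = p := by rw [hc, mul_inv_cancel_right]
  rcases hp with hp | hp
  · refine ⟨hp, ?_⟩
    have h := conj_mem_conjS (g := g) hp
    rwa [e, F.swap hg hgR] at h
  · refine ⟨?_, hp⟩
    have h := conj_mem_conjS (g := g) hp
    rwa [e, F.swap_conjT hg hgR] at h

/-- An element of `S` commuting with `T` and `τ` lies in `T ⊓ T'`. -/
theorem mem_inf_of_comm {q : G} (hT : ∀ t ∈ T, t * q = q * t)
    (hτ : q * (x * d * x⁻¹) = x * d * x⁻¹ * q) : q ∈ T ⊓ conjS x T := by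
  have h1 : q ∈ T := F.worst.centralizer_le (Subgroup.mem_centralizer_iff.2 hT)
  exact ⟨h1, F.mem_of_tau_comm h1 hτ⟩

/-- Elements of `R` outside `T ∪ T'` form a coset of `T ⊓ T'`. -/
theorem third_coset {r g : G} (hr : r ∈ X.Res T) (hg : g ∈ X.Res T) (hrT : r ∉ T)
    (hrT' : r ∉ conjS x T) (hgT : g ∉ T) (hgT' : g ∉ conjS x T) : r * g⁻¹ ∈ T ⊓ conjS x T :=
  ⟨F.worst.mul_mem_T hr (inv_mem hg) hrT fun h => hgT ((Subgroup.inv_mem_iff T).1 h),
    mul_mem_of_card_le_two F.conj_T_le (F.worst.index_two.1.trans (by rw [F.card_conjT])).le hr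
      (inv_mem hg) hrT' fun h => hgT' ((Subgroup.inv_mem_iff _).1 h)⟩

theorem x_fix_inf {g p : G} (hg : g ∈ X.R1 T) (hgR : g ∉ X.Res T) (hp : p ∈ T ⊓ conjS x T)
    (hc : g * p = p * g) : x * p = p * x := by
  have h1 : x⁻¹ * g ∈ X.Res T := (F.R1_split hg).resolve_left hgR
  have c1 : Commute p (x⁻¹ * g) := F.inf_comm_res hp.1 hp.2 h1
  have c2 : Commute p g := hc.symm
  have := c2.mul_right c1.inv_right
  rw [mul_inv_rev, inv_inv, mul_inv_cancel_left] at this
  exact this.eq.symm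

end Frame

end Cfsg.Agent.Lib.LengthEight21
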