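import Cfsg.Agent.Lib.LengthEight21.Dihedral
import Cfsg.Agent.Lib.CITSuzuki.Lists
import Cfsg.Agent.Lib.CITSuzuki.Classification
import Cfsg.Agent.S0243
import Cfsg.Agent.S1163

/-!
# S3250: identification of `PSL₂(127)`

Owner: helper21; proof in `notes/s3250_helper21.md`.
-/

set_option autoImplicit false
set_option linter.style.haveILetI false
set_option linter.unusedSectionVars false

open Subgroup
open scoped Pointwise

namespace Cfsg.Agent.Lib.LengthEight21

universe u

/-- In characteristic two the 2-elements of `SL₂` square to one. -/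
theorem sl_two_sq_eq_one {F : Type*} [Field F] (h2 : (2 : F) = 0)
    (g : Matrix.SpecialLinearGroup (Fin 2) F) {k : ℕ} (hg : g ^ 2 ^ k = 1) : g * g = 1 := by
  haveI : CharP F 2 := CharTwo.of_one_ne_zero_of_two_eq_zero one_ne_zero h2
  have hneg : ∀ a : F, -a = a := fun a => CharTwo.neg_eq a
  -- the trace of the square is the square of the trace
  have htr : ∀ A : Matrix.SpecialLinearGroup (Fin 2) F,
      Matrix.trace (A * A).1 = Matrix.trace A.1 ^ 2 := by
    intro A
    have hd := A.2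
    rw [Matrix.det_fin_two] at hd
    rw [Matrix.SpecialLinearGroup.coe_mul, Matrix.trace_fin_two, Matrix.trace_fin_two,
      Matrix.mul_apply, Matrix.mul_apply, Fin.sum_univ_two, Fin.sum_univ_two]
    linear_combination (A.1 0 1 * A.1 1 0 - A.1 0 0 * A.1 1 1) * h2
  have hpow : ∀ j : ℕ, Matrix.trace (g ^ 2 ^ j).1 = Matrix.trace g.1 ^ 2 ^ j := by
    intro j
    induction j with
    | zero => simp
    | succ j ih =>
      rw [pow_succ, pow_mul, pow_two, htr, ih, ← pow_mul]
  have ht : Matrix.trace g.1 = 0 := by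
    refine (pow_eq_zero_iff (Nat.two_pow_pos k).ne').1 ?_
    rw [← hpow k, hg, Matrix.SpecialLinearGroup.coe_one, Matrix.trace_one, Fintype.card_fin]
    exact_mod_cast h2
  rw [Matrix.trace_fin_two] at ht
  have h11 : g.1 1 1 = g.1 0 0 := by
    rw [← hneg (g.1 0 0)]; linear_combination ht
  have hd := g.2
  rw [Matrix.det_fin_two, h11] at hd
  apply Subtype.ext
  ext i j
  rw [Matrix.SpecialLinearGroup.coe_mul, Matrix.SpecialLinearGroup.coe_one, Matrix.mul_apply,
    Fin.sum_univ_two]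
  fin_cases i <;> fin_cases j <;> simp [h11]
  · linear_combination hd + (g.1 0 1 * g.1 1 0) * h2
  · linear_combination (g.1 0 0 * g.1 0 1) * h2
  · linear_combination (g.1 0 0 * g.1 1 0) * h2
  · linear_combination hd + (g.1 0 1 * g.1 1 0) * h2

/-- In characteristic two the 2-elements of `PSL₂` square to one. -/
theorem psl_two_sq_eq_one {F : Type*} [Field F] (h2 : (2 : F) = 0)
    (g : Matrix.ProjectiveSpecialLinearGroup (Fin 2) F) {k : ℕ} (hg : g ^ 2 ^ k = 1) :
    g * g = 1 := by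
  obtain ⟨a, rfl⟩ := QuotientGroup.mk_surjective g
  rw [← QuotientGroup.mk_pow, QuotientGroup.eq_one_iff,
    Matrix.SpecialLinearGroup.mem_center_iff] at hg
  obtain ⟨r, hr, hs⟩ := hg
  haveI : CharP F 2 := CharTwo.of_one_ne_zero_of_two_eq_zero one_ne_zero h2
  rw [Fintype.card_fin] at hr
  have hr1 : r = 1 := by
    have h0 : (r - 1) * (r - 1) = 0 := by linear_combination hr + (1 - r) * h2
    exact sub_eq_zero.1 (mul_self_eq_zero.1 h0)
  have ha : a ^ 2 ^ k = 1 := Subtype.ext (by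
    rw [← hs, hr1, map_one, Matrix.SpecialLinearGroup.coe_one])
  rw [← QuotientGroup.mk_mul, sl_two_sq_eq_one h2 a ha]
  rfl

theorem two_part_eq {N a o i : ℕ} (hN : N = 2 ^ a * o) (ho : Odd o) (hi : Odd i)
    (hN' : N = 2 ^ 7 * i) : a = 7 := by
  refine le_antisymm ?_ ?_
  · have h : 2 ^ a ∣ 2 ^ 7 * i := hN' ▸ hN ▸ dvd_mul_right _ _
    exact (Nat.pow_dvd_pow_iff_le_right (by norm_num : 1 < 2)).1
      (((Nat.coprime_two_left.2 hi).pow_left a).dvd_of_dvd_mul_right h)
  · have h : 2 ^ 7 ∣ 2 ^ a * o := hN ▸ hN'.symm ▸ dvd_mul_right _ _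
    exact (Nat.pow_dvd_pow_iff_le_right (by norm_num : 1 < 2)).1
      (((Nat.coprime_two_left.2 ho).pow_left 7).dvd_of_dvd_mul_right h)

/-- The identification. -/
theorem Ctx.main {G : Type u} [Group G] [Finite G] (X : Ctx G) :
    ∃ (F : Type) (_ : Field F) (_ : Fintype F), Fintype.card F = 127 ∧
      Nonempty (G ≃* Matrix.ProjectiveSpecialLinearGroup (Fin 2) F) := by
  haveI : Fact (Nat.Prime 2) := ⟨Nat.prime_two⟩
  haveI := X.simple
  have hna : ∃ a b : G, a * b ≠ b * a := by
    by_contra hc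
    push Not at hc
    exact X.nc ⟨⟨hc⟩⟩
  obtain ⟨z, hz, hconj, g, hgS, hg⟩ := X.cyclic_and_conj
  have hz1 : z ≠ 1 := fun h => by have := hz.2.1; rw [h, orderOf_one] at this; omega
  -- the centralisers of involutions
  have hcit : ∀ t : G, orderOf t = 2 → IsPGroup 2 (Subgroup.centralizer ({t} : Set G)) := by
    intro t ht
    obtain ⟨Q, hQ⟩ := (IsPGroup.of_card (p := 2) (n := 1)
      (by rw [Nat.card_zpowers, ht, pow_one] : Nat.card (Subgroup.zpowers t) = 2 ^ 1)).exists_le_sylow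
    obtain ⟨c, hc⟩ := MulAction.exists_smul_eq G Q X.S
    have hs : c * t * c⁻¹ ∈ X.SS := by
      have h1 : MulAut.conj c • (t : G) ∈ MulAut.conj c • (Q : Subgroup G) :=
        Subgroup.smul_mem_pointwise_smul _ _ _ (hQ (Subgroup.mem_zpowers t))
      have h2 : (X.S : Subgroup G) = MulAut.conj c • (Q : Subgroup G) := by rw [← hc]; rfl
      show c * t * c⁻¹ ∈ (X.S : Subgroup G)
      rw [h2]
      exact h1
    have htt : t * t = 1 := by rw [← pow_two, ← ht, pow_orderOf_eq_one]
    have ht1 : t ≠ 1 := fun h => by rw [h, orderOf_one] at ht; omega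
    obtain ⟨k, hk⟩ := isConj_iff.1 (hconj _ hs (invol_conj htt c) (fun h => ht1 (conj_eq_one_iff.1 h)))
    refine (X.S.2.map (MulAut.conj (c⁻¹ * k)).toMonoidHom).to_le fun q hq => ?_
    have hqt : q * t = t * q := Subgroup.mem_centralizer_singleton_iff.1 hq
    refine ⟨(c⁻¹ * k)⁻¹ * q * (c⁻¹ * k), ?_, by simp [mul_assoc]⟩
    show (c⁻¹ * k)⁻¹ * q * (c⁻¹ * k) ∈ X.SS
    rw [← X.centralizer_eq hz.1 hz1 hz.2.2]
    refine Subgroup.mem_centralizer_singleton_iff.2 ?_
    have ez : (c⁻¹ * k)⁻¹ * t * (c⁻¹ * k) = z := by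
      have : c⁻¹ * (k * z * k⁻¹) * c = t := by rw [hk]; group
      rw [← this]; group
    rw [← ez]
    calc (c⁻¹ * k)⁻¹ * q * (c⁻¹ * k) * ((c⁻¹ * k)⁻¹ * t * (c⁻¹ * k))
        = (c⁻¹ * k)⁻¹ * (q * t) * (c⁻¹ * k) := by group
      _ = (c⁻¹ * k)⁻¹ * (t * q) * (c⁻¹ * k) := by rw [hqt]
      _ = (c⁻¹ * k)⁻¹ * t * (c⁻¹ * k) * ((c⁻¹ * k)⁻¹ * q * (c⁻¹ * k)) := by group
  have hidx : Odd X.SS.index := Nat.not_even_iff_odd.1 fun h => X.S.not_dvd_index (even_iff_two_dvd.1 h)
  have hN : Nat.card G = 2 ^ 7 * X.SS.index := by rw [← X.card_S, Subgroup.card_mul_index]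
  rcases CITSuzuki.simpleCITClass G hna hcit with
    ⟨F, iF, iT, hF, ⟨e⟩⟩ | ⟨F, iF, iT, hF, ⟨e⟩⟩ | ⟨F, iF, iT, m, hm, hF, ⟨e⟩⟩
  · have hcard := S0243.result (F := F) rfl 2 le_rfl
    rw [← Nat.card_congr e.toEquiv, Fin.prod_univ_two] at hcard
    have h5 := CITSuzuki.Lists.five_le_of_simple hna e
    rcases hF with h9 | ⟨n, hn⟩ | ⟨hp, k, hk⟩
    · exfalso
      norm_num [h9] at hcard
      rw [hN] at hcard
      omega
    · -- characteristic two: an element of order `64` is impossible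
      exfalso
      haveI : CharP F 2 := charP_of_card_eq_prime_pow (f := n) hn
      have h2 : (2 : F) = 0 := CharTwo.two_eq_zero
      have h64 : g ^ 2 ^ 6 = 1 := by rw [← hg, pow_orderOf_eq_one]
      have h := psl_two_sq_eq_one h2 (e g) (k := 6) (by rw [← map_pow, h64, map_one])
      rw [← map_mul, ← pow_two] at h
      have := Nat.le_of_dvd two_pos
        (orderOf_dvd_of_pow_eq_one (e.injective (h.trans (map_one e).symm)))
      rw [hg] at this
      norm_num at this
    · refine ⟨F, iF, iT, ?_, ⟨e⟩⟩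
      generalize hq : Fintype.card F = q at hcard hp hk h5 ⊢
      have hodd : Odd q := hp.odd_of_ne_two (by omega)
      obtain ⟨r, hr⟩ := hodd
      have hgcd : Nat.gcd 2 (q - 1) = 2 := by
        rw [hr, show 2 * r + 1 - 1 = 2 * r by omega, Nat.gcd_mul_right_right]
      have h2N : 2 * Nat.card G = q * (q - 1) * (q + 1) := by
        rw [hgcd, Fin.val_zero, Fin.val_one, pow_zero, pow_one] at hcard
        have e1 : q ^ 2 - q = q * (q - 1) := by rw [Nat.mul_sub_one, pow_two]
        have e2 : q ^ 2 - 1 = (q - 1) * (q + 1) := by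
          rw [mul_comm, ← Nat.sq_sub_sq, one_pow]
        rw [e1, e2] at hcard
        refine Nat.eq_of_mul_eq_mul_left (show 0 < q - 1 by omega) ?_
        linarith
      have hk2 : 2 ≤ k := by
        by_contra h
        interval_cases k <;> omega
      obtain ⟨j, rfl⟩ : ∃ j, k = j + 2 := ⟨k - 2, by omega⟩
      have ej : 2 ^ (j + 2) = 4 * 2 ^ j := by ring
      have hpos := Nat.two_pow_pos j
      rcases hk with hk | hk
      · exfalso
        have h7 : j + 2 = 7 := two_part_eq (N := Nat.card G) (o := q * (2 * 2 ^ j + 1))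
          (by
            refine Nat.eq_of_mul_eq_mul_left (show 0 < 2 by norm_num) ?_
            rw [h2N, show q - 1 = 2 ^ (j + 2) by omega, show q + 1 = 2 * (2 * 2 ^ j + 1) by omega]
            ring)
          (Nat.odd_mul.2 ⟨hp.odd_of_ne_two (by omega), odd_two_mul_add_one _⟩) hidx hN
        rw [h7] at hk
        rw [hk] at hp
        norm_num at hp
      · have h7 : j + 2 = 7 := two_part_eq (N := Nat.card G) (o := q * (2 * 2 ^ j - 1))
          (by
            refine Nat.eq_of_mul_eq_mul_left (show 0 < 2 by norm_num) ?_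
            rw [h2N, ← hk, show q - 1 = 2 * (2 * 2 ^ j - 1) by omega]
            ring)
          (Nat.odd_mul.2 ⟨hp.odd_of_ne_two (by omega), ⟨2 ^ j - 1, by omega⟩⟩) hidx hN
        rw [h7] at hk
        omega
  · exfalso
    have hcard := S0243.result (F := F) hF 3 (by norm_num)
    rw [← Nat.card_congr e.toEquiv, Fin.prod_univ_three] at hcard
    norm_num at hcard
    rw [hN] at hcard
    omega
  · exfalso
    have hcard : Nat.card G = _ := (Nat.card_congr e.toEquiv).trans (S1163.result hm hF).1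
    have hge : 2 ≤ 2 ^ (2 * m + 1) := Nat.le_self_pow (by omega) 2
    have h7 := two_part_eq (N := Nat.card G) (a := (2 * m + 1) * 2)
      (o := (2 ^ (2 * m + 1) - 1) * ((2 ^ (2 * m + 1)) ^ 2 + 1))
      (by rw [hcard, ← pow_mul, mul_assoc])
      (Nat.odd_mul.2 ⟨Nat.Even.sub_odd (by omega) (Nat.even_pow.2 ⟨even_two, by omega⟩) odd_one,
        Even.add_one (Nat.even_pow.2 ⟨Nat.even_pow.2 ⟨even_two, by omega⟩, two_ne_zero⟩)⟩) hidx hN
    omega

end Cfsg.Agent.Lib.LengthEight21
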