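import Cfsg.Agent.Lib.LengthEight21.Basic
import Cfsg.Agent.S0556
import Cfsg.Agent.Lib.Fg6.FourGroupConj
import Cfsg.Agent.Lib.SmallGroups.Counting
import Cfsg.Agent.Lib.Involutions.BaerSuzuki
import Cfsg.Agent.Lib.Cores.Basic
import Mathlib.LinearAlgebra.Matrix.GeneralLinearGroup.Card
import Mathlib.GroupTheory.Transfer

/-!
# S3250: automorphism groups of small elementary 2-groups of small length

A group `X` of automorphisms of an elementary abelian group of order `2 ^ v` with `O₂(X) = 1`,
of length at most `7 - v`, has Sylow 2-subgroups of order at most two.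

Owner: helper21; proof in `notes/s3250_helper21.md`.
-/

set_option autoImplicit false
set_option linter.style.haveILetI false
set_option linter.unusedSectionVars false

open Subgroup

namespace Cfsg.Agent.Lib.LengthEight21

universe u

/-! ### Abstract facts -/

section Abstract

variable {X : Type*} [Group X] [Finite X]

/-- A Sylow 2-subgroup of order at least four and index three leaves a normal 2-subgroup. -/
theorem false_of_index_three (hO : ∀ Y : Subgroup X, Y.Normal → IsPGroup 2 Y → Y = ⊥)
    (Q : Sylow 2 X) (h4 : 4 ≤ Nat.card (Q : Subgroup X)) (h3 : (Q : Subgroup X).index = 3) :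
    False := by
  haveI : Fact (Nat.Prime 2) := ⟨Nat.prime_two⟩
  haveI : Finite (X ⧸ (Q : Subgroup X)) := inferInstance
  let f : X →* Equiv.Perm (X ⧸ (Q : Subgroup X)) := MulAction.toPermHom X _
  have hker : f.ker = (Q : Subgroup X).normalCore := (Subgroup.normalCore_eq_ker _).symm
  have h1 : f.ker = ⊥ := hO _ inferInstance (Q.2.to_le (hker ▸ Subgroup.normalCore_le _))
  have h2 := Subgroup.card_dvd_of_injective f ((MonoidHom.ker_eq_bot_iff f).1 h1)
  rw [Nat.card_perm, ← Subgroup.index_eq_card, h3] at h2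
  have h5 := (Q : Subgroup X).card_mul_index
  rw [h3] at h5
  have h6 := Nat.le_of_dvd (by norm_num [Nat.factorial]) h2
  norm_num [Nat.factorial] at h6
  omega

/-- A 2-subgroup acts faithfully on a normal subgroup of odd prime order `p` with index a power of
two in the group. -/
theorem sylow_embeds (hO : ∀ Y : Subgroup X, Y.Normal → IsPGroup 2 Y → Y = ⊥)
    {P : Subgroup X} [P.Normal] (hP : IsMulCommutative P) (hodd : Odd (Nat.card P))
    (Q : Sylow 2 X) (hidx : Nat.card (Q : Subgroup X) * Nat.card P = Nat.card X) :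
    ∃ f : ↥(Q : Subgroup X) →* MulAut P, Function.Injective f := by
  haveI : Fact (Nat.Prime 2) := ⟨Nat.prime_two⟩
  set C := Subgroup.centralizer (P : Set X) with hC
  haveI : C.Normal := inferInstance
  have hPC : P ≤ C := Subgroup.le_centralizer_iff_isMulCommutative.2 hP
  refine ⟨(MulAut.conjNormal (H := P)).comp (Q : Subgroup X).subtype, ?_⟩
  rw [← MonoidHom.ker_eq_bot_iff, Subgroup.eq_bot_iff_forall]
  intro q hq
  have hqC : (q : X) ∈ C := Subgroup.mem_centralizer_iff.2 fun a ha => by
    have h := congrArg (fun e : MulAut P => ((e ⟨a, ha⟩ : P) : X)) hq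
    simp only [MonoidHom.comp_apply, Subgroup.coe_subtype, MulAut.conjNormal_apply,
      MulAut.one_apply] at h
    exact (mul_inv_eq_iff_eq_mul.1 h).symm
  -- the Sylow 2-subgroup of `C` is normalised by `P` and itself
  set K : Subgroup X := (Q : Subgroup X) ⊓ C with hK
  have hdisj : ∀ x : X, x ∈ (Q : Subgroup X) → x ∈ P → x = 1 := fun x h1 h2 => by
    refine orderOf_eq_one_iff.1 ?_
    obtain ⟨k, hk⟩ := IsPGroup.iff_orderOf.1 Q.2 ⟨x, h1⟩
    rw [Subgroup.orderOf_mk] at hk
    refine (Nat.coprime_self _).1 ?_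
    exact Nat.Coprime.coprime_dvd_left (hk ▸ dvd_refl _)
      (Nat.Coprime.coprime_dvd_right (Subgroup.orderOf_dvd_natCard P h2)
        ((Nat.coprime_two_left.2 hodd).pow_left k))
  have hKn : K.Normal := by
    have hsurj : ∀ x : X, ∃ a ∈ P, ∃ b ∈ (Q : Subgroup X), x = a * b := by
      have hinj : Function.Injective
          (fun p : P × ↥(Q : Subgroup X) => (p.1 : X) * (p.2 : X)) := by
        rintro ⟨a, b⟩ ⟨a', b'⟩ h
        have h1 : (a' : X)⁻¹ * a = (b' : X) * (b : X)⁻¹ := by
          have h0 : (a : X) * b = (a' : X) * b' := h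
          calc (a' : X)⁻¹ * a = (a' : X)⁻¹ * ((a : X) * b) * (b : X)⁻¹ := by group
            _ = (a' : X)⁻¹ * ((a' : X) * b') * (b : X)⁻¹ := by rw [h0]
            _ = (b' : X) * (b : X)⁻¹ := by group
        have h2 := hdisj _ (h1 ▸ mul_mem b'.2 (inv_mem b.2)) (mul_mem (inv_mem a'.2) a.2)
        have e1 : a = a' := Subtype.ext (inv_mul_eq_one.1 h2).symm
        rw [h2] at h1
        exact Prod.ext e1 (Subtype.ext (mul_inv_eq_one.1 h1.symm).symm)
      have hbij := hinj.bijective_of_nat_card_le (by rw [Nat.card_prod, mul_comm, hidx])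
      intro x
      obtain ⟨⟨a, b⟩, h⟩ := hbij.2 x
      exact ⟨a, a.2, b, b.2, h.symm⟩
    constructor
    intro k hk x
    obtain ⟨a, ha, b, hb, rfl⟩ := hsurj x
    have h1 : b * k * b⁻¹ ∈ K :=
      ⟨(Q : Subgroup X).mul_mem ((Q : Subgroup X).mul_mem hb hk.1) ((Q : Subgroup X).inv_mem hb), (inferInstance : C.Normal).conj_mem _ hk.2 b⟩
    have h2 := Subgroup.mem_centralizer_iff.1 h1.2 a ha
    rw [show a * b * k * (a * b)⁻¹ = a * (b * k * b⁻¹) * a⁻¹ by group, h2, mul_inv_cancel_right]
    exact h1
  have := hO K hKn (Q.2.to_le inf_le_left)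
  exact Subtype.ext ((Subgroup.eq_bot_iff_forall K).1 this _ ⟨q.2, hqC⟩)

/-- A normal Sylow subgroup for a prime not below the index. -/
theorem normal_of_small {p : ℕ} [Fact p.Prime] (P : Sylow p X)
    (h : ∀ d, d ∣ (P : Subgroup X).index → d % p = 1 → d = 1) : (P : Subgroup X).Normal := by
  have h1 := card_sylow_modEq_one p X
  have h2 := P.card_dvd_index
  rw [Nat.ModEq, Nat.mod_eq_of_lt (Fact.out : p.Prime).one_lt] at h1
  have h3 : Nat.card (Sylow p X) = 1 := h _ h2 h1
  haveI : Subsingleton (Sylow p X) := (Nat.card_eq_one_iff_unique.1 h3).1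
  exact P.normal_of_subsingleton

end Abstract

/-! ### Transvections of an elementary abelian group -/

section Tv

variable {V : Type*} [Group V]

/-- `f` moves every element by a multiple of `b`. -/
def IsTv (f : MulAut V) : Prop := ∃ b : V, ∀ w, f w = w ∨ f w = b * w

theorem IsTv.conj {f : MulAut V} (hf : IsTv f) (g : MulAut V) : IsTv (g * f * g⁻¹) := by
  obtain ⟨b, hb⟩ := hf
  refine ⟨g b, fun w => ?_⟩
  rcases hb (g⁻¹ w) with h | h
  · exact Or.inl (by rw [MulAut.mul_apply, MulAut.mul_apply, h, MulAut.apply_inv_self])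
  · exact Or.inr (by rw [MulAut.mul_apply, MulAut.mul_apply, h, map_mul, MulAut.apply_inv_self])

/-- A product of two transvections of odd order has order dividing three. -/
theorem IsTv.pow_three_mul [Finite V] (hV : ∀ a : V, a * a = 1) {f g : MulAut V} (hf : IsTv f)
    (hg : IsTv g) (hodd : Odd (orderOf (f * g))) : (f * g) ^ 3 = 1 := by
  obtain ⟨b, hb⟩ := hf
  obtain ⟨c, hc⟩ := hg
  have hab : ∀ x y : V, x * y = y * x := fun x y => by
    have h1 : x⁻¹ = x := inv_eq_of_mul_eq_one_right (hV x)
    have h2 : y⁻¹ = y := inv_eq_of_mul_eq_one_right (hV y)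
    calc x * y = (x * y)⁻¹ := (inv_eq_of_mul_eq_one_right (hV _)).symm
      _ = y * x := by rw [mul_inv_rev, h1, h2]
  let W : Subgroup V :=
    { carrier := {1, b, c, b * c}
      one_mem' := Or.inl rfl
      mul_mem' := fun {x y} hx hy => by
        have e1 : c * b = b * c := hab c b
        have e2 : b * (b * c) = c := by rw [← mul_assoc, hV, one_mul]
        have e3 : b * c * c = b := by rw [mul_assoc, hV, mul_one]
        have e4 : c * (b * c) = b := by rw [← mul_assoc, e1, e3]
        have e5 : b * c * b = c := by rw [mul_assoc, e1, e2]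
        rcases hx with e | e | e | e <;> rcases hy with e' | e' | e' | e' <;>
          (try rw [Set.mem_singleton_iff] at e) <;> (try rw [Set.mem_singleton_iff] at e') <;>
          subst e <;> subst e' <;>
          simp [hV, e1, e2, e3, e4, e5]
      inv_mem' := fun {x} hx => by rwa [inv_eq_of_mul_eq_one_right (hV x)] }
  have hbW : b ∈ W := Or.inr (Or.inl rfl)
  have hcW : c ∈ W := Or.inr (Or.inr (Or.inl rfl))
  -- `f * g` moves every element within `W`
  have hmove : ∀ w, ∃ d ∈ W, (f * g) w = d * w := fun w => by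
    rw [MulAut.mul_apply]
    rcases hc w with h | h <;> rw [h] <;> rcases hb _ with h' | h' <;> rw [h']
    · exact ⟨1, W.one_mem, (one_mul w).symm⟩
    · exact ⟨b, hbW, rfl⟩
    · exact ⟨c, hcW, rfl⟩
    · exact ⟨b * c, W.mul_mem hbW hcW, by rw [mul_assoc]⟩
  have hW : ∀ w ∈ W, (f * g) w ∈ W := fun w hw => by
    obtain ⟨d, hd, e⟩ := hmove w
    rw [e]; exact W.mul_mem hd hw
  have hWi : ∀ w ∈ W, (f * g)⁻¹ w ∈ W := fun w hw => by
    obtain ⟨d, hd, e⟩ := hmove ((f * g)⁻¹ w)
    rw [MulAut.apply_inv_self] at e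
    have : (f * g)⁻¹ w = d⁻¹ * w := eq_inv_mul_iff_mul_eq.2 e.symm
    rw [this]; exact W.mul_mem (W.inv_mem hd) hw
  let r : MulAut W :=
    { toFun := fun w => ⟨(f * g) w, hW w w.2⟩
      invFun := fun w => ⟨(f * g)⁻¹ w, hWi w w.2⟩
      left_inv := fun w => Subtype.ext (MulAut.inv_apply_self _ _ _)
      right_inv := fun w => Subtype.ext (MulAut.apply_inv_self _ _ _)
      map_mul' := fun x y => Subtype.ext (map_mul (f * g) _ _) }
  have hW4 : Nat.card W ≤ 4 := by
    show Nat.card ({1, b, c, b * c} : Set V) ≤ 4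
    rw [Nat.card_coe_set_eq]
    refine (Set.ncard_insert_le _ _).trans (Nat.succ_le_succ ?_)
    refine (Set.ncard_insert_le _ _).trans (Nat.succ_le_succ ?_)
    refine (Set.ncard_insert_le _ _).trans ?_
    rw [Set.ncard_singleton]
  have hr : r ^ 6 = 1 := by
    refine orderOf_dvd_iff_pow_eq_one.1 ((orderOf_dvd_natCard r).trans
      ((SmallGroups.Counting.card_mulAut_dvd_factorial W).trans ?_))
    rw [show (6 : ℕ) = Nat.factorial 3 by rfl]
    exact Nat.factorial_dvd_factorial (by omega)
  have hpow : ∀ (i : ℕ) (w : W), ((r ^ i) w : V) = ((f * g) ^ i) (w : V) := fun i => by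
    induction i with
    | zero => intro w; rfl
    | succ i ih =>
      intro w
      rw [pow_succ', pow_succ', MulAut.mul_apply, MulAut.mul_apply, ← ih]
      rfl
  have hfix : ∀ w ∈ W, ((f * g) ^ 6) w = w := fun w hw => by
    have := hpow 6 ⟨w, hw⟩
    rw [hr] at this
    exact this.symm
  have hmovek : ∀ (i : ℕ) (w : V), ∃ d ∈ W, ((f * g) ^ i) w = d * w := fun i => by
    induction i with
    | zero => exact fun w => ⟨1, W.one_mem, (one_mul w).symm⟩
    | succ i ih =>
      intro w
      obtain ⟨d, hd, e⟩ := ih w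
      obtain ⟨d', hd', e'⟩ := hmove w
      rw [pow_succ', MulAut.mul_apply, e, map_mul, e', ← mul_assoc]
      exact ⟨_, W.mul_mem (hW d hd) hd', rfl⟩
  have h12 : (f * g) ^ 12 = 1 := MulEquiv.ext fun w => by
    obtain ⟨d, hd, e⟩ := hmovek 6 w
    rw [show (12 : ℕ) = 6 + 6 from rfl, pow_add, MulAut.mul_apply, e, map_mul, hfix d hd, e,
      ← mul_assoc, hV, one_mul]
    rfl
  refine orderOf_dvd_iff_pow_eq_one.1 ?_
  have h1 : orderOf (f * g) ∣ 4 * 3 := orderOf_dvd_of_pow_eq_one h12
  exact ((Nat.coprime_two_right.2 hodd).pow_right 2).dvd_of_dvd_mul_left h1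

end Tv

/-! ### The bound on the Sylow subgroup -/

section Aut

variable {V : Type u} [Group V] [Finite V] {X : Subgroup (MulAut V)}

/-- A transvection outside `O₂` gives an element of order three. -/
theorem three_dvd_card (hV : ∀ a : V, a * a = 1)
    (hO : ∀ Y : Subgroup X, Y.Normal → IsPGroup 2 Y → Y = ⊥) {τ : X} (hτ : orderOf τ = 2)
    (htv : IsTv (τ : MulAut V)) : 3 ∣ Nat.card X := by
  obtain ⟨h, hh1, hodd, hinv⟩ := Involutions.BaerSuzuki.exists_odd_inverted τ hτ fun N hN hN2 hτN => by
    rw [hO N hN hN2, Subgroup.mem_bot] at hτN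
    rw [hτN, orderOf_one] at hτ
    omega
  obtain ⟨m, hm⟩ := hodd
  set r : X := h ^ (m + 1) with hr
  have hsq : r ^ 2 = h := by
    rw [hr, ← pow_mul, show (m + 1) * 2 = orderOf h + 1 by omega, pow_succ, pow_orderOf_eq_one,
      one_mul]
  have hτr : τ * r⁻¹ * τ⁻¹ = r := by
    rw [← conj_inv, hr, ← conj_pow, hinv, inv_pow, inv_inv]
  -- `τ` times the conjugate of `τ` by `r⁻¹`
  have hprod : τ * (r⁻¹ * τ * r⁻¹⁻¹) = h := by
    rw [inv_inv, show τ * (r⁻¹ * τ * r) = (τ * r⁻¹ * τ⁻¹) * (τ * τ) * r by group, hτr,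
      show τ * τ = 1 from by rw [← pow_two, ← hτ, pow_orderOf_eq_one], mul_one, ← pow_two, hsq]
  have h3 : ((h : X) : MulAut V) ^ 3 = 1 := by
    rw [← hprod, Subgroup.coe_mul]
    refine htv.pow_three_mul hV ?_ ?_
    · simpa using htv.conj ((r : MulAut V)⁻¹)
    · rw [← Subgroup.coe_mul, hprod, Subgroup.orderOf_coe]
      exact ⟨m, hm⟩
  have h3' : h ^ 3 = 1 := Subtype.ext (by simpa using h3)
  exact (orderOf_eq_prime h3' hh1) ▸ orderOf_dvd_natCard h

theorem card_mulAut_dvd_pred (hV : ∀ a : V, a * a = 1) {v : ℕ} (hv : Nat.card V = 2 ^ v) :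
    Nat.card (MulAut V) ∣ Nat.card (GL (Fin v) (ZMod 2)) := by
  haveI : Fact (Nat.Prime 2) := ⟨Nat.prime_two⟩
  letI : CommGroup V :=
    { (inferInstance : Group V) with
      mul_comm := fun x y => by
        have h1 : x⁻¹ = x := inv_eq_of_mul_eq_one_right (hV x)
        have h2 : y⁻¹ = y := inv_eq_of_mul_eq_one_right (hV y)
        calc x * y = (x * y)⁻¹ := (inv_eq_of_mul_eq_one_right (hV _)).symm
          _ = y * x := by rw [mul_inv_rev, h1, h2] }
  exact Fg6.FourGroupConj.card_mulAut_dvd (p := 2) (Q := V) (fun q => by rw [pow_two]; exact hV q) hv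

/-- A group of order seven of automorphisms of a group of order eight moves every element. -/
theorem seven_transitive (hv : Nat.card V = 8) (P : Subgroup X) (hP : Nat.card P = 7)
    {a b : V} (ha : a ≠ 1) (hb : b ≠ 1) : ∃ g ∈ P, (g : MulAut V) a = b := by
  classical
  haveI : Fact (Nat.Prime 7) := ⟨by norm_num⟩
  haveI : Fact (Nat.Prime 2) := ⟨Nat.prime_two⟩
  let C : Subgroup V :=
    { carrier := {w | ∀ g ∈ P, (g : MulAut V) w = w}
      one_mem' := fun g _ => map_one _
      mul_mem' := fun {x y} hx hy g hg => by rw [map_mul, hx g hg, hy g hg]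
      inv_mem' := fun {x} hx g hg => by rw [map_inv, hx g hg] }
  have hmod := (IsPGroup.of_card (p := 7) (n := 1) (by simpa using hP)).card_modEq_card_fixedPoints V
  have heq : Nat.card (MulAction.fixedPoints P V) = Nat.card C :=
    Nat.card_congr (Equiv.subtypeEquivRight fun w => by
      constructor
      · intro h g hg; exact h ⟨g, hg⟩
      · rintro h ⟨g, hg⟩; exact h g hg)
  rw [heq, hv] at hmod
  have hC : Nat.card C ∣ 2 ^ 3 := by
    have := C.card_subgroup_dvd_card
    rwa [hv] at this
  obtain ⟨j, hj, hj'⟩ := (Nat.dvd_prime_pow Nat.prime_two).1 hC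
  have hj0 : j = 0 := by
    rw [hj', Nat.ModEq] at hmod
    interval_cases j
    · rfl
    · norm_num at hmod
    · norm_num at hmod
    · exfalso
      have htop : C = ⊤ := Subgroup.eq_top_of_card_eq C (by rw [hj', hv]; norm_num)
      have hbot : P = ⊥ := (Subgroup.eq_bot_iff_forall P).2 fun g hg =>
        Subtype.ext (MulEquiv.ext fun w => (htop ▸ Subgroup.mem_top w : w ∈ C) g hg)
      rw [hbot, Subgroup.card_bot] at hP
      omega
  have hC1 : C = ⊥ := Subgroup.eq_bot_of_card_eq C (by rw [hj', hj0, pow_zero])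
  have hinj : Function.Injective fun g : P => (⟨((g : X) : MulAut V) a, by
      intro h; exact ha ((map_eq_one_iff _ (MulEquiv.injective _)).1 h)⟩ : {w : V // w ≠ 1}) := by
    intro g h hgh
    have e : (g⁻¹ * h) • a = a := by
      have e0 : g • a = h • a := congrArg Subtype.val hgh
      rw [mul_smul, ← e0, inv_smul_smul]
    haveI : Fact (Nat.Prime (Nat.card P)) := ⟨by rw [hP]; norm_num⟩
    rcases (MulAction.stabilizer P a).eq_bot_or_eq_top_of_prime_card with hs | hs
    · have := hs ▸ (MulAction.mem_stabilizer_iff.2 e)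
      exact inv_mul_eq_one.1 (Subgroup.mem_bot.1 this)
    · exfalso
      have : a ∈ C := fun g hg =>
        MulAction.mem_stabilizer_iff.1 (hs ▸ Subgroup.mem_top (⟨g, hg⟩ : P))
      exact ha (by simpa [hC1] using this)
  have hcard : Nat.card {w : V // w ≠ 1} ≤ Nat.card P := by
    have := Fintype.ofFinite V
    rw [hP, Nat.card_eq_fintype_card, Fintype.card_subtype_compl, Fintype.card_subtype_eq,
      ← Nat.card_eq_fintype_card, hv]
  obtain ⟨g, hg⟩ := (hinj.bijective_of_nat_card_le hcard).2 ⟨b, hb⟩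
  exact ⟨g, g.2, congrArg Subtype.val hg⟩

/-- No subgroup of the automorphisms of the group of order eight with trivial `O₂` and length at most
four has a Sylow 2-subgroup of order at least four. -/
theorem false_of_card_eight (hv : Nat.card V = 8) (hX : Nat.card X ∣ 168)
    (hO : ∀ Y : Subgroup X, Y.Normal → IsPGroup 2 Y → Y = ⊥)
    (hlen : ∀ n, Chain n (⊤ : Subgroup X) → n ≤ 4) (Q : Sylow 2 X) {k : ℕ}
    (hk : Nat.card (Q : Subgroup X) = 2 ^ k) (hk2 : 2 ≤ k) : False := by
  classical
  haveI : Fact (Nat.Prime 2) := ⟨Nat.prime_two⟩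
  haveI : Fact (Nat.Prime 7) := ⟨by norm_num⟩
  have h2k : 2 ^ 2 ≤ 2 ^ k := Nat.pow_le_pow_right two_pos hk2
  have hQX : 2 ^ k * (Q : Subgroup X).index = Nat.card X := hk ▸ (Q : Subgroup X).card_mul_index
  have hk3 : k ≤ 3 := by
    have h1 : 2 ^ k ∣ 8 * 21 := (Dvd.intro _ hQX).trans hX
    exact (Nat.pow_dvd_pow_iff_le_right (by norm_num : 1 < 2)).1
      ((Nat.Coprime.pow_left k (by norm_num : Nat.Coprime 2 21)).dvd_of_dvd_mul_right h1
        : 2 ^ k ∣ 2 ^ 3)
  have hidx : (Q : Subgroup X).index ∣ 21 := by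
    have h1 : (Q : Subgroup X).index ∣ 8 * 21 := (Subgroup.index_dvd_card _).trans hX
    exact (((Nat.Prime.coprime_iff_not_dvd Nat.prime_two).2 Q.not_dvd_index).symm.pow_right 3
      |>.dvd_of_dvd_mul_left h1)
  have hQne : (Q : Subgroup X) ≠ ⊤ := fun h => by
    have := hO ⊤ inferInstance (h ▸ Q.2)
    rw [h, this, Subgroup.card_bot] at hk
    omega
  have hi : (Q : Subgroup X).index ∈ Nat.divisors 21 := Nat.mem_divisors.2 ⟨hidx, by norm_num⟩
  rw [show Nat.divisors 21 = {1, 3, 7, 21} from by decide] at hi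
  simp only [Finset.mem_insert, Finset.mem_singleton] at hi
  rcases hi with hi | hi | hi | hi
  · exact hQne (Subgroup.index_eq_one.1 hi)
  · exact false_of_index_three hO Q (by rw [hk]; omega) hi
  all_goals
    obtain ⟨P⟩ : Nonempty (Sylow 7 X) := inferInstance
    have hcX : Nat.card X = 2 ^ k * (Q : Subgroup X).index := hQX.symm
    rw [hi] at hcX
    obtain ⟨j, hj⟩ := IsPGroup.iff_card.1 P.2
    have hj1 : j = 1 := by
      have hlow : 7 ^ 1 ∣ Nat.card (P : Subgroup X) :=
        P.pow_dvd_card_of_pow_dvd_card (by rw [hcX]; exact dvd_mul_of_dvd_right (by norm_num) _)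
      have hup : 7 ^ j ∣ 168 := hj ▸ (Subgroup.card_subgroup_dvd_card _).trans hX
      rw [hj, Nat.pow_dvd_pow_iff_le_right (by norm_num)] at hlow
      by_contra hne
      have : 7 ^ 2 ∣ 7 ^ j := pow_dvd_pow 7 (by omega)
      exact absurd (this.trans hup) (by norm_num)
    have hP7 : Nat.card (P : Subgroup X) = 7 := by rw [hj, hj1, pow_one]
    obtain ⟨a, ha, hQa⟩ : ∃ a : V, a ≠ 1 ∧ ∀ q ∈ (Q : Subgroup X), (q : MulAut V) a = a := by
      have h2 : 2 ∣ Nat.card V := by rw [hv]; norm_num
      obtain ⟨a, ha, hne⟩ :=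
        Q.2.exists_fixed_point_of_prime_dvd_card_of_fixed_point V h2 (a := (1 : V))
          (fun q => map_one (q : X).1)
      exact ⟨a, hne.symm, fun q hq => ha ⟨q, hq⟩⟩
    -- `P` is not normal
    have hn : Nat.card (Sylow 7 X) ≠ 1 := fun h => by
      haveI : Subsingleton (Sylow 7 X) := (Nat.card_eq_one_iff_unique.1 h).1
      haveI := P.normal_of_subsingleton
      haveI := isCyclic_of_prime_card hP7
      let f : ↥(Q : Subgroup X) →* MulAut (P : Subgroup X) :=
        (MulAut.conjNormal (H := (P : Subgroup X))).comp (Q : Subgroup X).subtype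
      have hf : Function.Injective f := by
        rw [← MonoidHom.ker_eq_bot_iff, Subgroup.eq_bot_iff_forall]
        intro q hq
        refine Subtype.ext (Subtype.ext (MulEquiv.ext fun b => ?_))
        rcases eq_or_ne b 1 with rfl | hb
        · exact map_one _
        obtain ⟨g, hg, rfl⟩ := seven_transitive hv (P : Subgroup X) hP7 ha hb
        have h := congrArg (fun e : MulAut (P : Subgroup X) => ((e ⟨g, hg⟩ : (P : Subgroup X)) : X)) hq
        simp only [f, MonoidHom.comp_apply, Subgroup.coe_subtype, MulAut.conjNormal_apply,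
          MulAut.one_apply] at h
        have h' := congrArg (fun e : X => (e : MulAut V)) (mul_inv_eq_iff_eq_mul.1 h)
        simp only [Subgroup.coe_mul] at h'
        calc ((q : X) : MulAut V) ((g : MulAut V) a)
            = (((q : X) : MulAut V) * (g : MulAut V)) a := rfl
          _ = (g : MulAut V) (((q : X) : MulAut V) a) := by rw [h']; rfl
          _ = (g : MulAut V) a := by rw [hQa _ q.2]
      have h1 := Subgroup.card_dvd_of_injective f hf
      rw [IsCyclic.card_mulAut, hP7, show Nat.totient 7 = 6 from by decide, hk] at h1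
      have := (pow_dvd_pow 2 hk2).trans h1
      norm_num at this
    -- so there are eight of them
    have hn8 : Nat.card (Sylow 7 X) = 8 ∧ k = 3 := by
      have h1 := card_sylow_modEq_one 7 X
      have hd : Nat.card (Sylow 7 X) ∣ 3 * 2 ^ k := by
        refine P.card_dvd_index.trans ?_
        have e := (P : Subgroup X).card_mul_index
        rw [hP7, hcX] at e
        first
          | exact ⟨3, by omega⟩
          | exact ⟨1, by omega⟩
      have hle := Nat.le_of_dvd (by positivity) hd
      generalize hN : Nat.card (Sylow 7 X) = N at hn h1 hd hle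
      interval_cases k
      all_goals
        norm_num at hd hle
        rw [Nat.ModEq] at h1
        interval_cases N <;> first | omega | (norm_num at hd)
    obtain ⟨hn8, rfl⟩ := hn8
  · -- order `56`: eight self-normalising subgroups of order seven
    have hN : Subgroup.normalizer ((P : Subgroup X) : Set X) = (P : Subgroup X) := by
      refine (Subgroup.eq_of_le_of_card_ge Subgroup.le_normalizer ?_).symm
      have e1 := (Subgroup.normalizer ((P : Subgroup X) : Set X)).card_mul_index
      have e2 : (Subgroup.normalizer ((P : Subgroup X) : Set X)).index = 8 :=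
        (Sylow.card_eq_index_normalizer P).symm.trans hn8
      rw [e2, hcX] at e1
      omega
    haveI := isCyclic_of_prime_card hP7
    have hle : Subgroup.normalizer ((P : Subgroup X) : Set X) ≤
        Subgroup.centralizer ((P : Subgroup X) : Set X) :=
      hN.le.trans (Subgroup.le_centralizer_iff_isMulCommutative.2 inferInstance)
    have hcompl := MonoidHom.ker_transferSylow_isComplement' P hle
    have hck := hcompl.card_mul
    rw [hP7, hcX] at hck
    have h8 := hO _ (inferInstance : (MonoidHom.transferSylow P hle).ker.Normal)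
      (IsPGroup.of_card (n := 3) (by omega))
    rw [h8, Subgroup.card_bot] at hck
    omega
  · -- order `168`: the stabiliser of a fixed element lengthens the chain
    have hor : MulAction.orbit X a = {w : V | w ≠ 1} := by
      ext w
      constructor
      · rintro ⟨g, rfl⟩ h
        exact ha ((map_eq_one_iff _ (MulEquiv.injective (g : MulAut V))).1 h)
      · intro hw
        obtain ⟨g, -, hg⟩ := seven_transitive hv (P : Subgroup X) hP7 ha hw
        exact ⟨g, hg⟩
    have h7 : (MulAction.stabilizer X a).index = 7 := by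
      rw [MulAction.index_stabilizer, hor]
      have := Fintype.ofFinite V
      rw [← Nat.card_coe_set_eq]
      show Nat.card {w : V // w ≠ 1} = 7
      rw [Nat.card_eq_fintype_card, Fintype.card_subtype_compl, Fintype.card_subtype_eq,
        ← Nat.card_eq_fintype_card, hv]
    have hcS := (MulAction.stabilizer X a).card_mul_index
    rw [h7, hcX] at hcS
    have hlt : (Q : Subgroup X) < MulAction.stabilizer X a := by
      refine lt_of_le_of_ne (fun q hq => MulAction.mem_stabilizer_iff.2 (hQa q hq)) fun h => ?_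
      rw [← h, hk] at hcS
      omega
    have htop : MulAction.stabilizer X a < ⊤ := lt_top_iff_ne_top.2 fun h => by
      rw [h, Subgroup.index_top] at h7
      omega
    have := hlen _ (((Chain.of_pGroup 3 _ hk).succ hlt).succ htop)
    omega

/-- The Sylow 2-subgroups have order at most two. -/
theorem sylow_le_two (hV : ∀ a : V, a * a = 1) {v : ℕ} (hv : Nat.card V = 2 ^ v) (hv4 : v ≤ 4)
    (hO : ∀ Y : Subgroup X, Y.Normal → IsPGroup 2 Y → Y = ⊥)
    (hlen : ∀ n, Chain n (⊤ : Subgroup X) → n + v ≤ 7)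
    (hoff : ∀ Q : Sylow 2 X, IsCyclic ↥(Q : Subgroup X) →
      ∃ τ : X, orderOf τ = 2 ∧ IsTv (τ : MulAut V))
    (Q : Sylow 2 X) : Nat.card (Q : Subgroup X) ≤ 2 := by
  haveI : Fact (Nat.Prime 2) := ⟨Nat.prime_two⟩
  by_contra hQ2
  push Not at hQ2
  obtain ⟨k, hk⟩ := IsPGroup.iff_card.1 Q.2
  have hk2 : 2 ≤ k := by
    by_contra h
    rw [hk] at hQ2
    interval_cases k <;> omega
  have h2k : 2 ^ 2 ≤ 2 ^ k := Nat.pow_le_pow_right two_pos hk2
  have hQne : (Q : Subgroup X) ≠ ⊤ := fun h => by
    have := hO ⊤ inferInstance (h ▸ Q.2)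
    rw [h, this, Subgroup.card_bot] at hk
    omega
  have hchain : Chain k (Q : Subgroup X) := Chain.of_pGroup k _ hk
  have hdvd : Nat.card X ∣ ∏ i : Fin v, (2 ^ v - 2 ^ (i : ℕ)) := by
    have h := (Subgroup.card_subgroup_dvd_card X).trans (card_mulAut_dvd_pred hV hv)
    rwa [Matrix.card_GL_field, ZMod.card] at h
  have h4X : 4 ∣ Nat.card X :=
    (show (4 : ℕ) ∣ 2 ^ k from pow_dvd_pow 2 hk2).trans
      (hk ▸ (Q : Subgroup X).card_subgroup_dvd_card)
  interval_cases v
  · norm_num at hdvd
    rw [hdvd] at h4X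
    norm_num at h4X
  · norm_num [Fin.prod_univ_succ] at hdvd
    rw [hdvd] at h4X
    norm_num at h4X
  · norm_num [Fin.prod_univ_succ] at hdvd
    exact absurd (h4X.trans hdvd) (by norm_num)
  · norm_num [Fin.prod_univ_succ] at hdvd
    exact false_of_card_eight (by simpa using hv) hdvd hO
      (fun n hn => by have := hlen n hn; omega) Q hk hk2
  · norm_num [Fin.prod_univ_succ] at hdvd
    norm_num at hv
    have hk_eq : k = 2 := by
      have := hlen _ (hchain.succ (lt_top_iff_ne_top.2 hQne))
      omega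
    subst hk_eq
    haveI : IsMulCommutative ↥(Q : Subgroup X) :=
      IsPGroup.isMulCommutative_of_card_eq_prime_sq (p := 2) hk
    have hco : IsCoatom (Q : Subgroup X) := ⟨hQne, fun H hH => by
      by_contra hH'
      have := hlen _ ((hchain.succ hH).succ (lt_top_iff_ne_top.2 hH'))
      omega⟩
    haveI : Group.IsSolvable X := ⟨⟨3, S0556.result _ hco⟩⟩
    have hΩ : ArithmeticFunction.cardFactors (Nat.card X) ≤ 3 := by
      have := hlen _ (Chain.of_solvable _ X rfl)
      omega
    obtain ⟨p, hp⟩ : ∃ p, (Q : Subgroup X).index = p := ⟨_, rfl⟩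
    have hQX : 4 * p = Nat.card X := by rw [← (Q : Subgroup X).card_mul_index, hk, hp]; norm_num
    have hpp : p.Prime := by
      rw [← hQX, ArithmeticFunction.cardFactors_mul (by norm_num)
        (hp ▸ Subgroup.index_ne_zero_of_finite),
        show (4 : ℕ) = 2 ^ 2 from rfl, ArithmeticFunction.cardFactors_apply_prime_pow Nat.prime_two]
        at hΩ
      refine ArithmeticFunction.cardFactors_eq_one_iff_prime.1 (le_antisymm (by omega) ?_)
      by_contra h
      have hp1 : p ≠ 1 := fun e => hQne (Subgroup.index_eq_one.1 (hp.trans e))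
      obtain ⟨q, hq, hqd⟩ := Nat.exists_prime_and_dvd hp1
      obtain ⟨c, hc⟩ := hqd
      have hc0 : c ≠ 0 := fun e => by
        rw [e, mul_zero] at hc; exact Subgroup.index_ne_zero_of_finite (hp.trans hc)
      rw [hc, ArithmeticFunction.cardFactors_mul hq.ne_zero hc0,
        ArithmeticFunction.cardFactors_apply_prime hq] at h
      omega
    have hp2 : p ≠ 2 := fun e => Q.not_dvd_index (by rw [hp, e])
    have hpd : p ∣ 315 := by
      have h1 : p ∣ 2 ^ 6 * 315 := (hp ▸ Subgroup.index_dvd_card _).trans hdvd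
      exact ((Nat.coprime_primes hpp Nat.prime_two).2 hp2).pow_right 6 |>.dvd_of_dvd_mul_left h1
    have hp357 : p = 3 ∨ p = 5 ∨ p = 7 := by
      have hle := Nat.le_of_dvd (by norm_num) hpd
      have h3 : p ∣ 3 * 3 * 5 * 7 := hpd
      simp only [hpp.dvd_mul, Nat.prime_dvd_prime_iff_eq hpp Nat.prime_three,
        Nat.prime_dvd_prime_iff_eq hpp (by norm_num : Nat.Prime 5),
        Nat.prime_dvd_prime_iff_eq hpp (by norm_num : Nat.Prime 7)] at h3
      tauto
    have hQ4 : 4 ≤ Nat.card (Q : Subgroup X) := by rw [hk]; norm_num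
    rcases hp357 with h | h | h
    · exact false_of_index_three hO Q hQ4 (hp.trans h)
    all_goals
      haveI : Fact p.Prime := ⟨hpp⟩
      obtain ⟨P⟩ : Nonempty (Sylow p X) := inferInstance
      obtain ⟨j, hj⟩ := IsPGroup.iff_card.1 P.2
      have hj1 : j = 1 := by
        have hlow : p ^ 1 ∣ Nat.card (P : Subgroup X) :=
          P.pow_dvd_card_of_pow_dvd_card (by rw [← hQX, pow_one]; exact Dvd.intro_left _ rfl)
        rw [hj, Nat.pow_dvd_pow_iff_le_right hpp.one_lt] at hlow
        by_contra hne
        have h2 : p ^ 2 ∣ 4 * p :=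
          (pow_dvd_pow p (by omega : 2 ≤ j)).trans (hj ▸ hQX ▸ Subgroup.card_subgroup_dvd_card _)
        rw [h] at h2
        norm_num at h2
      have hPp : Nat.card (P : Subgroup X) = p := by rw [hj, hj1, pow_one]
      haveI := isCyclic_of_prime_card hPp
      have hPi : (P : Subgroup X).index = 4 := by
        have e := (P : Subgroup X).card_mul_index
        rw [hPp, ← hQX, mul_comm 4 p] at e
        exact Nat.eq_of_mul_eq_mul_left hpp.pos e
      haveI : (P : Subgroup X).Normal := normal_of_small P fun d hd hd1 => by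
        rw [hPi] at hd
        have := Nat.le_of_dvd (by norm_num) hd
        rw [h] at hd1
        interval_cases d <;> first | omega | (norm_num at hd)
      obtain ⟨f, hf⟩ := sylow_embeds hO (P := (P : Subgroup X)) inferInstance
        (by rw [hPp, h]; decide) Q (by rw [hPp, hk, ← hQX]; norm_num)
    · -- `p = 5`: a cyclic Sylow subgroup of order four and no element of order three
      have hPP : Nat.card (P : Subgroup X) = 5 := hPp.trans h
      haveI : IsCyclic (MulAut (P : Subgroup X)) := by
        haveI : Fact (Nat.Prime 5) := ⟨by norm_num⟩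
        haveI : IsCyclic (ZMod (Nat.card (P : Subgroup X)))ˣ := by rw [hPP]; infer_instance
        exact (IsCyclic.mulAutMulEquiv (P : Subgroup X)).isCyclic.2 inferInstance
      obtain ⟨τ, hτ, htv⟩ := hoff Q (isCyclic_of_injective f hf)
      have := three_dvd_card hV hO hτ htv
      rw [← hQX, h] at this
      norm_num at this
    · -- `p = 7`
      have h1 := Subgroup.card_dvd_of_injective f hf
      rw [IsCyclic.card_mulAut, hPp, h, show Nat.totient 7 = 6 from by decide, hk] at h1
      norm_num at h1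

end Aut

end Cfsg.Agent.Lib.LengthEight21
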