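import Cfsg.Agent.Lib.LengthEight21.Family
import Cfsg.Agent.Lib.LengthEight21.SmallAut

/-!
# S3250: the worst member has a Sylow subgroup twice its kernel

Owner: helper21; proof in `notes/s3250_helper21.md`.
-/

set_option autoImplicit false
set_option linter.style.haveILetI false
set_option linter.unusedSectionVars false

open Subgroup

namespace Cfsg.Agent.Lib.LengthEight21

open Fusion.Alperin

universe u

variable {G : Type u} [Group G]

/-- Every element squares to one. -/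
def IsEA (A : Subgroup G) : Prop := ∀ a ∈ A, a * a = 1

theorem IsEA.comm {A : Subgroup G} (hA : IsEA A) {a b : G} (ha : a ∈ A) (hb : b ∈ A) :
    a * b = b * a := by
  have h1 : a⁻¹ = a := inv_eq_of_mul_eq_one_right (hA a ha)
  have h2 : b⁻¹ = b := inv_eq_of_mul_eq_one_right (hA b hb)
  calc a * b = (a * b)⁻¹ := (inv_eq_of_mul_eq_one_right (hA _ (mul_mem ha hb))).symm
    _ = b * a := by rw [mul_inv_rev, h1, h2]

theorem IsEA.conj {A : Subgroup G} (hA : IsEA A) (g : G) : IsEA (conjS g A) := by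
  rintro _ ⟨a, ha, rfl⟩
  rw [← map_mul, hA a ha, map_one]

/-- Two commuting elementary subgroups generate an elementary subgroup. -/
theorem IsEA.sup {A B : Subgroup G} (hA : IsEA A) (hB : IsEA B)
    (h : ∀ a ∈ A, ∀ b ∈ B, a * b = b * a) : IsEA (A ⊔ B) := by
  have hBA : B ≤ Subgroup.normalizer (A : Set G) := fun b hb => Subgroup.mem_normalizer_iff.2 fun a =>
    ⟨fun ha => by rwa [← h a ha b hb, mul_inv_cancel_right], fun ha => by
      have h1 := h _ ha b hb
      rw [inv_mul_cancel_right] at h1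
      have e : b * a * b⁻¹ = a := mul_left_cancel (a := b) (h1.symm)
      rwa [e] at ha⟩
  intro x hx
  rw [← SetLike.mem_coe, Subgroup.coe_mul_of_right_le_normalizer_left A B hBA] at hx
  obtain ⟨a, ha, b, hb, rfl⟩ := hx
  calc a * b * (a * b) = a * (b * a) * b := by group
    _ = a * (a * b) * b := by rw [h a ha b hb]
    _ = (a * a) * (b * b) := by group
    _ = 1 := by rw [hA a ha, hB b hb, one_mul]

/-- `Ω₁` of the centre of `T`. -/
def Vc (T : Subgroup G) : Subgroup G where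
  carrier := {v | v ∈ T ∧ v * v = 1 ∧ ∀ t ∈ T, t * v = v * t}
  one_mem' := ⟨T.one_mem, one_mul 1, fun t _ => by rw [mul_one, one_mul]⟩
  mul_mem' := by
    rintro a b ⟨ha, ha2, hac⟩ ⟨hb, hb2, hbc⟩
    refine ⟨T.mul_mem ha hb, ?_, fun t ht => by rw [← mul_assoc, hac t ht, mul_assoc, hbc t ht,
      mul_assoc]⟩
    rw [show a * b * (a * b) = a * (b * a) * b by group, ← hbc a ha,
      show a * (a * b) * b = (a * a) * (b * b) by group, ha2, hb2, one_mul]
  inv_mem' := by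
    rintro a ⟨ha, ha2, hac⟩
    rw [inv_eq_of_mul_eq_one_right ha2]
    exact ⟨ha, ha2, hac⟩

theorem Vc_le (T : Subgroup G) : Vc T ≤ T := fun _ h => h.1

theorem Vc_ea (T : Subgroup G) : IsEA (Vc T) := fun _ h => h.2.1

theorem Vc_comm {T : Subgroup G} {v t : G} (hv : v ∈ Vc T) (ht : t ∈ T) : t * v = v * t :=
  hv.2.2 t ht

theorem Vc_conj {T : Subgroup G} {g v : G} (hv : v ∈ Vc T) : g * v * g⁻¹ ∈ Vc (conjS g T) := by
  refine ⟨conj_mem_conjS hv.1, ?_, ?_⟩
  · rw [show g * v * g⁻¹ * (g * v * g⁻¹) = g * (v * v) * g⁻¹ by group, hv.2.1, mul_one,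
      mul_inv_cancel]
  · rintro _ ⟨t, ht, rfl⟩
    show g * t * g⁻¹ * (g * v * g⁻¹) = g * v * g⁻¹ * (g * t * g⁻¹)
    rw [show g * t * g⁻¹ * (g * v * g⁻¹) = g * (t * v) * g⁻¹ by group, hv.2.2 t ht]
    group

theorem normalizer_le_Vc (T : Subgroup G) [Finite G] :
    Subgroup.normalizer (T : Set G) ≤ Subgroup.normalizer (Vc T : Set G) := fun n hn => by
  refine mem_normalizer_of_conjS_eq (Subgroup.eq_of_le_of_card_ge ?_ (card_conjS _ _).ge)
  rintro _ ⟨v, hv, rfl⟩
  have := Vc_conj (g := n) hv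
  rwa [conjS_eq_of_mem_normalizer hn] at this

namespace Ctx.Worst

variable [Finite G] {X : Ctx G} {M T : Subgroup G} (W : X.Worst M T)
include W

theorem T_ne_bot : T ≠ ⊥ := by
  obtain ⟨z, hz⟩ := X.exists_isZ
  intro h
  have hzT := W.mem_of_isZ hz
  rw [h, Subgroup.mem_bot] at hzT
  have := hz.2.1
  rw [hzT, orderOf_one] at this
  omega

theorem res_ne_SS : X.Res T ≠ X.SS := by
  intro h
  obtain ⟨n, hn, a, ha, -, hch⟩ := W.bad
  rw [X.normalizer_eq W.T_ne_bot W.loc.1 (inf_eq_left.1 h)] at hn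
  refine hch ?_
  rw [W.half.mul_mem_iff (mul_mem hn ha.1) (inv_mem hn), W.half.mul_mem_iff hn ha.1, inv_mem_iff]
  tauto

theorem res_lt : X.Res T < X.SS := lt_of_le_of_ne inf_le_left W.res_ne_SS

theorem mem_Vc {z : G} (hz : X.IsZ z) : z ∈ Vc T :=
  ⟨W.mem_of_isZ hz, by rw [← pow_two, ← hz.2.1, pow_orderOf_eq_one],
    fun t ht => hz.2.2 t (W.loc.1 ht)⟩

theorem inf_centralizer_le :
    Subgroup.normalizer (T : Set G) ⊓ Subgroup.centralizer (Vc T : Set G) ≤ T := by
  obtain ⟨z, hz⟩ := X.exists_isZ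
  refine W.radical _ ((X.isPGroup_centralizer hz (W.mem_Vc hz)).to_le inf_le_right) inf_le_left
    fun n hn => mem_normalizer_of_conjS_eq (Subgroup.eq_of_le_of_card_ge ?_ (card_conjS _ _).ge)
  rintro _ ⟨c, hc, rfl⟩
  exact ⟨Subgroup.mul_mem _ (Subgroup.mul_mem _ hn hc.1) (Subgroup.inv_mem _ hn),
    mem_centralizer_conj (normalizer_le_Vc T hn) hc.2⟩

/-- The action of the normaliser on `Ω₁ Z(T)`. -/
noncomputable def act (_W : X.Worst M T) :
    ↥(Subgroup.normalizer (T : Set G)) →* MulAut ↥(Vc T) :=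
  (Vc T).normalizerMonoidHom.comp (Subgroup.inclusion (normalizer_le_Vc T))

theorem act_apply (n : ↥(Subgroup.normalizer (T : Set G))) (v : ↥(Vc T)) :
    ((W.act n v : ↥(Vc T)) : G) = (n : G) * v * (n : G)⁻¹ := rfl

theorem act_ker {n : ↥(Subgroup.normalizer (T : Set G))} : W.act n = 1 ↔ (n : G) ∈ T := by
  constructor
  · intro h
    refine W.inf_centralizer_le ⟨n.2, Subgroup.mem_centralizer_iff.2 fun v hv => ?_⟩
    have := W.act_apply n ⟨v, hv⟩
    rw [h] at this
    calc v * (n : G) = (n : G) * v * (n : G)⁻¹ * n :=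
          congrArg (fun s => s * (n : G)) this
      _ = (n : G) * v := by group
  · intro h
    refine MulEquiv.ext fun v => Subtype.ext ?_
    rw [W.act_apply, Vc_comm v.2 h, mul_inv_cancel_right]
    rfl

set_option maxHeartbeats 800000 in
theorem o2_range (Y : Subgroup ↥W.act.range) (hYn : Y.Normal) (hY : IsPGroup 2 Y) : Y = ⊥ := by
  haveI : Fact (Nat.Prime 2) := ⟨Nat.prime_two⟩
  set f := W.act.rangeRestrict with hf
  have hker : IsPGroup 2 f.ker := by
    intro k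
    have hk : ((k : ↥(Subgroup.normalizer (T : Set G))) : G) ∈ T :=
      W.act_ker.1 (congrArg Subtype.val k.2)
    obtain ⟨j, hj⟩ := (X.S.2.to_le W.loc.1) ⟨_, hk⟩
    refine ⟨j, Subtype.ext (Subtype.ext ?_)⟩
    rw [Subgroup.coe_pow, Subgroup.coe_pow]
    have h2 := congrArg Subtype.val hj
    rw [Subgroup.coe_pow, Subgroup.coe_one] at h2
    exact h2
  have hU : IsPGroup 2 ↥((Y.comap f).map (Subgroup.normalizer (T : Set G)).subtype) :=
    (hY.comap_of_ker_isPGroup f hker).map _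
  haveI := hYn.comap f
  have hle := W.radical _ hU (Subgroup.map_subtype_le _) fun n hn =>
    mem_normalizer_of_conjS_eq (Subgroup.eq_of_le_of_card_ge (by
      rintro _ ⟨_, ⟨a, ha, rfl⟩, rfl⟩
      exact ⟨⟨n, hn⟩ * a * ⟨n, hn⟩⁻¹, (inferInstance : (Y.comap f).Normal).conj_mem a ha _, rfl⟩)
      (card_conjS _ _).ge)
  rw [Subgroup.eq_bot_iff_forall]
  intro y hy
  obtain ⟨n, hn⟩ := W.act.rangeRestrict_surjective y
  have hnY : n ∈ Y.comap f := by rw [Subgroup.mem_comap, hf, hn]; exact hy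
  have hnT : (n : G) ∈ T := hle (Subgroup.mem_map_of_mem _ hnY)
  have h1 : W.act n = 1 := W.act_ker.2 hnT
  rw [← hn]
  exact Subtype.ext h1

theorem chain_range {t : ℕ} (ht : Nat.card T = 2 ^ t) (n : ℕ)
    (h : Chain n (⊤ : Subgroup ↥W.act.range)) : t + n ≤ 7 := by
  have hker : W.act.rangeRestrict.ker = T.subgroupOf (Subgroup.normalizer (T : Set G)) := by
    ext k
    rw [MonoidHom.ker_rangeRestrict, MonoidHom.mem_ker, W.act_ker, Subgroup.mem_subgroupOf]
  have h0 : Chain t W.act.rangeRestrict.ker := Chain.of_pGroup t _ (by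
    rw [hker, Nat.card_congr (Subgroup.subgroupOfEquivOfLe Subgroup.le_normalizer).toEquiv, ht])
  have h1 := (Chain.comap W.act.rangeRestrict W.act.rangeRestrict_surjective h0 h).map
    (Subgroup.normalizer (T : Set G)).subtype (Subgroup.subtype_injective _)
  rw [Subgroup.comap_top, ← MonoidHom.range_eq_map, Subgroup.range_subtype] at h1
  exact X.chain_le h1 (X.normalizer_ne_top W.T_ne_bot W.loc.1)

/-- A subgroup with the normaliser of `T` in its normaliser and more of `S` is not there. -/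
theorem no_bigger_of_le (C : Subgroup G) (hC : C ≤ X.SS) {z : G} (hz : X.IsZ z) (hzC : z ∈ C)
    (hN : Subgroup.normalizer (T : Set G) ≤ Subgroup.normalizer (C : Set G)) {x : G}
    (hx : x ∈ X.SS) (hxR : x ∉ X.Res T) : x ∉ Subgroup.normalizer (C : Set G) := by
  intro hxC
  obtain ⟨n, hn, a, ha, hna, hch⟩ := W.bad
  have hle : X.Res T ≤ X.Res C := inf_le_inf_left _ hN
  refine W.no_bigger C hC (X.isPGroup_centralizer hz hzC) (hN hn) (hle ha) (hle hna) hch
    (Or.inl (lt_of_le_of_ne (Subgroup.card_le_of_le hle) fun he => hxR ?_))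
  rw [Subgroup.eq_of_le_of_card_ge hle he.ge]
  exact ⟨hx, hxC⟩

/-- An element of `N_S(R)` outside `R` squaring into `R`. -/
theorem exists_swap : ∃ x ∈ X.SS, x ∉ X.Res T ∧
    x ∈ Subgroup.normalizer (X.Res T : Set G) ∧ x * x ∈ X.Res T := by
  haveI : Fact (Nat.Prime 2) := ⟨Nat.prime_two⟩
  obtain ⟨g, hg, hgR⟩ := SetLike.exists_of_lt (lt_inf_normalizer X.S.2 W.res_lt)
  obtain ⟨j, hj⟩ := (IsPGroup.iff_orderOf.1 X.S.2) ⟨g, hg.1⟩
  rw [Subgroup.orderOf_mk] at hj
  classical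
  have hex : ∃ i, g ^ 2 ^ i ∈ X.Res T :=
    ⟨j, by rw [← hj, pow_orderOf_eq_one]; exact one_mem _⟩
  have h0 : Nat.find hex ≠ 0 := fun h => hgR (by
    have h2 := Nat.find_spec hex
    rw [h, pow_zero, pow_one] at h2
    exact h2)
  refine ⟨g ^ 2 ^ (Nat.find hex - 1), pow_mem hg.1 _, Nat.find_min hex (by omega), pow_mem hg.2 _, ?_⟩
  rw [← pow_add, ← mul_two, ← pow_succ, show Nat.find hex - 1 + 1 = Nat.find hex by omega]
  exact Nat.find_spec hex

/-- A largest elementary subgroup of `R` outside `T`. -/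
theorem exists_offender : ∃ A : Subgroup G, A ≤ X.Res T ∧ IsEA A ∧
    (∀ B : Subgroup G, B ≤ X.Res T → IsEA B → Nat.card B ≤ Nat.card A) ∧ ¬ A ≤ T := by
  classical
  obtain ⟨A₀, ⟨hA₀R, hA₀⟩, hmax⟩ := Set.exists_max_image
    {A : Subgroup G | A ≤ X.Res T ∧ IsEA A} (fun A => Nat.card A) (Set.toFinite _)
    ⟨⊥, bot_le, fun a ha => by rw [Subgroup.mem_bot] at ha; rw [ha, mul_one]⟩
  set F := {A : Subgroup G | A ≤ X.Res T ∧ IsEA A ∧ Nat.card A = Nat.card A₀} with hF
  by_contra hno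
  push Not at hno
  have hle : ∀ A ∈ F, A ≤ T := fun A hA => hno A hA.1 hA.2.1 fun B h1 h2 =>
    hA.2.2 ▸ hmax B ⟨h1, h2⟩
  obtain ⟨z, hz⟩ := X.exists_isZ
  have hzJ : z ∈ sSup F := by
    have hzR : z ∈ X.Res T := W.T_le (W.mem_of_isZ hz)
    have hz2 : IsEA (Subgroup.zpowers z) := fun a ha => by
      obtain ⟨i, rfl⟩ := Subgroup.mem_zpowers_iff.1 ha
      rw [← (Commute.refl z).mul_zpow, show z * z = 1 by rw [← pow_two, ← hz.2.1, pow_orderOf_eq_one], one_zpow]
    have h1 : IsEA (A₀ ⊔ Subgroup.zpowers z) := hA₀.sup hz2 fun a ha b hb => by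
      obtain ⟨i, rfl⟩ := Subgroup.mem_zpowers_iff.1 hb
      exact (Commute.zpow_right (hz.2.2 a (hA₀R ha).1) i).eq
    have h2 := hmax _ ⟨sup_le hA₀R (Subgroup.zpowers_le.2 hzR), h1⟩
    have h3 : A₀ = A₀ ⊔ Subgroup.zpowers z := Subgroup.eq_of_le_of_card_ge le_sup_left h2
    exact le_sSup (show A₀ ∈ F from ⟨hA₀R, hA₀, rfl⟩)
      (h3 ▸ Subgroup.mem_sup_right (Subgroup.mem_zpowers z))
  have hN : ∀ g : G, (∀ A ∈ F, conjS g A ∈ F) → g ∈ Subgroup.normalizer ((sSup F : Subgroup G) : Set G) := by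
    intro g hg
    refine mem_normalizer_of_conjS_eq (Subgroup.eq_of_le_of_card_ge ?_ (card_conjS _ _).ge)
    rw [conjS, Subgroup.map_le_iff_le_comap]
    exact sSup_le fun A hA => Subgroup.map_le_iff_le_comap.1 (le_sSup (hg A hA))
  have hJT : sSup F ≤ T := sSup_le hle
  obtain ⟨x, hxS, hxR, hxN, -⟩ := W.exists_swap
  refine W.no_bigger_of_le (sSup F) (hJT.trans W.loc.1) hz hzJ (fun n hn => hN n fun A hA => ?_)
    hxS hxR (hN x fun A hA => ?_)
  · refine ⟨?_, hA.2.1.conj n, (card_conjS _ _).trans hA.2.2⟩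
    exact ((conjS_mono (hle A hA)).trans (conjS_eq_of_mem_normalizer hn).le).trans W.T_le
  · exact ⟨(conjS_mono hA.1).trans (conjS_eq_of_mem_normalizer hxN).le, hA.2.1.conj x,
      (card_conjS _ _).trans hA.2.2⟩

end Ctx.Worst

end Cfsg.Agent.Lib.LengthEight21
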