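import Cfsg.Agent.Lib.LengthEight21.Element

/-!
# S3250: `Ω₁ Z(T)` is pushed out of `T` by the normaliser of the Sylow subgroup

Owner: helper21; proof in `notes/s3250_helper21.md`.
-/

set_option autoImplicit false
set_option linter.style.haveILetI false
set_option linter.unusedSectionVars false

open Subgroup

namespace Cfsg.Agent.Lib.LengthEight21

open Fusion.Alperin

universe u

variable {G : Type u} [Group G]

/-- The elements of `Ω₁ Z(T)` of trivial `y`-norm. -/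
def Mv (T : Subgroup G) (y : G) : Subgroup G where
  carrier := {d | d ∈ Vc T ∧ y * d * y⁻¹ ∈ Vc T ∧ y * (y * d * y⁻¹) * y⁻¹ ∈ Vc T ∧
    d * (y * d * y⁻¹) * (y * (y * d * y⁻¹) * y⁻¹) = 1}
  one_mem' := by simp [one_mem]
  mul_mem' := by
    rintro a b ⟨ha, ha1, ha2, ha3⟩ ⟨hb, hb1, hb2, hb3⟩
    have e1 : y * (a * b) * y⁻¹ = y * a * y⁻¹ * (y * b * y⁻¹) := by group
    have e2 : y * (y * (a * b) * y⁻¹) * y⁻¹ =
        y * (y * a * y⁻¹) * y⁻¹ * (y * (y * b * y⁻¹) * y⁻¹) := by group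
    refine ⟨mul_mem ha hb, e1 ▸ mul_mem ha1 hb1, e2 ▸ mul_mem ha2 hb2, ?_⟩
    rw [e2, e1]
    generalize y * (y * a * y⁻¹) * y⁻¹ = a2 at ha2 ha3 ⊢
    generalize y * (y * b * y⁻¹) * y⁻¹ = b2 at hb2 hb3 ⊢
    generalize y * a * y⁻¹ = a1 at ha1 ha3 ⊢
    generalize y * b * y⁻¹ = b1 at hb1 hb3 ⊢
    calc a * b * (a1 * b1) * (a2 * b2) = a * (b * a1) * (b1 * a2) * b2 := by group
      _ = a * (a1 * b) * (a2 * b1) * b2 := by rw [(Vc_ea T).comm hb ha1, (Vc_ea T).comm hb1 ha2]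
      _ = a * a1 * (b * a2) * b1 * b2 := by group
      _ = a * a1 * (a2 * b) * b1 * b2 := by rw [(Vc_ea T).comm hb ha2]
      _ = (a * a1 * a2) * (b * b1 * b2) := by group
      _ = 1 := by rw [ha3, hb3, one_mul]
  inv_mem' := by
    rintro a ⟨ha, ha1, ha2, ha3⟩
    have e : a⁻¹ = a := inv_eq_of_mul_eq_one_right ha.2.1
    rw [e]
    exact ⟨ha, ha1, ha2, ha3⟩

theorem Mv_le (T : Subgroup G) (y : G) : Mv T y ≤ Vc T := fun _ h => h.1

section Decomp

variable [Finite G] {T : Subgroup G} {y : G} (hy : y ∈ Subgroup.normalizer (T : Set G))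
  (hy3 : y ^ 3 = 1)
include hy hy3

theorem conj_mem_Vc {w : G} (hw : w ∈ Vc T) : y * w * y⁻¹ ∈ Vc T :=
  (Subgroup.mem_normalizer_iff.1 (normalizer_le_Vc T hy) w).1 hw

theorem conj3 (w : G) : y * (y * (y * w * y⁻¹) * y⁻¹) * y⁻¹ = w := by
  have e : y * y * y = 1 := by rw [← hy3, pow_succ, pow_two]
  calc y * (y * (y * w * y⁻¹) * y⁻¹) * y⁻¹ = (y * y * y) * w * (y * y * y)⁻¹ := by group
    _ = w := by rw [e, one_mul, inv_one, mul_one]

theorem conj_mem_Mv {d : G} (hd : d ∈ Mv T y) : y * d * y⁻¹ ∈ Mv T y := by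
  obtain ⟨h0, h1, h2, h3⟩ := hd
  refine ⟨h1, h2, by rw [conj3 hy hy3]; exact h0, ?_⟩
  rw [conj3 hy hy3]
  calc y * d * y⁻¹ * (y * (y * d * y⁻¹) * y⁻¹) * d
      = d * (y * d * y⁻¹ * (y * (y * d * y⁻¹) * y⁻¹)) := (Vc_ea T).comm (mul_mem h1 h2) h0
    _ = 1 := by rw [← mul_assoc, h3]

/-- A fixed element of trivial norm is trivial. -/
theorem eq_one_of_fixed {d : G} (hd : d ∈ Mv T y) (hf : y * d * y⁻¹ = d) : d = 1 := by
  have h := hd.2.2.2
  rw [hf, hf, show d * d = 1 from hd.1.2.1, one_mul] at h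
  exact h

theorem exists_decomp {w : G} (hw : w ∈ Vc T) :
    ∃ d ∈ Mv T y, ∃ c ∈ Vc T ⊓ Subgroup.centralizer {y}, w = d * c := by
  obtain ⟨w1, hw1d⟩ : ∃ a, a = y * w * y⁻¹ := ⟨_, rfl⟩
  obtain ⟨w2, hw2d⟩ : ∃ a, a = y * w1 * y⁻¹ := ⟨_, rfl⟩
  have h1 : w1 ∈ Vc T := hw1d ▸ conj_mem_Vc hy hy3 hw
  have h2 : w2 ∈ Vc T := hw2d ▸ conj_mem_Vc hy hy3 h1
  have e3 : y * w2 * y⁻¹ = w := by rw [hw2d, hw1d]; exact conj3 hy hy3 w
  have hww : w * w = 1 := hw.2.1
  have h1' : w1 * w1 = 1 := h1.2.1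
  have h2' : w2 * w2 = 1 := h2.2.1
  refine ⟨w1 * w2, ⟨mul_mem h1 h2, ?_, ?_, ?_⟩, w * w1 * w2, ⟨mul_mem (mul_mem hw h1) h2, ?_⟩, ?_⟩
  · rw [show y * (w1 * w2) * y⁻¹ = (y * w1 * y⁻¹) * (y * w2 * y⁻¹) by group, e3, ← hw2d]
    exact mul_mem h2 hw
  · rw [show y * (y * (w1 * w2) * y⁻¹) * y⁻¹ =
      y * (y * w1 * y⁻¹) * y⁻¹ * (y * (y * w2 * y⁻¹) * y⁻¹) by group, e3, ← hw2d, e3, ← hw1d]
    exact mul_mem hw h1
  · rw [show y * (y * (w1 * w2) * y⁻¹) * y⁻¹ =
      y * (y * w1 * y⁻¹) * y⁻¹ * (y * (y * w2 * y⁻¹) * y⁻¹) by group,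
      show y * (w1 * w2) * y⁻¹ = (y * w1 * y⁻¹) * (y * w2 * y⁻¹) by group, e3, ← hw2d, e3, ← hw1d]
    calc w1 * w2 * (w2 * w) * (w * w1) = w1 * (w2 * w2) * (w * w) * w1 := by group
      _ = 1 := by rw [h2', hww, mul_one, mul_one, h1']
  · refine Subgroup.mem_centralizer_singleton_iff.2 (mul_inv_eq_iff_eq_mul.1 ?_).symm
    rw [show y * (w * w1 * w2) * y⁻¹ = (y * w * y⁻¹) * (y * w1 * y⁻¹) * (y * w2 * y⁻¹) by group,
      e3, ← hw1d, ← hw2d, (Vc_ea T).comm (mul_mem h1 h2) hw, mul_assoc]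
  · rw [(Vc_ea T).comm (mul_mem h1 h2) (mul_mem (mul_mem hw h1) h2), mul_assoc w,
      mul_assoc, show w1 * w2 * (w1 * w2) = 1 from (Vc_ea T) _ (mul_mem h1 h2), mul_one]

theorem card_Mv_mul : Nat.card (Mv T y) * Nat.card (Vc T ⊓ Subgroup.centralizer {y} : Subgroup G) ≤
    Nat.card (Vc T) := by
  rw [← Nat.card_prod]
  refine Nat.card_le_card_of_injective
    (fun p : ↥(Mv T y) × ↥(Vc T ⊓ Subgroup.centralizer {y}) =>
      (⟨(p.1 : G) * p.2, mul_mem (Mv_le T y p.1.2) p.2.2.1⟩ : ↥(Vc T))) ?_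
  rintro ⟨d, c⟩ ⟨d', c'⟩ h
  have h' : (d : G) * c = (d' : G) * c' := congrArg Subtype.val h
  have h1 : (d' : G)⁻¹ * d = (c' : G) * (c : G)⁻¹ := by
    calc (d' : G)⁻¹ * d = (d' : G)⁻¹ * ((d : G) * c) * (c : G)⁻¹ := by group
      _ = _ := by rw [h']; group
  have hm : (c' : G) * (c : G)⁻¹ ∈ Mv T y := h1 ▸ mul_mem (inv_mem d'.2) d.2
  have hc := Subgroup.mem_centralizer_singleton_iff.1
    (Subgroup.mul_mem (Subgroup.centralizer {y}) c'.2.2 (inv_mem c.2.2))
  have h2 := eq_one_of_fixed hy hy3 hm (mul_inv_eq_iff_eq_mul.2 hc.symm)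
  rw [h2] at h1
  exact Prod.ext (Subtype.ext (inv_mul_eq_one.1 h1).symm)
    (Subtype.ext (mul_inv_eq_one.1 h2).symm)

end Decomp

namespace Ctx.Worst

variable [Finite G] {X : Ctx G} {M T : Subgroup G} (W : X.Worst M T)
include W

theorem card_Mv {a n y : G} (haR : a ∈ X.Res T) (haT : a ∉ T)
    (hn : n ∈ Subgroup.normalizer (T : Set G))
    (hyz : y ∈ Subgroup.zpowers (a * (n * a * n⁻¹))) (hy : y ∈ Subgroup.normalizer (T : Set G))
    (hy3 : y ^ 3 = 1) (hyp : y ∉ W.pr) : Nat.card (Mv T y) = 4 := by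
  haveI : Fact (Nat.Prime 2) := ⟨Nat.prime_two⟩
  set b := n * a * n⁻¹ with hb
  set A := Vc T ⊓ Subgroup.centralizer {a} with hA
  set B := Vc T ⊓ Subgroup.centralizer {b} with hB
  have hcA : Nat.card (Vc T) ≤ 2 * Nat.card A := by
    have h := W.fix_index (one_mem _) haR haT
    rwa [one_mul, inv_one, mul_one] at h
  have hcB : Nat.card (Vc T) ≤ 2 * Nat.card B := W.fix_index hn haR haT
  have hcAB : Nat.card A ≤ 2 * Nat.card (A ⊓ B : Subgroup G) :=
    card_le_two_of_mul_mem inf_le_left fun p hp q hq hpD hqD => ⟨mul_mem hp hq,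
      mul_mem_of_card_le_two inf_le_left hcB hp.1 hq.1 (fun h => hpD ⟨hp, h⟩)
        fun h => hqD ⟨hq, h⟩⟩
  have hle : A ⊓ B ≤ Vc T ⊓ Subgroup.centralizer {y} := by
    rintro w ⟨⟨hw, hwa⟩, -, hwb⟩
    refine ⟨hw, Subgroup.mem_centralizer_singleton_iff.2 ?_⟩
    obtain ⟨i, rfl⟩ := Subgroup.mem_zpowers_iff.1 hyz
    have c1 : Commute w a := Subgroup.mem_centralizer_singleton_iff.1 hwa
    have c2 : Commute w b := Subgroup.mem_centralizer_singleton_iff.1 hwb
    exact ((c1.mul_right c2).zpow_right i).eq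
  have hcard := card_Mv_mul hy hy3
  have h4 : Nat.card (Mv T y) ≤ 4 := by
    have := Subgroup.card_le_of_le hle
    have := Nat.card_pos (α := ↥(Vc T ⊓ Subgroup.centralizer {y}))
    nlinarith
  obtain ⟨i, hi⟩ := IsPGroup.iff_card.1
    ((X.S.2.to_le W.loc.1).to_le ((Mv_le T y).trans (Vc_le T)))
  have hi2 : i ≤ 2 := (Nat.pow_le_pow_iff_right (by norm_num : 1 < 2)).1 (hi ▸ h4)
  interval_cases i
  · -- no element of trivial norm: `y` centralises `Ω₁ Z(T)`
    refine absurd (W.res_le_pr (W.T_le (W.inf_centralizer_le ⟨hy, ?_⟩))) hyp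
    refine Subgroup.mem_centralizer_iff.2 fun w hw => ?_
    obtain ⟨d, hd, c, hc, rfl⟩ := exists_decomp hy hy3 hw
    rw [(Subgroup.eq_bot_iff_forall _).1 (Subgroup.eq_bot_of_card_eq _ (by rw [hi, pow_zero])) d hd,
      one_mul]
    exact Subgroup.mem_centralizer_singleton_iff.1 hc.2
  · exfalso
    have hnt : Mv T y ≠ ⊥ := fun h => by rw [h, Subgroup.card_bot] at hi; norm_num at hi
    obtain ⟨d, hd, hd1⟩ := (Subgroup.bot_or_exists_ne_one (Mv T y)).resolve_left hnt
    have hfix : y * d * y⁻¹ = d := by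
      by_contra hne
      have h' : y * d * y⁻¹ ≠ 1 := fun h => hd1 (conj_eq_one_iff.1 h)
      have hsub : ({1, d, y * d * y⁻¹} : Set G) ⊆ (Mv T y : Set G) := by
        rintro e (rfl | rfl | rfl)
        · exact one_mem _
        · exact hd
        · exact conj_mem_Mv hy hy3 hd
      have h1 := Set.ncard_le_ncard hsub (Set.toFinite _)
      rw [Set.ncard_insert_of_notMem (by simp [Ne.symm hd1, Ne.symm h']),
        Set.ncard_pair (Ne.symm hne), ← Nat.card_coe_set_eq] at h1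
      change 3 ≤ Nat.card (Mv T y) at h1
      omega
    exact hd1 (eq_one_of_fixed hy hy3 hd hfix)
  · rw [hi]; norm_num

/-- A subgroup normalised by `R` and by an element of `S` outside is not normalised by `y`. -/
theorem not_normalizes {y x z : G} (hy : y ∈ Subgroup.normalizer (T : Set G)) (hyp : y ∉ W.pr)
    (C : Subgroup G) (hC : C ≤ X.SS) (hz : X.IsZ z) (hzC : z ∈ C)
    (hR : X.Res T ≤ Subgroup.normalizer (C : Set G)) (hx : x ∈ X.SS) (hxR : x ∉ X.Res T)
    (hxC : x ∈ Subgroup.normalizer (C : Set G)) : y ∉ Subgroup.normalizer (C : Set G) := by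
  intro hyC
  have hle : X.Res T ≤ X.Res C := le_inf inf_le_left hR
  obtain ⟨a, ha, hch⟩ : ∃ a ∈ T, ¬ (y * a * y⁻¹ ∈ M ↔ a ∈ M) := by
    by_contra h
    push Not at h
    exact hyp ⟨hy, h⟩
  refine W.no_bigger C hC (X.isPGroup_centralizer hz hzC) hyC (hle (W.T_le ha))
    (hle (W.T_le ((Subgroup.mem_normalizer_iff.1 hy a).1 ha))) hch
    (Or.inl (lt_of_le_of_ne (Subgroup.card_le_of_le hle) fun he => hxR ?_))
  rw [Subgroup.eq_of_le_of_card_ge hle he.ge]
  exact ⟨hx, hxC⟩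

theorem conj_swap {x : G} (hxx : x * x ∈ X.Res T) {A : Subgroup G}
    (hA : Subgroup.normalizer (T : Set G) ≤ Subgroup.normalizer (A : Set G)) :
    conjS x (conjS x A) = A := by
  rw [← conjS_mul, conjS_eq_of_mem_normalizer (hA hxx.2)]

theorem res_normalizes_conj {x : G} (hxN : x ∈ Subgroup.normalizer (X.Res T : Set G))
    {A : Subgroup G} (hA : Subgroup.normalizer (T : Set G) ≤ Subgroup.normalizer (A : Set G)) :
    X.Res T ≤ Subgroup.normalizer (conjS x A : Set G) := fun r hr => by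
  refine mem_normalizer_of_conjS_eq ?_
  have h1 : x⁻¹ * r * x ∈ X.Res T := (Subgroup.mem_normalizer_iff''.1 hxN r).1 hr
  rw [← conjS_mul, show r * x = x * (x⁻¹ * r * x) by group, conjS_mul,
    conjS_eq_of_mem_normalizer (hA h1.2)]

set_option maxHeartbeats 800000 in
/-- The conjugate of `Ω₁ Z(T)` by an element swapping `R` leaves `T`. -/
theorem conj_Vc_not_le {x : G} (hxS : x ∈ X.SS) (hxR : x ∉ X.Res T)
    (hxN : x ∈ Subgroup.normalizer (X.Res T : Set G)) (hxx : x * x ∈ X.Res T) :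
    ¬ conjS x (Vc T) ≤ T := by
  classical
  haveI : Fact (Nat.Prime 2) := ⟨Nat.prime_two⟩
  intro hV'
  obtain ⟨z, hz⟩ := X.exists_isZ
  obtain ⟨hR2, a, haN, haR, haT, ha2, -⟩ := W.index_two
  obtain ⟨n, hn, y, hyz, hy3, hy, hyinv, hyp⟩ := W.exists_inverted haR haT ha2
  have hMv := W.card_Mv haR haT hn hyz hy hy3 hyp
  set T' := conjS x T with hT'
  set I := T ⊓ T' with hI
  have hT'R : T' ≤ X.Res T := (conjS_mono W.T_le).trans (conjS_eq_of_mem_normalizer hxN).le
  have hT'ne : T' ≠ T := fun h => hxR ⟨hxS, mem_normalizer_of_conjS_eq h⟩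
  have hcT' : Nat.card T' = Nat.card T := card_conjS x T
  have hVT' : Vc T ≤ T' := by
    calc Vc T = conjS x (conjS x (Vc T)) := (W.conj_swap hxx (normalizer_le_Vc T)).symm
      _ ≤ T' := conjS_mono hV'
  have hsw : conjS x T' = T := W.conj_swap hxx le_rfl
  set U := Vc T ⊔ conjS x (Vc T) with hU
  have hUI : U ≤ I := sup_le (le_inf (Vc_le T) hVT') (le_inf hV' (conjS_mono (Vc_le T)))
  have hUea : IsEA U :=
    (Vc_ea T).sup ((Vc_ea T).conj x) fun p hp q hq => (Vc_comm hp (hV' hq)).symm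
  have hzU : z ∈ U := Subgroup.mem_sup_left (W.mem_Vc hz)
  have hUS : U ≤ X.SS := hUI.trans (inf_le_left.trans W.loc.1)
  have hIS : I ≤ X.SS := inf_le_left.trans W.loc.1
  have hRI : X.Res T ≤ Subgroup.normalizer (I : Set G) := fun r hr => by
    refine mem_normalizer_of_conjS_eq ?_
    rw [hI, conjS, Subgroup.map_inf_eq _ _ _ (MulEquiv.injective _)]
    exact congrArg₂ (· ⊓ ·) (conjS_eq_of_mem_normalizer hr.2)
      (conjS_eq_of_mem_normalizer (W.res_normalizes_conj hxN le_rfl hr))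
  have hxI : x ∈ Subgroup.normalizer (I : Set G) := by
    refine mem_normalizer_of_conjS_eq ?_
    rw [hI, conjS, Subgroup.map_inf_eq _ _ _ (MulEquiv.injective _)]
    exact (congrArg₂ (· ⊓ ·) (rfl : conjS x T = T') hsw).trans (inf_comm _ _)
  have hRU : X.Res T ≤ Subgroup.normalizer (U : Set G) := fun r hr =>
    mem_normalizer_of_conjS_eq (conjS_eq_sup (conjS_eq_of_mem_normalizer (normalizer_le_Vc T hr.2))
      (conjS_eq_of_mem_normalizer (W.res_normalizes_conj hxN (normalizer_le_Vc T) hr)))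
  have hxU : x ∈ Subgroup.normalizer (U : Set G) := by
    refine mem_normalizer_of_conjS_eq ?_
    rw [hU, conjS, Subgroup.map_sup]
    exact (congrArg₂ (· ⊔ ·) (rfl : conjS x (Vc T) = conjS x (Vc T))
      (W.conj_swap hxx (normalizer_le_Vc T))).trans (sup_comm _ _)
  have hzI : z ∈ I := hUI hzU
  have hyI := W.not_normalizes hy hyp I hIS hz hzI hRI hxS hxR hxI
  have hyU := W.not_normalizes hy hyp U hUS hz hzU hRU hxS hxR hxU
  -- `J`, the image of `I` under `y`
  set J := conjS y I with hJ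
  have hJT : J ≤ T := (conjS_mono inf_le_left).trans (conjS_eq_of_mem_normalizer hy).le
  have hTI : ∀ p ∈ T, ∀ q ∈ T, p ∉ I → q ∉ I → p * q ∈ I := fun p hp q hq hpI hqI =>
    ⟨mul_mem hp hq, mul_mem_of_card_le_two hT'R (hR2.le.trans (by rw [hcT'])) (W.T_le hp)
      (W.T_le hq) (fun h => hpI ⟨hp, h⟩) fun h => hqI ⟨hq, h⟩⟩
  have hTI2 : Nat.card T ≤ 2 * Nat.card I := card_le_two_of_mul_mem inf_le_left hTI
  have hyT : conjS y T = T := conjS_eq_of_mem_normalizer hy
  have hTJ : ∀ p ∈ T, ∀ q ∈ T, p ∉ J → q ∉ J → p * q ∈ J := fun p hp q hq hpJ hqJ =>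
    mul_mem_of_card_le_two hJT (hTI2.trans (Nat.mul_le_mul_left 2 (card_conjS y I).ge)) hp hq hpJ hqJ
  have hJI : ¬ J ≤ I := fun h => hyI (mem_normalizer_of_conjS_eq
    (Subgroup.eq_of_le_of_card_ge h (card_conjS y I).ge))
  obtain ⟨j₁, hj₁, hj₁I⟩ := SetLike.not_le_iff_exists.1 hJI
  -- elements commuting with `I` and `J` are central
  have hcen : ∀ {e : G}, (∀ i ∈ I, i * e = e * i) → (∀ j ∈ J, j * e = e * j) →
      ∀ t ∈ T, t * e = e * t := by
    intro e hi hj t ht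
    by_cases htI : t ∈ I
    · exact hi t htI
    · have h1 : Commute (t * j₁) e := hi _ (hTI t ht j₁ (hJT hj₁) htI hj₁I)
      have h2 : Commute j₁ e := hj _ hj₁
      have := h1.mul_left h2.inv_left
      rwa [mul_inv_cancel_right] at this
  have hVI : Vc T ≤ I := le_sup_left.trans hUI
  have hVJ : Vc T ≤ J :=
    (conjS_eq_of_mem_normalizer (normalizer_le_Vc T hy)).ge.trans (conjS_mono hVI)
  by_cases hIea : IsEA I
  · -- `T` would be elementary abelian
    have hD : I ⊓ J ≤ Vc T := fun e he => ⟨inf_le_left (a := T) he.1, hIea e he.1,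
      hcen (fun i hi => hIea.comm hi he.1) fun j hj => (hIea.conj y).comm hj he.2⟩
    set K := conjS y J with hK
    have hKJ : ¬ K ≤ J := fun h => hyI (by
      have h1 : conjS y J = conjS y I := Subgroup.eq_of_le_of_card_ge h (card_conjS y J).ge
      exact mem_normalizer_of_conjS_eq (Subgroup.map_injective (MulEquiv.injective _) h1))
    have hKI : ¬ K ≤ I := fun h => hyI (by
      have h1 : K = I := Subgroup.eq_of_le_of_card_ge h ((card_conjS y J).trans (card_conjS y I)).ge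
      have h2 : conjS y K = I := by
        rw [hK, hJ, ← conjS_mul, ← conjS_mul, show y * y * y = 1 by
          rw [← hy3, pow_succ, pow_two], conjS_one]
      rw [h1] at h2
      exact mem_normalizer_of_conjS_eq h2)
    obtain ⟨k₁, hk₁, hk₁I⟩ := SetLike.not_le_iff_exists.1 hKI
    obtain ⟨k₂, hk₂, hk₂J⟩ := SetLike.not_le_iff_exists.1 hKJ
    obtain ⟨k, hk, hkI, hkJ⟩ : ∃ k ∈ K, k ∉ I ∧ k ∉ J := by
      by_cases h1 : k₁ ∈ J
      · by_cases h2 : k₂ ∈ I
        · exact ⟨k₁ * k₂, mul_mem hk₁ hk₂, fun h => hk₁I ((Subgroup.mul_mem_cancel_right I h2).1 h),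
            fun h => hk₂J ((Subgroup.mul_mem_cancel_left J h1).1 h)⟩
        · exact ⟨k₂, hk₂, h2, hk₂J⟩
      · exact ⟨k₁, hk₁, hk₁I, h1⟩
    have hKT : K ≤ T := (conjS_mono hJT).trans hyT.le
    have hVK : Vc T ≤ K :=
      (conjS_eq_of_mem_normalizer (normalizer_le_Vc T hy)).ge.trans (conjS_mono hVJ)
    have hKea : IsEA K := (hIea.conj y).conj y
    have hTea : IsEA T := fun t ht => by
      by_cases h1 : t ∈ I
      · exact hIea t h1
      by_cases h2 : t ∈ J
      · exact hIea.conj y t h2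
      have htk : t * k ∈ K := hVK (hD ⟨hTI t ht k (hKT hk) h1 hkI, hTJ t ht k (hKT hk) h2 hkJ⟩)
      exact hKea t ((Subgroup.mul_mem_cancel_right K hk).1 htk)
    exact hT'ne (Subgroup.eq_of_le_of_card_ge
      (fun t ht => hVT' ⟨ht, hTea t ht, fun s hs => hTea.comm hs ht⟩ : T ≤ T') hcT'.le).symm
  · -- `T` has order `32` and would be abelian
    have hUne : U ≠ Vc T := fun h => by
      rw [h] at hyU
      exact hyU (normalizer_le_Vc T hy)
    have hUI' : U ≠ I := fun h => hIea (h ▸ hUea)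
    obtain ⟨ev, hev⟩ := IsPGroup.iff_card.1 ((X.S.2.to_le W.loc.1).to_le (Vc_le T))
    obtain ⟨eu, heu⟩ := IsPGroup.iff_card.1 (X.S.2.to_le hUS)
    obtain ⟨ei, hei⟩ := IsPGroup.iff_card.1 (X.S.2.to_le hIS)
    obtain ⟨et, het⟩ := IsPGroup.iff_card.1 (X.S.2.to_le W.loc.1)
    have grow : ∀ {A B : Subgroup G}, A ≤ B → A ≠ B → ∀ {p q : ℕ}, Nat.card A = 2 ^ p →
        Nat.card B = 2 ^ q → p < q := fun {A B} hAB hne {p q} hp hq => by
      have h := lt_of_le_of_ne (Subgroup.card_le_of_le hAB) fun he =>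
        hne (Subgroup.eq_of_le_of_card_ge hAB he.ge)
      rwa [hp, hq, Nat.pow_lt_pow_iff_right (by norm_num)] at h
    have o1 : 2 ≤ ev := by
      have h := Subgroup.card_le_of_le (Mv_le T y)
      rw [hMv, hev, show (4 : ℕ) = 2 ^ 2 by norm_num, Nat.pow_le_pow_iff_right (by norm_num)] at h
      exact h
    have o2 := grow le_sup_left (Ne.symm hUne) hev heu
    have o3 := grow hUI hUI' heu hei
    have o4 : ei < et := grow inf_le_left (fun h => by
      have h1 : T ≤ T' := inf_eq_left.1 h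
      exact hT'ne (Subgroup.eq_of_le_of_card_ge h1 hcT'.le).symm) hei het
    have o5 : et + 1 ≤ 6 := by
      have h := lt_of_le_of_ne (Subgroup.card_le_of_le W.res_lt.le) fun he => W.res_lt.ne
        (Subgroup.eq_of_le_of_card_ge W.res_lt.le he.ge)
      rw [hR2, het, X.card_S, ← pow_succ', Nat.pow_lt_pow_iff_right (by norm_num)] at h
      omega
    have hIU : Nat.card I ≤ 2 * Nat.card U := by
      rw [hei, heu, ← pow_succ', Nat.pow_le_pow_iff_right (by norm_num)]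
      omega
    have hIU' : ∀ i ∈ I, ∀ u ∈ U, i * u = u * i := by
      intro i hi
      suffices h : U ≤ Subgroup.centralizer {i} from fun u hu =>
        (Subgroup.mem_centralizer_singleton_iff.1 (h hu)).symm
      refine sup_le (fun v hv => Subgroup.mem_centralizer_singleton_iff.2 (Vc_comm hv hi.1).symm) ?_
      rintro _ ⟨v, hv, rfl⟩
      exact Subgroup.mem_centralizer_singleton_iff.2 ((Vc_conj (g := x) hv).2.2 i hi.2).symm
    have hIab : ∀ p ∈ I, ∀ q ∈ I, p * q = q * p := by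
      intro p hp q hq
      by_cases hpU : p ∈ U
      · exact (hIU' q hq p hpU).symm
      by_cases hqU : q ∈ U
      · exact hIU' p hp q hqU
      have h1 : Commute p (p⁻¹ * q) := hIU' p hp _ (mul_mem_of_card_le_two hUI hIU
        (inv_mem hp) hq (fun h => hpU ((Subgroup.inv_mem_iff U).1 h)) hqU)
      have h2 := (Commute.refl p).mul_right h1
      rwa [mul_inv_cancel_left] at h2
    have hJab : ∀ p ∈ J, ∀ q ∈ J, p * q = q * p := by
      rintro _ ⟨p, hp, rfl⟩ _ ⟨q, hq, rfl⟩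
      rw [← map_mul, ← map_mul, hIab p hp q hq]
    have hDc : ∀ e ∈ I ⊓ J, ∀ t ∈ T, t * e = e * t := fun e he =>
      hcen (fun i hi => hIab i hi e he.1) fun j hj => hJab j hj e he.2
    have hab : ∀ p ∈ T, ∀ q ∈ T, p * q = q * p := by
      by_contra hna
      -- the centre is `I ⊓ J`
      have hZ : ∀ e ∈ T, (∀ t ∈ T, t * e = e * t) → e ∈ I ⊓ J := by
        intro e he hec
        have key : ∀ L : Subgroup G, (∀ p ∈ L, ∀ q ∈ L, p * q = q * p) →
            (∀ p ∈ T, ∀ q ∈ T, p ∉ L → q ∉ L → p * q ∈ L) → e ∈ L := by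
          intro L hL hTL
          by_contra heL
          have hsplit : ∀ p ∈ T, ∃ l ∈ L, p = l ∨ p = l * e⁻¹ := fun p hp => by
            by_cases hpL : p ∈ L
            · exact ⟨p, hpL, Or.inl rfl⟩
            · exact ⟨p * e, hTL p hp e he hpL heL, Or.inr (mul_inv_cancel_right p e).symm⟩
          have hdec : ∀ p ∈ T, ∀ l ∈ L, (p = l ∨ p = l * e⁻¹) → l ∈ T := by
            rintro p hp l _ (rfl | h)
            · exact hp
            · rw [show l = p * e by rw [h, inv_mul_cancel_right]]; exact mul_mem hp he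
          refine hna fun p hp q hq => ?_
          obtain ⟨l, hl, hpl⟩ := hsplit p hp
          obtain ⟨m, hm, hqm⟩ := hsplit q hq
          have c0 : Commute l m := hL l hl m hm
          have c1 : Commute l e⁻¹ := Commute.inv_right (hec l (hdec p hp l hl hpl))
          have c2 : Commute e⁻¹ m := (Commute.inv_right (hec m (hdec q hq m hm hqm))).symm
          rcases hpl with rfl | rfl <;> rcases hqm with rfl | rfl
          · exact c0.eq
          · exact (c0.mul_right c1).eq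
          · exact (c0.mul_left c2).eq
          · exact ((c0.mul_right c1).mul_left (c2.mul_right (Commute.refl _))).eq
        exact ⟨key I hIab hTI, key J hJab hTJ⟩
      obtain ⟨i, hi, hiI⟩ : ∃ i ∈ I, y * i * y⁻¹ ∉ I := by
        obtain ⟨i, hi, e⟩ := hj₁
        exact ⟨i, hi, by rw [← MulAut.conj_apply]; exact e ▸ hj₁I⟩
      set j := y * i * y⁻¹ with hj
      have hjJ : j ∈ J := conj_mem_conjS hi
      have hiJ : i ∉ J := fun h => hiI (by
        refine (hZ _ (hJT hjJ) fun t ht => ?_).1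
        have h1 := hDc i ⟨hi, h⟩ (y⁻¹ * t * y) ((Subgroup.mem_normalizer_iff''.1 hy t).1 ht)
        calc t * j = y * (y⁻¹ * t * y * i) * y⁻¹ := by rw [hj]; group
          _ = y * (i * (y⁻¹ * t * y)) * y⁻¹ := by rw [h1]
          _ = j * t := by rw [hj]; group)
      set c := j * i * j⁻¹ * i⁻¹ with hc
      have hcI : c ∈ I := by
        refine mul_mem ?_ (inv_mem hi)
        exact hTI (j * i) (mul_mem (hJT hjJ) hi.1) j⁻¹ (inv_mem (hJT hjJ))
          (fun h => hiI ((Subgroup.mul_mem_cancel_right I hi).1 h))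
          fun h => hiI ((Subgroup.inv_mem_iff I).1 h)
      have hcJ : c ∈ J := by
        rw [hc, show j * i * j⁻¹ * i⁻¹ = j * (i * j⁻¹ * i⁻¹) by group]
        refine mul_mem hjJ ?_
        exact hTJ (i * j⁻¹) (mul_mem hi.1 (inv_mem (hJT hjJ))) i⁻¹ (inv_mem hi.1)
          (fun h => hiJ ((Subgroup.mul_mem_cancel_right J (inv_mem hjJ)).1 h))
          fun h => hiJ ((Subgroup.inv_mem_iff J).1 h)
      have hcT : c ∈ T := hcI.1
      have hcc : ∀ t ∈ T, t * c = c * t := hDc c ⟨hcI, hcJ⟩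
      have hji : j * i * j⁻¹ = c * i := by rw [hc, inv_mul_cancel_right]
      have hii : i * i ∈ I ⊓ J := ⟨mul_mem hi hi, hTJ i hi.1 i hi.1 hiJ hiJ⟩
      have hc2 : c * c = 1 := by
        have e1 : j * (i * i) * j⁻¹ = c * c * (i * i) := by
          calc j * (i * i) * j⁻¹ = (j * i * j⁻¹) * (j * i * j⁻¹) := by group
            _ = c * (i * c) * i := by rw [hji]; group
            _ = c * c * (i * i) := by rw [hcc i hi.1]; group
        rw [hDc _ hii j (hJT hjJ), mul_inv_cancel_right] at e1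
        exact mul_eq_right.1 e1.symm
      have hij : i * j * i⁻¹ = c * j := by
        calc i * j * i⁻¹ = c⁻¹ * (c * i) * j * i⁻¹ := by group
          _ = c⁻¹ * j := by rw [← hji]; group
          _ = c * j := by rw [inv_eq_of_mul_eq_one_right hc2]
      set k := y * j * y⁻¹ with hk
      have hkT : k ∈ T := (Subgroup.mem_normalizer_iff.1 hy j).1 (hJT hjJ)
      have hyc : y * c * y⁻¹ = k * j * k⁻¹ * j⁻¹ := by rw [hc, hk, hj]; group
      -- every element of `T` acts on `j` as `1`, `i`, `j` or `i * j` does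
      have htj : ∀ t ∈ T, t * j * t⁻¹ = j ∨ t * j * t⁻¹ = c * j := by
        intro t ht
        by_cases htJ : t ∈ J
        · exact Or.inl (by rw [hJab t htJ j hjJ, mul_inv_cancel_right])
        · right
          have h1 : i⁻¹ * t ∈ J := hTJ i⁻¹ (inv_mem hi.1) t ht
            (fun h => hiJ ((Subgroup.inv_mem_iff J).1 h)) htJ
          calc t * j * t⁻¹ = i * ((i⁻¹ * t) * j * (i⁻¹ * t)⁻¹) * i⁻¹ := by group
            _ = i * j * i⁻¹ := by rw [hJab _ h1 j hjJ, mul_inv_cancel_right]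
            _ = c * j := hij
      have hcV : c ∈ Vc T := ⟨hcT, hc2, hcc⟩
      have hfix : y * c * y⁻¹ = c ∨ y * c * y⁻¹ = 1 := by
        rcases htj k hkT with h | h
        · exact Or.inr (by rw [hyc, h, mul_inv_cancel])
        · exact Or.inl (by rw [hyc, h, mul_inv_cancel_right])
      have hc1 : c = 1 := by
        rcases hfix with h | h
        · have hev2 : ev = 2 := by omega
          have : Mv T y = Vc T :=
            Subgroup.eq_of_le_of_card_ge (Mv_le T y) (by rw [hMv, hev, hev2]; norm_num)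
          exact eq_one_of_fixed hy hy3 (this ▸ hcV) h
        · exact conj_eq_one_iff.1 h
      -- so `i` and `j` commute and are central
      have hiz : ∀ t ∈ T, t * i = i * t := by
        refine hcen (fun l hl => hIab l hl i hi) fun l hl => ?_
        rw [hc1, one_mul, mul_inv_eq_iff_eq_mul] at hji
        by_cases hlI : l ∈ I
        · exact hIab l hlI i hi
        · have h1 : Commute (j⁻¹ * l) i := (hDc (j⁻¹ * l) ⟨hTI j⁻¹ (inv_mem (hJT hjJ)) l (hJT hl)
            (fun h => hiI ((Subgroup.inv_mem_iff I).1 h)) hlI, J.mul_mem (J.inv_mem hjJ) hl⟩ i hi.1).symm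
          have h2 := Commute.mul_left (show Commute j i from hji) h1
          rwa [mul_inv_cancel_left] at h2
      exact hiJ (hZ i hi.1 hiz).2
    exact hUne (le_antisymm (fun u hu => ⟨(hUI hu).1, hUea u hu,
      fun t ht => hab t ht u (hUI hu).1⟩) le_sup_left)

end Ctx.Worst

end Cfsg.Agent.Lib.LengthEight21
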